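import Groth.Agent.AlgSp.K627.FpqcLocP
import Groth.Agent.AlgSp.K597.EtLoc
import Groth.Agent.S0087

/-!
# Fpqc locality on the base of the chart properties of morphisms of algebraic spaces
-/

set_option autoImplicit false
set_option backward.isDefEq.respectTransparency false

universe u

open CategoryTheory CategoryTheory.Limits AlgebraicGeometry Opposite Topology AlgSp K627.FpqcPts K627.FpqcRep
  K627.FpqcLocP

namespace K627.FpqcLocPInst

/-- Flatness codescends along faithfully flat ring maps. -/
theorem flat_codescends : RingHom.CodescendsAlong.{u} RingHom.Flat RingHom.FaithfullyFlat := by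
  refine RingHom.CodescendsAlong.mk _ RingHom.Flat.respectsIso fun R S T _ _ _ _ _ h h' ↦ ?_
  rw [RingHom.flat_algebraMap_iff] at h' ⊢
  rw [RingHom.faithfullyFlat_algebraMap_iff] at h
  exact Module.Flat.of_flat_tensorProduct R T S

theorem flat_descends : MorphismProperty.DescendsAlong @Flat Fpqc.{u} :=
  HasRingHomProperty.descendsAlong_flat flat_codescends

/-- Infimum of two properties Zariski local on the target. -/
theorem zarTarget_inf (P Q : MorphismProperty Scheme.{u}) [IsZariskiLocalAtTarget P]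
    [IsZariskiLocalAtTarget Q] : IsZariskiLocalAtTarget (P ⊓ Q) := by
  have : (P ⊓ Q).RespectsIso := MorphismProperty.RespectsIso.mk _
    (fun e f hf => ⟨(P.cancel_left_of_respectsIso _ _).2 hf.1, (Q.cancel_left_of_respectsIso _ _).2 hf.2⟩)
    (fun e f hf => ⟨(P.cancel_right_of_respectsIso _ _).2 hf.1, (Q.cancel_right_of_respectsIso _ _).2 hf.2⟩)
  exact IsZariskiLocalAtTarget.mk' (fun f U h => ⟨IsZariskiLocalAtTarget.restrict h.1 U,
    IsZariskiLocalAtTarget.restrict h.2 U⟩) (fun f ι U hU h =>
      ⟨IsZariskiLocalAtTarget.of_iSup_eq_top U hU fun i => (h i).1,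
        IsZariskiLocalAtTarget.of_iSup_eq_top U hU fun i => (h i).2⟩)

theorem lft (S : Scheme.{u}) : IsLocalOnBase (IsFpqcCover (S := S)) (LocP @LocallyOfFiniteType) :=
  isLocalOnBase_fpqc_locP K597.etLoc_lft S

theorem lfp (S : Scheme.{u}) : IsLocalOnBase (IsFpqcCover (S := S)) (LocP @LocallyOfFinitePresentation) :=
  isLocalOnBase_fpqc_locP K597.etLoc_lfp S

theorem flat (S : Scheme.{u}) : IsLocalOnBase (IsFpqcCover (S := S)) (LocP @Flat) :=
  have := flat_descends.{u}
  isLocalOnBase_fpqc_locP K597.etLoc_flat S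

theorem smooth (S : Scheme.{u}) : IsLocalOnBase (IsFpqcCover (S := S)) (LocP @Smooth) :=
  isLocalOnBase_fpqc_locP K597.etLoc_smooth S

theorem etale (S : Scheme.{u}) : IsLocalOnBase (IsFpqcCover (S := S)) (LocP @Etale) :=
  isLocalOnBase_fpqc_locP K597.etLoc_etale S

theorem lqf (S : Scheme.{u}) : IsLocalOnBase (IsFpqcCover (S := S))
    (LocP (@LocallyQuasiFinite ⊓ @LocallyOfFiniteType)) :=
  have := Groth.Agent.S0087.result.{u}
  have := K597.stableBC_inf @LocallyQuasiFinite.{u} @LocallyOfFiniteType.{u}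
  have := zarTarget_inf @LocallyQuasiFinite.{u} @LocallyOfFiniteType.{u}
  isLocalOnBase_fpqc_locP K597.etLoc_lqf S

theorem unram (S : Scheme.{u}) : IsLocalOnBase (IsFpqcCover (S := S))
    (LocP (@LocallyOfFiniteType ⊓ @FormallyUnramified)) :=
  have := K597.stableBC_inf @LocallyOfFiniteType.{u} @FormallyUnramified.{u}
  have := zarTarget_inf @LocallyOfFiniteType.{u} @FormallyUnramified.{u}
  isLocalOnBase_fpqc_locP K597.etLoc_unram S

end K627.FpqcLocPInst
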