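import Groth.Agent.AlgSp.K596.Univ
import Groth.Prelude.Def_AlgSpCov
import Mathlib.AlgebraicGeometry.Morphisms.Flat

/-!
# Fpqc descent of topological properties of morphisms of algebraic spaces

* `StdFpqc W c`: the finite families of `AlgSp.IsFpqcCover` (affine, flat, jointly surjective over an affine scheme).
* `FpqcLoc`: descent of closed / open / submersive / injective along such families.
* `isUnivXMor_iff_fpqc`.
-/

set_option autoImplicit false

universe u

open CategoryTheory CategoryTheory.Limits AlgebraicGeometry Opposite Topology AlgSp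

namespace K627.FpqcPts

variable {S : Scheme.{u}}

/-- A standard fpqc covering of an affine scheme: finitely many affine schemes, flat and jointly surjective. -/
structure StdFpqc {Z : Over S} {m : ℕ} (W : Fin m → Over S) (c : ∀ j, W j ⟶ Z) : Prop where
  aff : IsAffine Z.left
  aff' : ∀ j, IsAffine (W j).left
  flat : ∀ j, Flat (c j).left
  surj : ∀ z : ↥Z.left, ∃ j, z ∈ Set.range (c j).left

variable {Z : Over S} {m : ℕ} {W : Fin m → Over S} {c : ∀ j, W j ⟶ Z}

/-- The morphism from the disjoint union of the members. -/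
noncomputable abbrev sig (c : ∀ j, W j ⟶ Z) : (∐ fun j => (W j).left) ⟶ Z.left := Sigma.desc fun j => (c j).left

theorem sig_ι (c : ∀ j, W j ⟶ Z) (j : Fin m) : Sigma.ι (fun j => (W j).left) j ≫ sig c = (c j).left :=
  Sigma.ι_desc _ _

theorem StdFpqc.isAffine_sigma (h : StdFpqc W c) : IsAffine (∐ fun j => (W j).left) := by
  have := h.aff'
  infer_instance

theorem StdFpqc.flat_sig (h : StdFpqc W c) : Flat (sig c) := by
  have := h.flat
  infer_instance

theorem StdFpqc.surjective_sig (h : StdFpqc W c) : Surjective (sig c) := by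
  refine ⟨fun z => ?_⟩
  obtain ⟨j, w, hw⟩ := h.surj z
  refine ⟨Sigma.ι (fun j => (W j).left) j w, ?_⟩
  rw [← Scheme.Hom.comp_apply, sig_ι, hw]

theorem StdFpqc.quasiCompact_sig (h : StdFpqc W c) : QuasiCompact (sig c) := by
  have := h.isAffine_sigma
  have := h.aff
  infer_instance

theorem StdFpqc.isQuotientMap_sig (h : StdFpqc W c) : IsQuotientMap (sig c) := by
  have := h.flat_sig
  have := h.surjective_sig
  have := h.quasiCompact_sig
  exact Flat.isQuotientMap_of_surjective _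

theorem StdFpqc.isOpen_of (h : StdFpqc W c) {A : Set ↥Z.left} (hA : ∀ j, IsOpen ((c j).left ⁻¹' A)) :
    IsOpen A := by
  rw [← h.isQuotientMap_sig.isCoinducing.isOpen_preimage]
  have hcov : ∀ x : ↥(∐ fun j => (W j).left), ∃ (j : Fin m) (w : ↥(W j).left),
      Sigma.ι (fun j => (W j).left) j w = x := fun x => by
    obtain ⟨j, w, hw⟩ := (sigmaOpenCover fun j => (W j).left).exists_eq x
    exact ⟨j, w, hw⟩
  have e : (sig c) ⁻¹' A = ⋃ j, (Sigma.ι (fun j => (W j).left) j) '' ((c j).left ⁻¹' A) := by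
    ext x
    obtain ⟨j, w, rfl⟩ := hcov x
    constructor
    · intro hx
      refine Set.mem_iUnion.2 ⟨j, w, ?_, rfl⟩
      change sig c ((Sigma.ι (fun j => (W j).left) j) w) ∈ A at hx
      rwa [← Scheme.Hom.comp_apply, sig_ι] at hx
    · intro hx
      obtain ⟨j', w', hw', e⟩ := Set.mem_iUnion.1 hx
      rw [← e]
      change sig c ((Sigma.ι (fun j => (W j).left) j') w') ∈ A
      rwa [← Scheme.Hom.comp_apply, sig_ι]
  rw [e]
  exact isOpen_iUnion fun j => (Sigma.ι (fun j => (W j).left) j).isOpenEmbedding.isOpenMap _ (hA j)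

theorem preimage_points {Z W : Over S} (c : W ⟶ Z) (A : Set (Points ((yon S).obj Z))) :
    c.left ⁻¹' (Points.schemeHomeo Z ⁻¹' A) = Points.schemeHomeo W ⁻¹' (Points.map ((yon S).map c) ⁻¹' A) := by
  ext w
  simp only [Set.mem_preimage, Points.map_yon_map_apply]

theorem StdFpqc.isOpen_points_of (h : StdFpqc W c) {A : Set (Points ((yon S).obj Z))}
    (hA : ∀ j, IsOpen (Points.map ((yon S).map (c j)) ⁻¹' A)) : IsOpen A := by
  rw [← (Points.schemeHomeo Z).isOpen_preimage]
  refine h.isOpen_of fun j => ?_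
  rw [preimage_points]
  exact (hA j).preimage (Points.schemeHomeo _).continuous

theorem StdFpqc.isClosed_points_of (h : StdFpqc W c) {A : Set (Points ((yon S).obj Z))}
    (hA : ∀ j, IsClosed (Points.map ((yon S).map (c j)) ⁻¹' A)) : IsClosed A := by
  rw [← isOpen_compl_iff]
  refine h.isOpen_points_of fun j => ?_
  rw [Set.preimage_compl, isOpen_compl_iff]
  exact hA j

theorem StdFpqc.exists_points (h : StdFpqc W c) (z : Points ((yon S).obj Z)) :
    ∃ j w, Points.map ((yon S).map (c j)) w = z := by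
  obtain ⟨z, rfl⟩ := (Points.schemeHomeo Z).surjective z
  obtain ⟨j, w, hw⟩ := h.surj z
  exact ⟨j, Points.schemeHomeo _ w, by rw [Points.map_yon_map_apply, hw]⟩

section Descent

variable {P : Sp S} {b : P ⟶ (yon S).obj Z} {Pj : Fin m → Sp S} {fst : ∀ j, Pj j ⟶ P}
  {snd : ∀ j, Pj j ⟶ (yon S).obj (W j)}

theorem StdFpqc.isClosedMap (h : StdFpqc W c) (sq : ∀ j, IsPullback (fst j) (snd j) b ((yon S).map (c j)))
    (hj : ∀ j, IsClosedMap (Points.map (snd j))) : IsClosedMap (Points.map b) := by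
  intro D hD
  refine h.isClosed_points_of fun j => ?_
  rw [K596.Pts.preimage_image (sq j)]
  exact hj j _ (hD.preimage (Points.continuous_map _))

theorem StdFpqc.isOpenMap (h : StdFpqc W c) (sq : ∀ j, IsPullback (fst j) (snd j) b ((yon S).map (c j)))
    (hj : ∀ j, IsOpenMap (Points.map (snd j))) : IsOpenMap (Points.map b) := by
  intro D hD
  refine h.isOpen_points_of fun j => ?_
  rw [K596.Pts.preimage_image (sq j)]
  exact hj j _ (hD.preimage (Points.continuous_map _))

theorem StdFpqc.surjective (h : StdFpqc W c) (sq : ∀ j, IsPullback (fst j) (snd j) b ((yon S).map (c j)))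
    (hj : ∀ j, Function.Surjective (Points.map (snd j))) : Function.Surjective (Points.map b) := by
  intro z
  obtain ⟨j, w, rfl⟩ := h.exists_points z
  obtain ⟨p, rfl⟩ := hj j w
  exact ⟨Points.map (fst j) p, by rw [← Points.map_comp, ← Points.map_comp, (sq j).w]⟩

theorem StdFpqc.isQuotientMap (h : StdFpqc W c) (sq : ∀ j, IsPullback (fst j) (snd j) b ((yon S).map (c j)))
    (hj : ∀ j, IsQuotientMap (Points.map (snd j))) : IsQuotientMap (Points.map b) := by
  refine ⟨.of_isOpen_preimage_iff_isOpen fun A =>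
    ⟨fun hA => ?_, fun hA => hA.preimage (Points.continuous_map b)⟩,
    h.surjective sq fun j => (hj j).surjective⟩
  refine h.isOpen_points_of fun j => ?_
  rw [← (hj j).isCoinducing.isOpen_preimage, ← Set.preimage_comp]
  have e : (Points.map ((yon S).map (c j))) ∘ (Points.map (snd j)) = Points.map b ∘ Points.map (fst j) := by
    funext z
    simp only [Function.comp_apply, ← Points.map_comp, (sq j).w]
  rw [e]
  exact hA.preimage (Points.continuous_map _)

theorem StdFpqc.injective (h : StdFpqc W c) (sq : ∀ j, IsPullback (fst j) (snd j) b ((yon S).map (c j)))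
    (hj : ∀ j, Function.Injective (Points.map (snd j))) : Function.Injective (Points.map b) := by
  intro x x' e
  obtain ⟨j, w, hw⟩ := h.exists_points (Points.map b x)
  obtain ⟨p, hp, hp'⟩ := K596.Pts.exists_of_isPullback (sq j) x w hw.symm
  obtain ⟨p', hq, hq'⟩ := K596.Pts.exists_of_isPullback (sq j) x' w (e.symm.trans hw.symm)
  rw [← hp, ← hq, hj j (hp'.trans hq'.symm)]

theorem StdFpqc.compactSpace (h : StdFpqc W c) (sq : ∀ j, IsPullback (fst j) (snd j) b ((yon S).map (c j)))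
    (hj : ∀ j, CompactSpace (Points (Pj j))) : CompactSpace (Points P) := by
  have e : (Set.univ : Set (Points P)) = ⋃ j, Set.range (Points.map (fst j)) := by
    symm
    rw [Set.eq_univ_iff_forall]
    intro x
    obtain ⟨j, w, hw⟩ := h.exists_points (Points.map b x)
    obtain ⟨p, hp, -⟩ := K596.Pts.exists_of_isPullback (sq j) x w hw.symm
    exact Set.mem_iUnion.2 ⟨j, p, hp⟩
  refine ⟨?_⟩
  rw [e]
  exact isCompact_iUnion fun j => isCompact_range (Points.continuous_map _)

end Descent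

/-- The data of an fpqc covering over an affine scheme. -/
theorem exists_std {ι : Type u} {Y : Sp S} {Yi : ι → Sp S} {g : ∀ i, Yi i ⟶ Y} (hg : IsFpqcCover Yi g)
    (Z : Over S) (hZ : IsAffine Z.left) (h : (yon S).obj Z ⟶ Y) :
    ∃ (m : ℕ) (W : Fin m → Over S) (c : ∀ j, W j ⟶ Z), StdFpqc W c ∧
      ∀ j, ∃ (i : ι) (l : (yon S).obj (W j) ⟶ Yi i), l ≫ g i = (yon S).map (c j) ≫ h := by
  obtain ⟨m, W, c, h1, h2, h3, h4⟩ := hg.2 Z hZ h
  exact ⟨m, W, c, ⟨hZ, h1, h2, h3⟩, h4⟩

/-- If `W ⟶ Z ⟶ Y` factors through `g : Y₁ ⟶ Y`, the base change of `f` to `Z`, pulled back to `W`, is a base change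
of the base change of `f` along `g`. -/
theorem isPullback_lift {X Y X₁ Y₁ P Q A B : Sp S} {f : X ⟶ Y} {g : Y₁ ⟶ Y} {p : X₁ ⟶ Y₁} {q : X₁ ⟶ X}
    (sq : IsPullback q p f g) {a : P ⟶ X} {b : P ⟶ A} {h : A ⟶ Y} (sqP : IsPullback a b f h)
    {fst : Q ⟶ P} {snd : Q ⟶ B} {c : B ⟶ A} (sqQ : IsPullback fst snd b c) (l : B ⟶ Y₁) (hl : l ≫ g = c ≫ h) :
    ∃ k : Q ⟶ X₁, k ≫ q = fst ≫ a ∧ IsPullback k snd p l := by
  have sq2 := sqQ.paste_horiz sqP
  have w : (fst ≫ a) ≫ f = (snd ≫ l) ≫ g := by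
    rw [sq2.w, Category.assoc, hl]
  refine ⟨sq.lift _ _ w, sq.lift_fst _ _ w, ?_⟩
  refine IsPullback.of_right (h₁₂ := q) (h₂₂ := g) (v₁₃ := f) ?_ (sq.lift_snd _ _ w) sq
  rw [sq.lift_fst, hl]
  exact sq2

/-- A property of morphisms to an affine scheme which descends along standard fpqc coverings. -/
def Descends (Q : MorphismProperty (Sp S)) : Prop :=
  ∀ ⦃Z : Over S⦄ ⦃m : ℕ⦄ ⦃W : Fin m → Over S⦄ ⦃c : ∀ j, W j ⟶ Z⦄, StdFpqc W c →
    ∀ ⦃P : Sp S⦄ (b : P ⟶ (yon S).obj Z) (Pj : Fin m → Sp S) (fst : ∀ j, Pj j ⟶ P)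
      (snd : ∀ j, Pj j ⟶ (yon S).obj (W j)),
      (∀ j, IsPullback (fst j) (snd j) b ((yon S).map (c j))) → (∀ j, Q (snd j)) → Q b

/-- `Q` holds after every base change to an affine scheme. -/
def OnAffine (Q : MorphismProperty (Sp S)) : MorphismProperty (Sp S) := fun X Y f =>
  ∀ (Z : Over S), IsAffine Z.left → ∀ (h : (yon S).obj Z ⟶ Y) (P : Sp S) (a : P ⟶ X) (b : P ⟶ (yon S).obj Z),
    IsPullback a b f h → Q b

theorem univSp_onAffine {Q : MorphismProperty (Sp S)} {X Y : Sp S} {f : X ⟶ Y} (h : UnivSp Q f) : OnAffine Q f :=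
  fun _ _ g _ a b sq => h (IsAlgSpace.yon_obj _) g a b sq

theorem univSp_of_isPullback {Q : MorphismProperty (Sp S)} {X Y X' Y' : Sp S} {f : X ⟶ Y} {g : Y' ⟶ Y}
    {p : X' ⟶ Y'} {q : X' ⟶ X} (sq : IsPullback q p f g) (h : UnivSp Q f) : UnivSp Q p :=
  fun _ _ hZ k fst snd sq' => h hZ (k ≫ g) (fst ≫ q) snd (sq'.paste_horiz sq)

theorem onAffine_of_isPullback {Q : MorphismProperty (Sp S)} {X Y X' Y' : Sp S} {f : X ⟶ Y} {g : Y' ⟶ Y}
    {p : X' ⟶ Y'} {q : X' ⟶ X} (sq : IsPullback q p f g) (h : OnAffine Q f) : OnAffine Q p :=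
  fun _ hZ k _ fst snd sq' => h _ hZ (k ≫ g) _ (fst ≫ q) snd (sq'.paste_horiz sq)

/-- Descent of `OnAffine Q` along an fpqc covering. -/
theorem onAffine_of_fpqc {Q : MorphismProperty (Sp S)} (hQ : Descends Q) {ι : Type u} {Y : Sp S}
    {Yi : ι → Sp S} {g : ∀ i, Yi i ⟶ Y} (hg : IsFpqcCover Yi g) {X : Sp S} {f : X ⟶ Y} {Xi : ι → Sp S}
    {p : ∀ i, Xi i ⟶ Yi i} {q : ∀ i, Xi i ⟶ X} (sq : ∀ i, IsPullback (q i) (p i) f (g i))
    (h : ∀ i, OnAffine Q (p i)) : OnAffine Q f := by
  intro Z hZ k P a b sqP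
  obtain ⟨m, W, c, hstd, hl⟩ := exists_std hg Z hZ k
  refine hQ hstd b _ _ _ (fun j => IsPullback.of_hasPullback b ((yon S).map (c j))) fun j => ?_
  obtain ⟨i, l, hl⟩ := hl j
  obtain ⟨r, -, hr⟩ := isPullback_lift (sq i) sqP (IsPullback.of_hasPullback b ((yon S).map (c j))) l hl
  exact h i _ (hstd.aff' j) l _ r _ hr

theorem descends_closed : Descends (S := S) IsClosedMor := fun _ _ _ _ h _ _ _ _ _ sq hj => h.isClosedMap sq hj

theorem descends_open : Descends (S := S) IsOpenMor := fun _ _ _ _ h _ _ _ _ _ sq hj => h.isOpenMap sq hj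

theorem descends_submersive : Descends (S := S) IsSubmersiveMor :=
  fun _ _ _ _ h _ _ _ _ _ sq hj => h.isQuotientMap sq hj

theorem descends_surjective : Descends (S := S) IsSurjectiveMor :=
  fun _ _ _ _ h _ _ _ _ _ sq hj => h.surjective sq hj

theorem descends_injective : Descends (S := S) (fun _ _ f => Function.Injective (Points.map f)) :=
  fun _ _ _ _ h _ _ _ _ _ sq hj => h.injective sq hj

theorem isHomeomorph_iff' {X Y : Sp S} (f : X ⟶ Y) : IsHomeomorph (Points.map f) ↔
    IsOpenMap (Points.map f) ∧ Function.Injective (Points.map f) ∧ Function.Surjective (Points.map f) :=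
  ⟨fun h => ⟨h.isOpenMap, h.bijective.1, h.bijective.2⟩,
    fun h => ⟨Points.continuous_map f, h.1, h.2⟩⟩

theorem descends_homeo : Descends (S := S) (fun _ _ f => IsHomeomorph (Points.map f)) := by
  intro Z m W c h P b Pj fst snd sq hj
  exact (isHomeomorph_iff' b).2 ⟨h.isOpenMap sq fun j => (hj j).isOpenMap,
    h.injective sq fun j => (hj j).injective, h.surjective sq fun j => (hj j).surjective⟩

/-! ### universal properties are tested on affine schemes -/

theorem isUnivClosedMor_iff {X Y : Sp S} (f : X ⟶ Y) : IsUnivClosedMor f ↔ OnAffine IsClosedMor f :=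
  K596.Univ.isUnivClosedMor_iff_affine f

theorem isUnivOpenMor_iff {X Y : Sp S} (f : X ⟶ Y) : IsUnivOpenMor f ↔ OnAffine IsOpenMor f :=
  K596.Univ.isUnivOpenMor_iff_affine f

theorem isUnivSubmersiveMor_iff {X Y : Sp S} (f : X ⟶ Y) : IsUnivSubmersiveMor f ↔ OnAffine IsSubmersiveMor f :=
  ⟨univSp_onAffine, fun h => K596.Univ.isUnivSubmersiveMor_of_affine fun Z hZ g =>
      ⟨_, _, _, IsPullback.of_hasPullback f g, h Z hZ g _ _ _ (IsPullback.of_hasPullback f g)⟩⟩

/-- The base change to a scheme of a base change. -/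
theorem exists_test {X Y Z P A : Sp S} {f : X ⟶ Y} {g : Z ⟶ Y} {fst : P ⟶ X} {snd : P ⟶ Z}
    (sq : IsPullback fst snd f g) (h : A ⟶ Z) : ∃ (R : Sp S) (a : R ⟶ P) (b : R ⟶ A), IsPullback a b snd h ∧
      IsPullback (a ≫ fst) b f (h ≫ g) :=
  ⟨_, _, _, IsPullback.of_hasPullback snd h, (IsPullback.of_hasPullback snd h).paste_horiz sq⟩

theorem injective_of_onAffine {X Y Z P : Sp S} {f : X ⟶ Y}
    (hf : OnAffine (fun _ _ f => Function.Injective (Points.map f)) f) {g : Z ⟶ Y} {fst : P ⟶ X} {snd : P ⟶ Z}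
    (sq : IsPullback fst snd f g) : Function.Injective (Points.map snd) := by
  intro x x' e
  obtain ⟨K, _, str, h, hh⟩ := K596.Pts.exists_fpt (Points.map snd x)
  obtain ⟨R, a, b, sq1, sq2⟩ := exists_test sq h
  have hb := hf (Over.mk str) (by dsimp; infer_instance) _ R _ b sq2
  obtain ⟨r, hr, hr'⟩ := K596.Pts.exists_of_isPullback sq1 x (K596.Pts.fpt (𝟙 _))
    (by rw [K596.Pts.map_fpt, Category.id_comp, hh])
  obtain ⟨r', hs, hs'⟩ := K596.Pts.exists_of_isPullback sq1 x' (K596.Pts.fpt (𝟙 _))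
    (by rw [K596.Pts.map_fpt, Category.id_comp, hh, e])
  rw [← hr, ← hs, hb (hr'.trans hs'.symm)]

theorem surjective_of_onAffine {X Y Z P : Sp S} {f : X ⟶ Y}
    (hf : OnAffine IsSurjectiveMor f) {g : Z ⟶ Y} {fst : P ⟶ X} {snd : P ⟶ Z}
    (sq : IsPullback fst snd f g) : Function.Surjective (Points.map snd) := by
  intro z
  obtain ⟨K, _, str, h, rfl⟩ := K596.Pts.exists_fpt z
  obtain ⟨R, a, b, sq1, sq2⟩ := exists_test sq h
  have hb := hf (Over.mk str) (by dsimp; infer_instance) _ R _ b sq2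
  obtain ⟨r, hr⟩ := hb (K596.Pts.fpt (𝟙 _))
  exact ⟨Points.map a r, by rw [← Points.map_comp, sq1.w, Points.map_comp, hr, K596.Pts.map_fpt, Category.id_comp]⟩

theorem isUnivInjectiveMor_iff {X Y : Sp S} (f : X ⟶ Y) :
    IsUnivInjectiveMor f ↔ OnAffine (fun _ _ f => Function.Injective (Points.map f)) f :=
  ⟨univSp_onAffine, fun h _ _ _ _ _ _ sq => injective_of_onAffine h sq⟩

theorem isUnivHomeoMor_iff {X Y : Sp S} (f : X ⟶ Y) :
    IsUnivHomeoMor f ↔ OnAffine (fun _ _ f => IsHomeomorph (Points.map f)) f := by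
  refine ⟨univSp_onAffine, fun h Z Z' hZ g fst snd sq => ?_⟩
  refine (isHomeomorph_iff' snd).2 ⟨?_, ?_, ?_⟩
  · exact (isUnivOpenMor_iff f).2 (fun Z hZ k P a b sq => (h Z hZ k P a b sq).isOpenMap) hZ g fst snd sq
  · exact injective_of_onAffine (fun Z hZ k P a b sq => (h Z hZ k P a b sq).injective) sq
  · exact surjective_of_onAffine (fun Z hZ k P a b sq => (h Z hZ k P a b sq).surjective) sq

/-- Locality on the base for the fpqc coverings of a property tested on affine schemes. -/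
theorem isLocalOnBase_of_descends {Q R : MorphismProperty (Sp S)} (hQ : Descends Q)
    (hR : ∀ {X Y : Sp S} (f : X ⟶ Y), R f ↔ OnAffine Q f) : IsLocalOnBase IsFpqcCover R := by
  intro ι Y Yi g hY hYi hg X f hX Xi p q hXi sq
  constructor
  · intro h i
    exact (hR _).2 (onAffine_of_isPullback (sq i) ((hR _).1 h))
  · intro h
    exact (hR _).2 (onAffine_of_fpqc hQ hg sq fun i => (hR _).1 (h i))

theorem isLocalOnBase_fpqc_isUnivClosedMor (S : Scheme.{u}) :
    IsLocalOnBase (IsFpqcCover (S := S)) IsUnivClosedMor :=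
  isLocalOnBase_of_descends descends_closed isUnivClosedMor_iff

theorem isLocalOnBase_fpqc_isUnivOpenMor (S : Scheme.{u}) :
    IsLocalOnBase (IsFpqcCover (S := S)) IsUnivOpenMor :=
  isLocalOnBase_of_descends descends_open isUnivOpenMor_iff

theorem isLocalOnBase_fpqc_isUnivSubmersiveMor (S : Scheme.{u}) :
    IsLocalOnBase (IsFpqcCover (S := S)) IsUnivSubmersiveMor :=
  isLocalOnBase_of_descends descends_submersive isUnivSubmersiveMor_iff

theorem isLocalOnBase_fpqc_isUnivInjectiveMor (S : Scheme.{u}) :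
    IsLocalOnBase (IsFpqcCover (S := S)) IsUnivInjectiveMor :=
  isLocalOnBase_of_descends descends_injective isUnivInjectiveMor_iff

theorem isLocalOnBase_fpqc_isUnivHomeoMor (S : Scheme.{u}) :
    IsLocalOnBase (IsFpqcCover (S := S)) IsUnivHomeoMor :=
  isLocalOnBase_of_descends descends_homeo isUnivHomeoMor_iff

end K627.FpqcPts
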