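import Groth.Agent.AlgSp.K607.ArtinLi
import Groth.Agent.Stk.K751.OfPsh
import Groth.Agent.AlgSt.K747.Rep
import Groth.Agent.AlgSt.K734.Fib
import Groth.Agent.S12761

/-!
# Artin's theorem for functors from Artin's theorem for categories

`K627.ArtinFun.axioms`: the axioms `K607.Artin.FAxioms` of a sheaf of sets `F` imply the axioms `K607.Artin.Axioms` of
the category `Stk.ofPsh F` of its elements; `K627.ArtinFun.isAlgSpace`: if that category is an algebraic stack then `F` is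
an algebraic space.
-/

set_option autoImplicit false

universe w v u

open CategoryTheory CategoryTheory.Limits AlgebraicGeometry Opposite

namespace K627.ArtinFun

open K607.Artin

section Elt

variable {C : Type u} [Category.{v} C] {P : Cᵒᵖ ⥤ Type w}

/-- The section of an object, transported to an equal base. -/
def sec (x : (Stk.ofPsh P).obj) {T : C} (h : (Stk.ofPsh P).p.obj x = T) : P.obj (op T) :=
  P.map (eqToHom h.symm).op x.sec

theorem sec_rfl (x : (Stk.ofPsh P).obj) : sec x rfl = x.sec := by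
  have h : P.map (𝟙 (op x.base)) = 𝟙 _ := P.map_id _
  have h2 := ConcreteCategory.congr_hom h x.sec
  exact h2

theorem sec_mk {T : C} (s : P.obj (op T)) : sec (⟨T, s⟩ : (Stk.ofPsh P).obj) rfl = s :=
  sec_rfl _

/-- The standard object of a section. -/
abbrev mk {T : C} (s : P.obj (op T)) : (Stk.ofPsh P).obj := ⟨T, s⟩

theorem map_sec {x y : (Stk.ofPsh P).obj} {T U : C} (f : T ⟶ U) (a : x ⟶ y) (h : (Stk.ofPsh P).p.IsHomLift f a)
    (hx : (Stk.ofPsh P).p.obj x = T) (hy : (Stk.ofPsh P).p.obj y = U) : P.map f.op (sec y hy) = sec x hx := by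
  subst hx hy
  have h1 : f = a.hom := by
    have := IsHomLift.fac (Stk.ofPsh P).p f a
    simpa using this
  subst h1
  rw [sec_rfl, sec_rfl]
  exact a.map_sec

/-- Arrows from the equality of sections. -/
theorem exists_arrow {x y : (Stk.ofPsh P).obj} {T U : C} (f : T ⟶ U) (hx : (Stk.ofPsh P).p.obj x = T)
    (hy : (Stk.ofPsh P).p.obj y = U) (h : P.map f.op (sec y hy) = sec x hx) :
    ∃ a : x ⟶ y, (Stk.ofPsh P).p.IsHomLift f a := by
  subst hx hy
  rw [sec_rfl, sec_rfl] at h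
  exact ⟨⟨f, h⟩, IsHomLift.map (Stk.ofPsh P).p (⟨f, h⟩ : x ⟶ y)⟩

theorem exists_arrow_mk {x : (Stk.ofPsh P).obj} {T U : C} (f : T ⟶ U) (hx : (Stk.ofPsh P).p.obj x = T)
    (s : P.obj (op U)) (h : P.map f.op s = sec x hx) :
    ∃ a : x ⟶ (⟨U, s⟩ : (Stk.ofPsh P).obj), (Stk.ofPsh P).p.IsHomLift f a := by
  subst hx
  rw [sec_rfl] at h
  exact ⟨⟨f, h⟩, IsHomLift.map (Stk.ofPsh P).p (⟨f, h⟩ : x ⟶ (⟨U, s⟩ : (Stk.ofPsh P).obj))⟩

theorem arrow_ext {x y : (Stk.ofPsh P).obj} {T U : C} (f : T ⟶ U) (a b : x ⟶ y) (ha : (Stk.ofPsh P).p.IsHomLift f a)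
    (hb : (Stk.ofPsh P).p.IsHomLift f b) : a = b := by
  apply Stk.EltObj.hom_ext
  have h1 := IsHomLift.fac' (Stk.ofPsh P).p f a
  have h2 := IsHomLift.fac' (Stk.ofPsh P).p f b
  exact h1.trans h2.symm

end Elt

section Fib

variable {Λ : Type u} [CommRing Λ] {A B B' P D : Type u} [CommRing A] [CommRing B] [CommRing B'] [CommRing P]
  [CommRing D] [Algebra Λ A] [Algebra Λ B] [Algebra Λ B'] [Algebra Λ P] [Algebra Λ D]

theorem exists_alg_lift {f : A →ₐ[Λ] B} {g : B' →ₐ[Λ] B} {p : P →ₐ[Λ] A} {q : P →ₐ[Λ] B'} (h : IsFib f g p q)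
    (φ : D →ₐ[Λ] A) (ψ : D →ₐ[Λ] B') (hw : f.comp φ = g.comp ψ) :
    ∃ χ : D →ₐ[Λ] P, p.comp χ = φ ∧ q.comp χ = ψ := by
  choose χ h1 h2 using fun d : D => h.surj (φ d) (ψ d) (DFunLike.congr_fun hw d)
  refine ⟨{ toFun := χ
            map_one' := h.inj _ _ (by rw [h1, map_one, map_one]) (by rw [h2, map_one, map_one])
            map_mul' := fun x y => h.inj _ _ (by rw [h1, map_mul, map_mul, h1, h1]) (by rw [h2, map_mul, map_mul, h2, h2])
            map_zero' := h.inj _ _ (by rw [h1, map_zero, map_zero]) (by rw [h2, map_zero, map_zero])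
            map_add' := fun x y => h.inj _ _ (by rw [h1, map_add, map_add, h1, h1]) (by rw [h2, map_add, map_add, h2, h2])
            commutes' := fun r => h.inj _ _ (by rw [h1, AlgHom.commutes, AlgHom.commutes])
              (by rw [h2, AlgHom.commutes, AlgHom.commutes]) }, AlgHom.ext h1, AlgHom.ext h2⟩

theorem alg_hom_ext {f : A →ₐ[Λ] B} {g : B' →ₐ[Λ] B} {p : P →ₐ[Λ] A} {q : P →ₐ[Λ] B'} (h : IsFib f g p q)
    {χ χ' : D →ₐ[Λ] P} (h1 : p.comp χ = p.comp χ') (h2 : q.comp χ = q.comp χ') : χ = χ' :=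
  AlgHom.ext fun d => h.inj _ _ (DFunLike.congr_fun h1 d) (DFunLike.congr_fun h2 d)

/-- `Spec P` is the push-out, for maps to affine schemes. -/
theorem exists_lift {f : A →ₐ[Λ] B} {g : B' →ₐ[Λ] B} {p : P →ₐ[Λ] A} {q : P →ₐ[Λ] B'} (h : IsFib f g p q)
    (φ : sp Λ A ⟶ sp Λ D) (ψ : sp Λ B' ⟶ sp Λ D) (hw : spMap f ≫ φ = spMap g ≫ ψ) :
    ∃ χ : sp Λ P ⟶ sp Λ D, spMap p ≫ χ = φ ∧ spMap q ≫ χ = ψ := by
  obtain ⟨φ, rfl⟩ := exists_spMap φ
  obtain ⟨ψ, rfl⟩ := exists_spMap ψ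
  rw [← spMap_comp, ← spMap_comp] at hw
  obtain ⟨χ, h1, h2⟩ := exists_alg_lift h φ ψ (spMap_injective hw)
  exact ⟨spMap χ, by rw [← spMap_comp, h1], by rw [← spMap_comp, h2]⟩

theorem lift_ext {f : A →ₐ[Λ] B} {g : B' →ₐ[Λ] B} {p : P →ₐ[Λ] A} {q : P →ₐ[Λ] B'} (h : IsFib f g p q)
    {χ χ' : sp Λ P ⟶ sp Λ D} (h1 : spMap p ≫ χ = spMap p ≫ χ') (h2 : spMap q ≫ χ = spMap q ≫ χ') : χ = χ' := by
  obtain ⟨χ, rfl⟩ := exists_spMap χ
  obtain ⟨χ', rfl⟩ := exists_spMap χ'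
  rw [← spMap_comp, ← spMap_comp] at h1 h2
  rw [alg_hom_ext h (spMap_injective h1) (spMap_injective h2)]

end Fib

section Axioms

variable {Λ : Type u} [CommRing Λ] {F : (Over (Spec (CommRingCat.of Λ)))ᵒᵖ ⥤ Type w}

theorem lp (h : FAxioms F) : LP (Stk.ofPsh F) := by
  intro A _ _ x hx
  obtain ⟨C, i1, i2, i3, φ, y, hy⟩ := h.lp A (sec x hx)
  obtain ⟨a, ha⟩ := exists_arrow_mk (spMap φ) hx y hy
  exact ⟨C, i1, i2, i3, φ, _, a, ha⟩

theorem se (h : FAxioms F) : SE (Stk.ofPsh F) := by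
  intro R _ _ t ht hk R' _ _ π hlim x a ha
  have hb : ∀ n, (Stk.ofPsh F).p.obj (x n) = sp Λ (R n) := fun n =>
    IsHomLift.domain_eq (Stk.ofPsh F).p (spMap (t n)) (a n)
  obtain ⟨x', hx'⟩ := h.se R t ht hk R' π hlim (fun n => sec (x n) (hb n))
    (fun n => map_sec (spMap (t n)) (a n) (ha n) (hb n) (hb (n + 1)))
  exact ⟨⟨sp Λ R', x'⟩, fun n => exists_arrow_mk (spMap (π n)) (hb n) x' (hx' n)⟩

theorem rsObj (h : FAxioms F) : RSobj (Stk.ofPsh F) := by
  intro A B B' P _ _ _ _ _ _ _ _ f g p q hfib hg hn z x x' a b ha hb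
  have hx : (Stk.ofPsh F).p.obj x = sp Λ A := IsHomLift.codomain_eq (Stk.ofPsh F).p (spMap f) a
  have hz : (Stk.ofPsh F).p.obj z = sp Λ B := IsHomLift.domain_eq (Stk.ofPsh F).p (spMap f) a
  have hx' : (Stk.ofPsh F).p.obj x' = sp Λ B' := IsHomLift.codomain_eq (Stk.ofPsh F).p (spMap g) b
  obtain ⟨w, ⟨hw1, hw2⟩, -⟩ := h.rs f g p q hfib hg hn (sec x hx) (sec x' hx') (by
    rw [map_sec (spMap f) a ha hz hx, map_sec (spMap g) b hb hz hx'])
  obtain ⟨c, hc⟩ := exists_arrow_mk (spMap p) hx w hw1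
  obtain ⟨d, hd⟩ := exists_arrow_mk (spMap q) hx' w hw2
  refine ⟨_, c, d, hc, hd, ?_⟩
  refine arrow_ext (spMap f ≫ spMap p) _ _ ?_ ?_
  · infer_instance
  · have : spMap f ≫ spMap p = spMap g ≫ spMap q := by rw [← spMap_comp, ← spMap_comp, hfib.w]
    rw [this]
    infer_instance

theorem map_map {C : Type u} [Category.{v} C] {P : Cᵒᵖ ⥤ Type w} {T U V : C} (f : T ⟶ U) (g : U ⟶ V)
    (s : P.obj (op V)) : P.map f.op (P.map g.op s) = P.map (f ≫ g).op s :=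
  (ConcreteCategory.congr_hom (P.map_comp g.op f.op) s).symm

theorem rsHom (h : FAxioms F) : RShom (Stk.ofPsh F) := by
  intro A B B' P D _ _ _ _ _ _ _ _ _ _ f g p q hfib hg hn z x x' w y a b c d ha hb hc hd hsq hy c' d' hcd
  have hx : (Stk.ofPsh F).p.obj x = sp Λ A := IsHomLift.codomain_eq (Stk.ofPsh F).p (spMap f) a
  have hz : (Stk.ofPsh F).p.obj z = sp Λ B := IsHomLift.domain_eq (Stk.ofPsh F).p (spMap f) a
  have hx' : (Stk.ofPsh F).p.obj x' = sp Λ B' := IsHomLift.codomain_eq (Stk.ofPsh F).p (spMap g) b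
  have hw : (Stk.ofPsh F).p.obj w = sp Λ P := IsHomLift.codomain_eq (Stk.ofPsh F).p (spMap p) c
  obtain ⟨_, xs⟩ := x
  obtain ⟨_, xs'⟩ := x'
  obtain ⟨_, ys⟩ := y
  obtain ⟨_, zs⟩ := z
  obtain ⟨_, ws⟩ := w
  change _ = _ at hx hz hx' hw hy
  dsimp only [Stk.EltObj.forget_obj] at hx hz hx' hw hy
  subst hx hz hx' hw hy
  have ea : a.hom = spMap f := by have := IsHomLift.fac (Stk.ofPsh F).p (spMap f) a; simpa using this.symm
  have eb : b.hom = spMap g := by have := IsHomLift.fac (Stk.ofPsh F).p (spMap g) b; simpa using this.symm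
  have ec : c.hom = spMap p := by have := IsHomLift.fac (Stk.ofPsh F).p (spMap p) c; simpa using this.symm
  have ed : d.hom = spMap q := by have := IsHomLift.fac (Stk.ofPsh F).p (spMap q) d; simpa using this.symm
  have hcd' : spMap f ≫ c'.hom = spMap g ≫ d'.hom := by
    rw [← ea, ← eb]
    exact congrArg Stk.EltObj.Hom.hom hcd
  obtain ⟨χ, h1, h2⟩ := exists_lift hfib c'.hom d'.hom hcd'
  have hwx : F.map (spMap p).op ws = xs := by rw [← ec]; exact c.map_sec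
  have hwx' : F.map (spMap q).op ws = xs' := by rw [← ed]; exact d.map_sec
  have hsec : F.map χ.op ys = ws := by
    obtain ⟨w₀, -, huniq⟩ := h.rs f g p q hfib hg hn xs xs' (by
      have e1 : F.map (spMap f).op xs = zs := by rw [← ea]; exact a.map_sec
      have e2 : F.map (spMap g).op xs' = zs := by rw [← eb]; exact b.map_sec
      rw [e1, e2])
    have e1 := huniq ws ⟨hwx, hwx'⟩
    have e2 := huniq (F.map χ.op ys) ⟨by rw [map_map, h1]; exact c'.map_sec, by rw [map_map, h2]; exact d'.map_sec⟩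
    exact e2.trans e1.symm
  refine ⟨⟨χ, hsec⟩, ⟨Stk.EltObj.hom_ext ?_, Stk.EltObj.hom_ext ?_⟩, ?_⟩
  · change c.hom ≫ χ = c'.hom
    rw [ec, h1]
  · change d.hom ≫ χ = d'.hom
    rw [ed, h2]
  · rintro e ⟨h3, h4⟩
    apply Stk.EltObj.hom_ext
    refine lift_ext hfib ?_ ?_
    · change spMap p ≫ e.hom = spMap p ≫ χ
      rw [h1, ← ec]
      exact congrArg Stk.EltObj.Hom.hom h3
    · change spMap q ≫ e.hom = spMap q ≫ χ
      rw [h2, ← ed]
      exact congrArg Stk.EltObj.Hom.hom h4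

theorem fa : FA (Stk.ofPsh F) := by
  intro A _ _ _ x hx
  have : Subsingleton {e : x ⟶ x // (Stk.ofPsh F).p.map e = 𝟙 _} :=
    ⟨fun e e' => Subtype.ext (Stk.EltObj.hom_ext (e.2.trans e'.2.symm))⟩
  infer_instance

theorem sm (h : FAxioms F) : SM (Stk.ofPsh F) := by
  intro k _ _ _
  have := h.sm k
  refine ⟨Shrink.{u} (F.obj (op (sp Λ k))), fun i => ⟨sp Λ k, (equivShrink _).symm i⟩, fun y hy => ?_⟩
  refine ⟨equivShrink _ (sec y hy), ?_⟩
  refine exists_arrow_mk (𝟙 (sp Λ k)) hy _ ?_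
  rw [Equiv.symm_apply_apply]
  exact ConcreteCategory.congr_hom (F.map_id _) _

theorem pr (h : FAxioms F) : PR (Stk.ofPsh F) := by
  intro x y
  obtain ⟨W, p, q, hpq, huniv, hlft⟩ := h.pr x.base y.base x.sec y.sec
  refine ⟨⟨W, F.map p.op x.sec⟩, ⟨p, rfl⟩, ⟨q, hpq.symm⟩, ?_, hlft⟩
  intro z a b
  obtain ⟨c, ⟨hc1, hc2⟩, hc⟩ := huniv z.base a.hom b.hom (a.map_sec.trans b.map_sec.symm)
  have hcs : F.map c.op (F.map p.op x.sec) = z.sec := by
    rw [← a.map_sec, ← hc1]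
    have := ConcreteCategory.congr_hom (F.map_comp p.op c.op) x.sec
    exact this.symm
  refine ⟨⟨c, hcs⟩, ⟨Stk.EltObj.hom_ext hc1, Stk.EltObj.hom_ext hc2⟩, ?_⟩
  rintro c' ⟨h1, h2⟩
  exact Stk.EltObj.hom_ext (hc c'.hom ⟨congrArg Stk.EltObj.Hom.hom h1, congrArg Stk.EltObj.Hom.hom h2⟩)

end Axioms

section Main

variable {Λ : Type u} [CommRing Λ] (F : AlgSp.Sp (Spec (CommRingCat.of Λ)))

/-- The axioms for the category of elements of a sheaf. -/
theorem axioms (h : FAxioms F.obj) : Axioms (Stk.ofPsh F.obj) where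
  isStack := K751.OfPsh.isStack_of_isSheaf _ ((isSheaf_iff_isSheaf_of_type _ _).1 F.property)
  lp := lp h
  se := se h
  rsObj := rsObj h
  rsHom := rsHom h
  fa := fa
  sm := sm h
  pr := pr h

/-- **Artin's theorem for functors** from Artin's theorem for categories fibred in groupoids. -/
theorem isAlgSpace (hmain : ∀ 𝒳 : BasedCategory.{u, u + 1} (Over (Spec (CommRingCat.of Λ))), Axioms 𝒳 →
      AlgSt.IsAlgStack Scheme.fppfPrecoverage 𝒳) (h : FAxioms F.obj) : AlgSp.IsAlgSpace F := by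
  have h1 := hmain (Stk.ofPsh F.obj) (axioms F h)
  have h2 : AlgSt.RepByAlgSp (Stk.ofPsh F.obj) := (Groth.Agent.S12761.result h1).1 (K734.Fib.isFibSetoid_ofPsh F.obj)
  rw [K747.Rep.repByAlgSp_iff (K734.Fib.isEquivOver_refl (Stk.ofPsh F.obj))] at h2
  exact (AlgSp.isAlgSpaceP_obj_iff F).1 h2

end Main

end K627.ArtinFun
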