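import Groth.Agent.AlgSp.K627.FpqcRep
import Groth.Agent.AlgSp.K595.DiagRel

/-!
# Fpqc descent of properties of the diagonal of a morphism of algebraic spaces
-/

set_option autoImplicit false

universe u

open CategoryTheory CategoryTheory.Limits AlgebraicGeometry Opposite Topology AlgSp K627.FpqcPts K627.FpqcRep

namespace K627.FpqcDiag

variable {S : Scheme.{u}}

/-- The diagonal of a base change is a base change of the diagonal. -/
theorem isPullback_diagonal {C : Type*} [Category C] [HasPullbacks C] {X Y X' Y' : C} {f : X ⟶ Y} {g : Y' ⟶ Y}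
    {q : X' ⟶ X} {p : X' ⟶ Y'} (sq : IsPullback q p f g) :
    IsPullback q (pullback.diagonal p) (pullback.diagonal f)
      (pullback.map p p f f q q g sq.w.symm sq.w.symm) := by
  have hw : q ≫ pullback.diagonal f = pullback.diagonal p ≫ pullback.map p p f f q q g sq.w.symm sq.w.symm := by
    apply pullback.hom_ext
    · rw [Category.assoc, Category.assoc, pullback.diagonal_fst, Category.comp_id, pullback.lift_fst,
        ← Category.assoc, pullback.diagonal_fst, Category.id_comp]
    · rw [Category.assoc, Category.assoc, pullback.diagonal_snd, Category.comp_id, pullback.lift_snd,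
        ← Category.assoc, pullback.diagonal_snd, Category.id_comp]
  have key : ∀ (T : C) (a : T ⟶ X) (b : T ⟶ pullback p p),
      a ≫ pullback.diagonal f = b ≫ pullback.map p p f f q q g sq.w.symm sq.w.symm →
      (b ≫ pullback.fst p p) ≫ q = a ∧ (b ≫ pullback.fst p p) ≫ pullback.diagonal p = b := by
    intro T a b h
    have h1 := h =≫ pullback.fst f f
    have h2 := h =≫ pullback.snd f f
    rw [Category.assoc, Category.assoc, pullback.diagonal_fst, Category.comp_id, pullback.lift_fst,
      ← Category.assoc] at h1
    rw [Category.assoc, Category.assoc, pullback.diagonal_snd, Category.comp_id, pullback.lift_snd,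
      ← Category.assoc] at h2
    have h3 : b ≫ pullback.fst p p = b ≫ pullback.snd p p := by
      apply sq.hom_ext
      · exact h1.symm.trans h2
      · rw [Category.assoc, Category.assoc, pullback.condition]
    refine ⟨h1.symm, pullback.hom_ext ?_ ?_⟩
    · rw [Category.assoc, pullback.diagonal_fst, Category.comp_id]
    · rw [Category.assoc, pullback.diagonal_snd, Category.comp_id, h3]
  refine ⟨⟨hw⟩, ⟨PullbackCone.IsLimit.mk _ (fun s => s.snd ≫ pullback.fst p p)
    (fun s => (key _ _ _ s.condition).1) (fun s => (key _ _ _ s.condition).2) ?_⟩⟩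
  intro s k h1 h2
  rw [← h2, Category.assoc, pullback.diagonal_fst, Category.comp_id]

/-- Descent of a property of the diagonal along an fpqc covering. -/
theorem repWith_diagonal_iff_of_isFpqcCover {Pr : MorphismProperty Scheme.{u}} [IsZariskiLocalAtTarget Pr]
    [Pr.IsStableUnderBaseChange] [Pr.DescendsAlong Fpqc.{u}] {ι : Type u} {Y : Sp S}
    {Yi : ι → Sp S} {g : ∀ i, Yi i ⟶ Y} (hg : IsFpqcCover Yi g) {X : Sp S} {f : X ⟶ Y}
    (hf : Representable (pullback.diagonal f)) {Xi : ι → Sp S} {p : ∀ i, Xi i ⟶ Yi i} {q : ∀ i, Xi i ⟶ X}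
    (sq : ∀ i, IsPullback (q i) (p i) f (g i)) :
    RepWith Pr (pullback.diagonal f) ↔ ∀ i, RepWith Pr (pullback.diagonal (p i)) := by
  constructor
  · intro h i
    exact (RepWith Pr).of_isPullback (isPullback_diagonal (sq i)) h
  · intro h
    refine repWith_of_fpqc hf fun Z hZ k => ?_
    obtain ⟨m, W, c, hstd, hl⟩ := exists_std hg Z hZ (k ≫ pullback.fst f f ≫ f)
    refine ⟨m, W, c, hstd, fun j => ?_⟩
    obtain ⟨i, l, hl⟩ := hl j
    have w₁ : ((yon S).map (c j) ≫ k ≫ pullback.fst f f) ≫ f = l ≫ g i := by
      rw [hl]; simp only [Category.assoc]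
    have w₂ : ((yon S).map (c j) ≫ k ≫ pullback.snd f f) ≫ f = l ≫ g i := by
      rw [hl]; simp only [Category.assoc, pullback.condition]
    refine ⟨_, _, pullback.diagonal (p i), _, q i,
      pullback.lift ((sq i).lift _ _ w₁) ((sq i).lift _ _ w₂) (by rw [(sq i).lift_snd, (sq i).lift_snd]),
      h i, isPullback_diagonal (sq i), ?_⟩
    apply pullback.hom_ext
    · rw [Category.assoc, pullback.lift_fst, ← Category.assoc, pullback.lift_fst, (sq i).lift_fst, Category.assoc]
    · rw [Category.assoc, pullback.lift_snd, ← Category.assoc, pullback.lift_snd, (sq i).lift_fst, Category.assoc]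

set_option backward.isDefEq.respectTransparency false in
theorem isLocalOnBase_fpqc_isQuasiSeparatedMor (S : Scheme.{u}) :
    IsLocalOnBase (IsFpqcCover (S := S)) IsQuasiSeparatedMor := by
  intro ι Y Yi g hY hYi hg X f hX Xi p q hXi sq
  have : MorphismProperty.DescendsAlong (C := Scheme.{u}) @QuasiCompact Fpqc.{u} :=
    Groth.Agent.Etbase.FpqcDescent.descendsAlong_quasiCompact
  exact repWith_diagonal_iff_of_isFpqcCover hg (K595.DiagRel.representable_diagonal hX f) sq

end K627.FpqcDiag
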