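import Groth.Agent.AlgSp.K627.FpqcPts
import Groth.Agent.AlgSp.K609.QC
import Groth.Agent.AlgSp.K594.Fib

/-!
# Fpqc descent of quasi-compactness of morphisms of algebraic spaces
-/

set_option autoImplicit false

universe u

open CategoryTheory CategoryTheory.Limits AlgebraicGeometry Opposite Topology AlgSp K627.FpqcPts

namespace K627.FpqcQC

variable {S : Scheme.{u}}

set_option backward.isDefEq.respectTransparency false in
theorem isQuasiCompactSp_yon (W : Over S) [CompactSpace ↥W.left] : IsQuasiCompactSp ((yon S).obj W) :=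
  ⟨W, 𝟙 _, repWith_id @Etale W, repWith_id @Surjective W, inferInstance⟩

/-- Quasi-compactness of the base change to an affine scheme descends along an fpqc covering. -/
theorem isQuasiCompactSp_of_fpqc {ι : Type u} {Y : Sp S}
    {Yi : ι → Sp S} {g : ∀ i, Yi i ⟶ Y} (hg : IsFpqcCover Yi g) {X : Sp S} {f : X ⟶ Y} {Xi : ι → Sp S}
    {p : ∀ i, Xi i ⟶ Yi i} {q : ∀ i, Xi i ⟶ X} (sq : ∀ i, IsPullback (q i) (p i) f (g i))
    (h : ∀ i, IsQuasiCompactMor (p i)) (Z : Over S) (hZ : IsAffine Z.left) (k : (yon S).obj Z ⟶ Y) (P : Sp S)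
    (a : P ⟶ X) (b : P ⟶ (yon S).obj Z) (sqP : IsPullback a b f k) : CompactSpace (Points P) := by
  obtain ⟨m, W, c, hstd, hl⟩ := exists_std hg Z hZ k
  refine hstd.compactSpace (fun j => IsPullback.of_hasPullback b ((yon S).map (c j))) fun j => ?_
  obtain ⟨i, l, hl⟩ := hl j
  obtain ⟨r, -, hr⟩ := isPullback_lift (sq i) sqP (IsPullback.of_hasPullback b ((yon S).map (c j))) l hl
  have := hstd.aff' j
  exact K609.QC.compactSpace_points (h i (IsAlgSpace.yon_obj _) (isQuasiCompactSp_yon _) l r _ hr)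

theorem isLocalOnBase_fpqc_isQuasiCompactMor (S : Scheme.{u}) :
    IsLocalOnBase (IsFpqcCover (S := S)) IsQuasiCompactMor := by
  intro ι Y Yi g hY hYi hg X f hX Xi p q hXi sq
  constructor
  · intro h i Z Z' hZ hZq k fst snd sq'
    exact h hZ hZq (k ≫ g i) (fst ≫ q i) snd (sq'.paste_horiz (sq i))
  · intro h Z Z' hZ hZq k fst snd sq'
    obtain ⟨U, e, hU, he, hes⟩ := K609.QC.exists_affine_chart hZq
    obtain ⟨R, a, b, sq1, sq2⟩ := exists_test sq' e
    have hZ' : IsAlgSpace Z' := K594.Fib.isAlgSpace_of_isPullback hY.diag hX hZ sq'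
    have hR : CompactSpace (Points R) := isQuasiCompactSp_of_fpqc hg sq h U hU _ R _ b sq2
    have hs : Function.Surjective (Points.map a) :=
      K596.Pts.surjective_of_isPullback sq1.flip (K596.Pts.surjective_of_repWith hes)
    have : CompactSpace (Points Z') := hs.compactSpace (Points.continuous_map a)
    exact K609.QC.isQuasiCompactSp_of_compactSpace hZ'

end K627.FpqcQC
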