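import Groth.Agent.AlgSp.K627.FpqcLocPInst
import Groth.Agent.AlgSp.K627.FpqcQC
import Groth.Agent.AlgSp.K627.FpqcDiag

/-!
# Fpqc locality on the base of "of finite type" and "of finite presentation"
-/

set_option autoImplicit false

universe u

open CategoryTheory CategoryTheory.Limits AlgebraicGeometry AlgSp

namespace K627.FpqcFin

theorem isLocalOnBase_inf {S : Scheme.{u}} {τ : CovNotion S} {P Q : MorphismProperty (Sp S)}
    (hP : IsLocalOnBase τ P) (hQ : IsLocalOnBase τ Q) : IsLocalOnBase τ (fun _ _ f => P f ∧ Q f) := by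
  intro ι Y Yi g hY hYi hg X f hX Xi p q hXi sq
  have h1 := hP Yi g hY hYi hg f hX Xi p q hXi sq
  have h2 := hQ Yi g hY hYi hg f hX Xi p q hXi sq
  exact ⟨fun h i => ⟨h1.1 h.1 i, h2.1 h.2 i⟩, fun h => ⟨h1.2 fun i => (h i).1, h2.2 fun i => (h i).2⟩⟩

theorem isFiniteTypeMor (S : Scheme.{u}) :
    IsLocalOnBase (IsFpqcCover (S := S)) IsFiniteTypeMor :=
  isLocalOnBase_inf (FpqcLocPInst.lft S) (FpqcQC.isLocalOnBase_fpqc_isQuasiCompactMor S)

theorem isFinitePresentationMor (S : Scheme.{u}) :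
    IsLocalOnBase (IsFpqcCover (S := S)) IsFinitePresentationMor :=
  isLocalOnBase_inf (FpqcLocPInst.lfp S) (isLocalOnBase_inf (FpqcQC.isLocalOnBase_fpqc_isQuasiCompactMor S)
    (FpqcDiag.isLocalOnBase_fpqc_isQuasiSeparatedMor S))

end K627.FpqcFin
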