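import Groth.Agent.AlgSp.K627.FpqcRep
import Groth.Agent.AlgSp.K616.BaseChange
import Groth.Agent.AlgSp.K597.LocP

/-!
# Fpqc descent of `LocP P` along coverings of the target

For `P` etale local on source-and-target, stable under base change, Zariski local on the target and descending along
flat surjective quasi-compact morphisms: `LocP P` is local on the base for the fpqc coverings.
-/

set_option autoImplicit false
set_option backward.isDefEq.respectTransparency false

universe u

open CategoryTheory CategoryTheory.Limits AlgebraicGeometry Opposite Topology AlgSp K627.FpqcPts K627.FpqcRep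

namespace K627.FpqcLocP

variable {S : Scheme.{u}} {P : MorphismProperty Scheme.{u}}

/-- `LocP P` is tested on charts of the target which are affine schemes (`P` Zariski local on the target). -/
theorem locP_of_affine [IsZariskiLocalAtTarget P] {F G : Sp S} {f : F ⟶ G}
    (h : ∀ ⦃U V : Over S⦄ (a : (yon S).obj U ⟶ F) (b : (yon S).obj V ⟶ G) (k : U ⟶ V), IsAffine V.left →
      RepWith @Etale a → RepWith @Etale b → a ≫ f = (yon S).map k ≫ b → P k.left) : LocP P f := by
  intro U V a b k ha hb w
  refine IsZariskiLocalAtTarget.of_openCover (P := P) V.left.affineCover fun i => ?_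
  let V' : Over S := Over.mk (V.left.affineCover.f i ≫ V.hom)
  let v : V' ⟶ V := Over.homMk (V.left.affineCover.f i) rfl
  have sq1 : IsPullback (pullback.fst k v) (pullback.snd k v) k v := IsPullback.of_hasPullback _ _
  have sq3 := sq1.map (Over.forget S)
  have hV' : IsAffine V'.left := by dsimp [V']; infer_instance
  have hv : Etale v.left := inferInstanceAs (Etale (V.left.affineCover.f i))
  have hu : Etale (pullback.fst k v).left := MorphismProperty.of_isPullback (P := @Etale) sq3.flip hv
  have h1 := h ((yon S).map (pullback.fst k v) ≫ a) ((yon S).map v ≫ b) (pullback.snd k v) hV'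
    (K597.etale_comp (K597.etale_map _ hu) ha) (K597.etale_comp (K597.etale_map _ hv) hb) (by
      rw [Category.assoc, w, ← Category.assoc, ← Category.assoc, ← Functor.map_comp, ← Functor.map_comp,
        pullback.condition])
  have sq4 : IsPullback _ (pullback.snd k.left (V.left.affineCover.f i)) _ _ :=
    IsPullback.of_hasPullback k.left (V.left.affineCover.f i)
  have e := sq4.isoIsPullback_hom_snd _ _ sq3
  change P (pullback.snd k.left (V.left.affineCover.f i))
  rw [← e]
  exact (P.cancel_left_of_respectsIso _ _).2 h1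

/-- Descent of `LocP P` along an fpqc covering of the target. -/
theorem locP_of_fpqc (hP : K597.EtLoc P) [P.IsStableUnderBaseChange] [IsZariskiLocalAtTarget P]
    [P.DescendsAlong Fpqc.{u}] {ι : Type u} {Y : Sp S} {Yi : ι → Sp S} {g : ∀ i, Yi i ⟶ Y}
    (hg : IsFpqcCover Yi g) (hYi : ∀ i, IsAlgSpace (Yi i)) {X : Sp S} {f : X ⟶ Y} {Xi : ι → Sp S}
    (hXi : ∀ i, IsAlgSpace (Xi i)) {p : ∀ i, Xi i ⟶ Yi i} {q : ∀ i, Xi i ⟶ X}
    (sq : ∀ i, IsPullback (q i) (p i) f (g i)) (h : ∀ i, LocP P (p i)) : LocP P f := by
  refine locP_of_affine fun U V a b k hV ha hb w => ?_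
  obtain ⟨m, W, c, hstd, hl⟩ := exists_std hg V hV b
  refine prop_of_std (Pr := P) hstd (fun j => (IsPullback.of_hasPullback k (c j)).map (Over.forget S))
    fun j => ?_
  obtain ⟨i, l, hl⟩ := hl j
  -- `X' = X ×_Y W_j = X_i ×_{Y_i} W_j`
  have sq' := IsPullback.of_hasPullback (p i) l
  have hbc : LocP P (pullback.snd (p i) l) :=
    K597.locP_bc hP sq' (hXi i).hasAtlas (hYi i).hasAtlas (IsAlgSpace.yon_obj (W j)).hasAtlas (h i)
  have sq2 := sq'.paste_horiz (sq i)
  -- the chart `U ×_V W_j ⟶ X'`
  have w2 : ((yon S).map (pullback.fst k (c j)) ≫ a) ≫ f = (yon S).map (pullback.snd k (c j)) ≫ l ≫ g i := by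
    rw [Category.assoc, w, ← Category.assoc, ← Functor.map_comp, pullback.condition, Functor.map_comp,
      Category.assoc, hl]
  have h1 := sq2.lift_fst _ _ w2
  have h2 := sq2.lift_snd _ _ w2
  have ha' : RepWith @Etale (sq2.lift _ _ w2) := by
    refine K616.BaseChange.etale_chart_pullback sq2 (IsPullback.of_hasPullback k (c j)) w
      (b' := 𝟙 ((yon S).obj (W j))) ?_ ha hb (repWith_id _ _) _ h1 ?_
    · rw [Category.id_comp, hl]
    · rw [Category.comp_id, h2]
  exact hbc _ (𝟙 _) (pullback.snd k (c j)) ha' (repWith_id _ _) (by rw [Category.comp_id]; exact h2)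

/-- `LocP P` is local on the base for the fpqc coverings. -/
theorem isLocalOnBase_fpqc_locP (hP : K597.EtLoc P) [P.IsStableUnderBaseChange] [IsZariskiLocalAtTarget P]
    [P.DescendsAlong Fpqc.{u}] (S : Scheme.{u}) : IsLocalOnBase (IsFpqcCover (S := S)) (LocP P) := by
  intro ι Y Yi g hY hYi hg X f hX Xi p q hXi sq
  constructor
  · intro h i
    exact K597.locP_bc hP (sq i) hX.hasAtlas hY.hasAtlas (hYi i).hasAtlas h
  · intro h
    exact locP_of_fpqc hP hg hYi hXi sq h

end K627.FpqcLocP
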