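import Groth.Agent.AlgSp.K627.FpqcPts
import Groth.Agent.Etbase.FpqcDescent
import Mathlib.AlgebraicGeometry.Morphisms.FlatDescent
import Mathlib.AlgebraicGeometry.Morphisms.LocalFlatDescent

/-!
# Fpqc descent of `RepWith P` for a representable morphism of sheaves

* `StdFpqc.prop_of`: properties of morphisms of schemes descend along standard fpqc families.
* `repWith_of_affine`: `RepWith P` of a representable morphism is tested on affine schemes.
* `repWith_of_fpqc`: `RepWith P` of a representable morphism descends along an fpqc covering.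
-/

set_option autoImplicit false

universe u

open CategoryTheory CategoryTheory.Limits AlgebraicGeometry Opposite Topology AlgSp K627.FpqcPts

namespace K627.FpqcRep

variable {S : Scheme.{u}}

/-- flat, surjective, quasi-compact -/
abbrev Fpqc : MorphismProperty Scheme.{u} := @Surjective ⊓ @Flat ⊓ @QuasiCompact

variable {Z : Over S} {m : ℕ} {W : Fin m → Over S} {c : ∀ j, W j ⟶ Z}

theorem sig_mem (h : StdFpqc W c) : Fpqc (sig c) := ⟨⟨h.surjective_sig, h.flat_sig⟩, h.quasiCompact_sig⟩

/-- Properties of morphisms of schemes descend along standard fpqc families. -/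
theorem prop_of_std {Pr : MorphismProperty Scheme.{u}} [IsZariskiLocalAtTarget Pr] [Pr.DescendsAlong Fpqc.{u}]
    (h : StdFpqc W c) {V : Scheme.{u}} {s : V ⟶ Z.left} {Vj : Fin m → Scheme.{u}} {fst : ∀ j, Vj j ⟶ V}
    {snd : ∀ j, Vj j ⟶ (W j).left} (sq : ∀ j, IsPullback (fst j) (snd j) s (c j).left)
    (hj : ∀ j, Pr (snd j)) : Pr s := by
  have sq0 : IsPullback (pullback.fst s (sig c)) (pullback.snd s (sig c)) s (sig c) := IsPullback.of_hasPullback _ _
  refine MorphismProperty.of_isPullback_of_descendsAlong (P := Pr) (Q := Fpqc) sq0.flip (sig_mem h) ?_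
  have key : ∀ j : Fin m, Pr (pullback.snd (pullback.snd s (sig c)) (Sigma.ι (fun j => (W j).left) j)) := by
    intro j
    have sq1 : IsPullback _ (pullback.snd (pullback.snd s (sig c)) (Sigma.ι (fun j => (W j).left) j)) _ _ :=
      IsPullback.of_hasPullback (pullback.snd s (sig c)) (Sigma.ι (fun j => (W j).left) j)
    have sq2 := sq1.paste_horiz sq0
    rw [sig_ι] at sq2
    have e := sq2.isoIsPullback_hom_snd _ _ (sq j)
    have : Pr.RespectsIso := inferInstance
    rw [← e]
    exact (Pr.cancel_left_of_respectsIso _ _).2 (hj j)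
  exact IsZariskiLocalAtTarget.of_openCover (P := Pr) (sigmaOpenCover fun j => (W j).left) fun j => key j

/-- `RepWith Pr` of a representable morphism, for `Pr` Zariski local on the target, is tested on affine schemes. -/
theorem repWith_of_affine {Pr : MorphismProperty Scheme.{u}} [IsZariskiLocalAtTarget Pr] {F G : Sp S} {f : F ⟶ G}
    (hf : Representable f)
    (h : ∀ (Z : Over S), IsAffine Z.left → ∀ (g : (yon S).obj Z ⟶ G) (V : Over S) (fst : (yon S).obj V ⟶ F)
      (snd : V ⟶ Z), IsPullback fst ((yon S).map snd) f g → Pr snd.left) : RepWith Pr f := by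
  refine ⟨hf, fun U V g fst snd sq => ?_⟩
  refine IsZariskiLocalAtTarget.of_openCover (P := Pr) U.left.affineCover fun i => ?_
  let U' : Over S := Over.mk (U.left.affineCover.f i ≫ U.hom)
  let a : U' ⟶ U := Over.homMk (U.left.affineCover.f i) rfl
  have sq1 : IsPullback (pullback.fst snd a) (pullback.snd snd a) snd a := IsPullback.of_hasPullback _ _
  have sq2 := (sq1.map (yon S)).paste_horiz sq
  have hU' : IsAffine U'.left := by dsimp [U']; infer_instance
  have h1 := h U' hU' _ _ _ _ sq2
  have sq3 := sq1.map (Over.forget S)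
  have sq4 : IsPullback _ (pullback.snd snd.left (U.left.affineCover.f i)) _ _ :=
    IsPullback.of_hasPullback snd.left (U.left.affineCover.f i)
  have e := sq4.isoIsPullback_hom_snd _ _ sq3
  change Pr (pullback.snd snd.left (U.left.affineCover.f i))
  rw [← e]
  exact (Pr.cancel_left_of_respectsIso _ _).2 h1

/-- `RepWith Pr` of a representable morphism descends along an fpqc covering. -/
theorem repWith_of_fpqc {Pr : MorphismProperty Scheme.{u}} [IsZariskiLocalAtTarget Pr] [Pr.DescendsAlong Fpqc.{u}]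
    {F G : Sp S} {f : F ⟶ G} (hf : Representable f)
    (h : ∀ (Z : Over S), IsAffine Z.left → ∀ (g : (yon S).obj Z ⟶ G), ∃ (m : ℕ) (W : Fin m → Over S)
      (c : ∀ j, W j ⟶ Z), StdFpqc W c ∧ ∀ j, ∃ (F' G' : Sp S) (f' : F' ⟶ G') (q : G' ⟶ G) (q' : F' ⟶ F)
        (l : (yon S).obj (W j) ⟶ G'), RepWith Pr f' ∧ IsPullback q' f' f q ∧ l ≫ q = (yon S).map (c j) ≫ g) :
    RepWith Pr f := by
  refine repWith_of_affine hf fun Z hZ g V fst snd sq => ?_
  obtain ⟨m, W, c, hstd, hW⟩ := h Z hZ g
  refine prop_of_std (Pr := Pr) hstd (fun j => (IsPullback.of_hasPullback snd (c j)).map (Over.forget S))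
    fun j => ?_
  obtain ⟨F', G', f', q, q', l, hf', sq', hl⟩ := hW j
  obtain ⟨r, -, hr⟩ := isPullback_lift sq' sq ((IsPullback.of_hasPullback snd (c j)).map (yon S)) l hl
  exact hf'.2 l _ _ hr

/-- `RepWith Pr` of a representable morphism is local on the base for the fpqc coverings. -/
theorem repWith_iff_of_isFpqcCover {Pr : MorphismProperty Scheme.{u}} [IsZariskiLocalAtTarget Pr]
    [Pr.DescendsAlong Fpqc.{u}] {ι : Type u} {Y : Sp S}
    {Yi : ι → Sp S} {g : ∀ i, Yi i ⟶ Y} (hg : IsFpqcCover Yi g) {X : Sp S} {f : X ⟶ Y} (hf : Representable f)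
    {Xi : ι → Sp S} {p : ∀ i, Xi i ⟶ Yi i} {q : ∀ i, Xi i ⟶ X} (sq : ∀ i, IsPullback (q i) (p i) f (g i)) :
    RepWith Pr f ↔ ∀ i, RepWith Pr (p i) := by
  constructor
  · intro h i
    exact (RepWith Pr).of_isPullback (sq i) h
  · intro h
    refine repWith_of_fpqc hf fun Z hZ k => ?_
    obtain ⟨m, W, c, hstd, hl⟩ := exists_std hg Z hZ k
    refine ⟨m, W, c, hstd, fun j => ?_⟩
    obtain ⟨i, l, hl⟩ := hl j
    exact ⟨_, _, p i, g i, q i, l, h i, sq i, hl⟩

end K627.FpqcRep
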