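import Groth.Agent.AlgSp.K627.GlueSq
import Groth.Agent.AlgSp.K641.GlueUniq
import Groth.Agent.AlgSp.K597.Affine
import Groth.Agent.AlgSp.K609.Diag
import Groth.Agent.AlgSp.K635.Glue
import Groth.Agent.AlgSp.K629.Basic

/-!
# Morphisms from a glueable affine scheme to an algebraic space with affine diagonal glue
-/

set_option autoImplicit false
set_option backward.isDefEq.respectTransparency false
universe u

open CategoryTheory CategoryTheory.Limits AlgebraicGeometry TensorProduct AlgSp

namespace K627.GlueHom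

open K641.SpecAlg K627.GlueSq

variable {R : Type u} [CommRing R]

theorem isAffine_of_diag {Z : Sp (Spec (CommRingCat.of R))} (hZ : IsAffineMor (Limits.diag Z))
    {T W V : Over (Spec (CommRingCat.of R))} (hT : IsAffine T.left) (hW : IsAffine W.left) {fst : V ⟶ W} {snd : V ⟶ T}
    {p : (yon _).obj W ⟶ Z} {z : (yon _).obj T ⟶ Z}
    (sq : IsPullback ((yon _).map fst) ((yon _).map snd) p z) : IsAffine V.left := by
  have h1 := K609.Diag.prop_of_repWith_diag @IsAffineHom (K597.Affine.repWith_of_isAffineMor hZ) sq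
  have : IsAffine (pullback W.hom T.hom) := inferInstance
  exact isAffine_of_isAffineHom (pullback.lift fst.left snd.left ((Over.w fst).trans (Over.w snd).symm))

section Glue

variable {R' : Type u} [CommRing R'] [Algebra R R'] {f : R}

attribute [local instance] Algebra.TensorProduct.rightAlgebra

theorem isAffine_U {D : Type u} [CommRing D] [Algebra R D] {P : Over (Spec (CommRingCat.of R))}
    {j : P ⟶ sp R D} {pU : P ⟶ sp R (Localization.Away f)} {x : sp R D ⟶ pt R}
    {y : sp R (Localization.Away f) ⟶ pt R} (sq : IsPullback j pU x y) : IsAffine P.left := by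
  obtain ⟨e, -⟩ := exists_iso_away D sq
  have := isIso_left e
  have : IsAffine (sp R (Localization.Away (algebraMap R D f))).left := inferInstanceAs (IsAffine (Spec _))
  exact IsAffine.of_isIso (inv e.hom.left)

theorem isAffine_X {D : Type u} [CommRing D] [Algebra R D] {P : Over (Spec (CommRingCat.of R))}
    {k : P ⟶ sp R D} {pX : P ⟶ sp R R'} {x : sp R D ⟶ pt R}
    {y : sp R R' ⟶ pt R} (sq : IsPullback k pX x y) : IsAffine P.left := by
  obtain ⟨e, -⟩ := exists_iso_tensor D sq
  have := isIso_left e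
  have : IsAffine (sp R (R' ⊗[R] D)).left := inferInstanceAs (IsAffine (Spec _))
  exact IsAffine.of_isIso (inv e.hom.left)

/-- Two morphisms from a glueable affine scheme to an algebraic space agreeing over `Spec R_f` and `Spec R'` agree. -/
theorem hom_ext_space (h : EtGlue.IsGlueingPair R R' f) {D : Type u} [CommRing D] [Algebra R D]
    (hD : EtGlue.IsGlueable R R' f D) {P P' : Over (Spec (CommRingCat.of R))}
    {j : P ⟶ sp R D} {k : P' ⟶ sp R D}
    {pU : P ⟶ sp R (Localization.Away f)} {pX : P' ⟶ sp R R'} {x x' : sp R D ⟶ pt R}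
    {y : sp R (Localization.Away f) ⟶ pt R} {y' : sp R R' ⟶ pt R} (sqU : IsPullback j pU x y)
    (sqX : IsPullback k pX x' y') (Z : Space (Spec (CommRingCat.of R)))
    {φ ψ : (yon _).obj (sp R D) ⟶ Z.obj} (hj : (yon _).map j ≫ φ = (yon _).map j ≫ ψ)
    (hk : (yon _).map k ≫ φ = (yon _).map k ≫ ψ) : φ = ψ := by
  refine K641.GlueUniq.eq_of_glueable h hD Z φ ψ ?_ ?_
  · rintro T t ⟨s⟩
    have w := sqX.lift_fst t s (hom_pt_ext _ _)
    rw [← w, Functor.map_comp, Category.assoc, hk, Category.assoc]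
  · rintro T t ⟨s⟩
    have w := sqU.lift_fst t s (hom_pt_ext _ _)
    rw [← w, Functor.map_comp, Category.assoc, hj, Category.assoc]

/-- Morphisms from a glueable affine scheme to an algebraic space with affine diagonal glue. -/
theorem exists_hom_affine (h : EtGlue.IsGlueingPair R R' f) {A : Type u} [CommRing A] [Algebra R A]
    (hA : EtGlue.IsGlueable R R' f A) {TU TX TQ : Over (Spec (CommRingCat.of R))}
    {j : TU ⟶ sp R A} {k : TX ⟶ sp R A} {a : TQ ⟶ TU} {b : TQ ⟶ TX} (sqQ : IsPullback a b j k)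
    {pU : TU ⟶ sp R (Localization.Away f)} {pX : TX ⟶ sp R R'} {x x' : sp R A ⟶ pt R}
    {y : sp R (Localization.Away f) ⟶ pt R} {y' : sp R R' ⟶ pt R} (sqU : IsPullback j pU x y)
    (sqX : IsPullback k pX x' y') (Z : Space (Spec (CommRingCat.of R))) (hZ : IsAffineMor (Limits.diag Z.obj))
    (α : (yon _).obj TU ⟶ Z.obj) (β : (yon _).obj TX ⟶ Z.obj)
    (hαβ : (yon _).map a ≫ α = (yon _).map b ≫ β) :
    ∃ φ : (yon _).obj (sp R A) ⟶ Z.obj, (yon _).map j ≫ φ = α ∧ (yon _).map k ≫ φ = β := by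
  have hTU := isAffine_U sqU
  have hTX := isAffine_X sqX
  obtain ⟨κ, W, w, hWa, hw, hcov⟩ := K641.ColimSch.exists_affine_charts Z.property
  -- the pieces
  choose P qW p hP hp using fun i => K629.Basic.exists_pb_yon (hw i) α
  choose P' qW' p' hP' hp' using fun i => K629.Basic.exists_pb_yon (hw i) β
  choose Q qWQ pQ hQ hpQ using fun i => K629.Basic.exists_pb_yon (hw i) ((yon _).map a ≫ α)
  have hPa : ∀ i, IsAffine (P i).left := fun i => isAffine_of_diag hZ hTU (hWa i) (hP i)
  have hPa' : ∀ i, IsAffine (P' i).left := fun i => isAffine_of_diag hZ hTX (hWa i) (hP' i)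
  -- the maps between the pieces
  have hl₁ : ∀ i, ∃ l : Q i ⟶ P i, l ≫ qW i = qWQ i ∧ IsPullback l (pQ i) (p i) a := by
    intro i
    have w1 : (yon _).map (qWQ i) ≫ w i = (yon _).map (pQ i ≫ a) ≫ α := by
      rw [Functor.map_comp, Category.assoc]; exact (hQ i).w
    obtain ⟨l, hl⟩ := (yon _).map_surjective ((hP i).lift _ _ w1)
    have e1 : l ≫ qW i = qWQ i := (yon _).map_injective (by rw [Functor.map_comp, hl, (hP i).lift_fst])
    have e2 : l ≫ p i = pQ i ≫ a := (yon _).map_injective (by rw [Functor.map_comp, hl, (hP i).lift_snd])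
    refine ⟨l, e1, IsPullback.of_map (yon _) e2 ?_⟩
    refine IsPullback.of_right ?_ (by rw [← Functor.map_comp, e2, Functor.map_comp]) (hP i)
    rw [← Functor.map_comp, e1]
    exact hQ i
  have hl₂ : ∀ i, ∃ l : Q i ⟶ P' i, l ≫ qW' i = qWQ i ∧ IsPullback l (pQ i) (p' i) b := by
    intro i
    have w1 : (yon _).map (qWQ i) ≫ w i = (yon _).map (pQ i ≫ b) ≫ β := by
      rw [Functor.map_comp, Category.assoc, ← hαβ]; exact (hQ i).w
    obtain ⟨l, hl⟩ := (yon _).map_surjective ((hP' i).lift _ _ w1)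
    have e1 : l ≫ qW' i = qWQ i := (yon _).map_injective (by rw [Functor.map_comp, hl, (hP' i).lift_fst])
    have e2 : l ≫ p' i = pQ i ≫ b := (yon _).map_injective (by rw [Functor.map_comp, hl, (hP' i).lift_snd])
    refine ⟨l, e1, IsPullback.of_map (yon _) e2 ?_⟩
    refine IsPullback.of_right ?_ (by rw [← Functor.map_comp, e2, Functor.map_comp]) (hP' i)
    rw [← Functor.map_comp, e1, ← hαβ]
    exact hQ i
  choose l₁ hl₁W hl₁ using hl₁
  choose l₂ hl₂W hl₂ using hl₂
  have sq₁ : ∀ i, IsPullback (l₁ i) (l₂ i ≫ (p' i ≫ pX)) (p i ≫ j ≫ x') y' := by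
    intro i
    have h1 : IsPullback (b ≫ pX) a y' (j ≫ x') := sqQ.flip.paste_horiz sqX.flip
    have h2 := (hl₁ i).flip.paste_horiz h1
    have e : l₂ i ≫ p' i ≫ pX = pQ i ≫ b ≫ pX := by rw [← Category.assoc, (hl₂ i).w, Category.assoc]
    rw [e]
    exact h2.flip
  have sq₂ : ∀ i, IsPullback (l₂ i) (l₁ i ≫ (p i ≫ pU)) (p' i ≫ k ≫ x) y := by
    intro i
    have h1 : IsPullback (a ≫ pU) b y (k ≫ x) := sqQ.paste_horiz sqU.flip
    have h2 := (hl₂ i).flip.paste_horiz h1
    have e : l₁ i ≫ p i ≫ pU = pQ i ≫ a ≫ pU := by rw [← Category.assoc, (hl₁ i).w, Category.assoc]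
    rw [e]
    exact h2.flip
  choose D _ _ hD jD kD zD sqDU sqDX hjk using fun i =>
    have := hPa i
    have := hPa' i
    exists_glue h (sq₁ i) (sq₂ i)
  have sqD : ∀ i, IsPullback (l₁ i) (l₂ i) (jD i) (kD i) := fun i => isPullback_of_glue (sq₁ i) (sqDX i) (hjk i)
  have : IsAffine (sp R A).left := inferInstanceAs (IsAffine (Spec _))
  choose δ hδj hδk using fun i => exists_hom h (hD i) (sqD i) (sqDU i) (sqDX i) (p i ≫ j) (p' i ≫ k) (by
    rw [← Category.assoc, (hl₁ i).w, Category.assoc, sqQ.w, ← Category.assoc, ← (hl₂ i).w, Category.assoc])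
  choose ω hωj hωk using fun i =>
    have := hWa i
    exists_hom h (hD i) (sqD i) (sqDU i) (sqDX i) (qW i) (qW' i) (by rw [hl₁W, hl₂W])
  have hδ : ∀ i, Etale (δ i).left := fun i =>
    etale_of_glue h hA (hD i) (sqDU i) (sqDX i) sqU sqX (δ i) (p i) (p' i) (hδj i) (hδk i) rfl (hp i) (hp' i)
  -- the cover
  have hcovU : ∀ t : ↥TU.left, ∃ i, t ∈ Set.range (p i).left := by
    intro t
    obtain ⟨i, v, hv⟩ := hcov (Points.ofPt α t)
    obtain ⟨v', -, hv'⟩ := K629.Basic.exists_pt_yon (hP i) v t hv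
    exact ⟨i, v', hv'⟩
  have hcovX : ∀ t : ↥TX.left, ∃ i, t ∈ Set.range (p' i).left := by
    intro t
    obtain ⟨i, v, hv⟩ := hcov (Points.ofPt β t)
    obtain ⟨v', -, hv'⟩ := K629.Basic.exists_pt_yon (hP' i) v t hv
    exact ⟨i, v', hv'⟩
  have hδcov : ∀ t : ↥(sp R A).left, ∃ i, t ∈ Set.range (δ i).left := by
    intro t
    rcases jointly_surjective h sqU sqX t with ⟨u, rfl⟩ | ⟨u, rfl⟩
    · obtain ⟨i, v, rfl⟩ := hcovU u
      refine ⟨i, (jD i).left v, ?_⟩
      have := congrArg (fun q => q.left v) (hδj i)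
      exact this
    · obtain ⟨i, v, rfl⟩ := hcovX u
      refine ⟨i, (kD i).left v, ?_⟩
      have := congrArg (fun q => q.left v) (hδk i)
      exact this
  -- restriction of the local morphisms
  have keyU : ∀ i (T : Over (Spec (CommRingCat.of R))) (t : T ⟶ sp R (D i)) (s : T ⟶ sp R (Localization.Away f)),
      (yon _).map (t ≫ ω i) ≫ w i = (yon _).map (sqU.lift (t ≫ δ i) s (hom_pt_ext _ _)) ≫ α := by
    intro i T t s
    obtain ⟨m, hm⟩ : ∃ m : T ⟶ P i, m ≫ jD i = t := ⟨_, (sqDU i).lift_fst t s (hom_pt_ext _ _)⟩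
    have e1 : sqU.lift (t ≫ δ i) s (hom_pt_ext _ _) = m ≫ p i := by
      apply sqU.hom_ext
      · rw [sqU.lift_fst, ← hm, Category.assoc, Category.assoc, hδj]
      · exact hom_U_ext _ _
    rw [e1, ← hm, Category.assoc, hωj, Functor.map_comp, Functor.map_comp, Category.assoc, Category.assoc, (hP i).w]
  have keyX : ∀ i (T : Over (Spec (CommRingCat.of R))) (t : T ⟶ sp R (D i)) (s : T ⟶ sp R R'),
      (yon _).map (t ≫ ω i) ≫ w i = (yon _).map (sqX.lift (t ≫ δ i) s (hom_pt_ext _ _)) ≫ β := by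
    intro i T t s
    obtain ⟨m, hm, hm'⟩ : ∃ m : T ⟶ P' i, m ≫ kD i = t ∧ m ≫ p' i ≫ pX = s :=
      ⟨_, (sqDX i).lift_fst t s (hom_pt_ext _ _), (sqDX i).lift_snd t s (hom_pt_ext _ _)⟩
    have e1 : sqX.lift (t ≫ δ i) s (hom_pt_ext _ _) = m ≫ p' i := by
      apply sqX.hom_ext
      · rw [sqX.lift_fst, ← hm, Category.assoc, Category.assoc, hδk]
      · rw [sqX.lift_snd, Category.assoc, hm']
    rw [e1, ← hm, Category.assoc, hωk, Functor.map_comp, Functor.map_comp, Category.assoc, Category.assoc, (hP' i).w]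
  -- agreement on overlaps
  have hover : ∀ (i i' : κ) (T : Over (Spec (CommRingCat.of R))) (u : T ⟶ sp R (D i)) (v : T ⟶ sp R (D i')),
      u ≫ δ i = v ≫ δ i' → (yon _).map u ≫ (yon _).map (ω i) ≫ w i = (yon _).map v ≫ (yon _).map (ω i') ≫ w i' := by
    intro i i' T u v huv
    have sqO := IsPullback.of_hasPullback (δ i) (δ i')
    have sqO' := sqO.map (Over.forget _)
    have : IsAffine (sp R (D i)).left := inferInstanceAs (IsAffine (Spec _))
    have : IsAffine (sp R (D i')).left := inferInstanceAs (IsAffine (Spec _))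
    have hO1 : Etale (pullback.fst (δ i) (δ i')).left :=
      MorphismProperty.of_isPullback (P := @Etale) sqO'.flip (hδ i')
    have hO2 : IsAffineHom (pullback.fst (δ i) (δ i')).left :=
      MorphismProperty.of_isPullback (P := @IsAffineHom) sqO'.flip
        (K597.Affine.isAffineHom_of_isAffine _ (inferInstanceAs (IsAffine (Spec _))) (inferInstanceAs (IsAffine (Spec _))))
    have hO : IsAffine (pullback (δ i) (δ i')).left := isAffine_of_isAffineHom (pullback.fst (δ i) (δ i')).left
    obtain ⟨B, _, _, hB, ⟨e⟩⟩ := exists_glueable_of_etale h (hD i) _ hO1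
    have key : (yon _).map e.hom ≫ (yon _).map (pullback.fst (δ i) (δ i')) ≫ (yon _).map (ω i) ≫ w i =
        (yon _).map e.hom ≫ (yon _).map (pullback.snd (δ i) (δ i')) ≫ (yon _).map (ω i') ≫ w i' := by
      have hpr : e.hom ≫ pullback.fst (δ i) (δ i') ≫ δ i = e.hom ≫ pullback.snd (δ i) (δ i') ≫ δ i' := by
        rw [pullback.condition]
      refine K641.GlueUniq.eq_of_glueable h hB Z _ _ ?_ ?_
      · rintro T' t ⟨s⟩
        have h1 := keyX i T' (t ≫ e.hom ≫ pullback.fst (δ i) (δ i')) s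
        have h2 := keyX i' T' (t ≫ e.hom ≫ pullback.snd (δ i) (δ i')) s
        simp only [Category.assoc, Functor.map_comp] at h1 h2 ⊢
        rw [h1, h2]
        simp only [hpr]
      · rintro T' t ⟨s⟩
        have h1 := keyU i T' (t ≫ e.hom ≫ pullback.fst (δ i) (δ i')) s
        have h2 := keyU i' T' (t ≫ e.hom ≫ pullback.snd (δ i) (δ i')) s
        simp only [Category.assoc, Functor.map_comp] at h1 h2 ⊢
        rw [h1, h2]
        simp only [hpr]
    have key' : (yon _).map (pullback.fst (δ i) (δ i')) ≫ (yon _).map (ω i) ≫ w i =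
        (yon _).map (pullback.snd (δ i) (δ i')) ≫ (yon _).map (ω i') ≫ w i' := (cancel_epi _).1 key
    have h3 := sqO.lift_fst u v huv
    have h4 := sqO.lift_snd u v huv
    conv_lhs => rw [← h3]
    conv_rhs => rw [← h4]
    rw [Functor.map_comp, Functor.map_comp, Category.assoc, Category.assoc, key']
  obtain ⟨φ, hφ, -⟩ := K635.Glue.existsUnique_glue_cover Z.obj (fun i => sp R (D i)) δ
    (fun i => by have := hδ i; infer_instance) (fun i => by have := hδ i; infer_instance) hδcov
    (fun i => (yon _).map (ω i) ≫ w i) hover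
  refine ⟨φ, ?_, ?_⟩
  · refine K635.Glue.hom_ext_cover P p (fun i => by have := hp i; infer_instance)
      (fun i => by have := hp i; infer_instance) hcovU fun i => ?_
    rw [← Category.assoc, ← Functor.map_comp, ← hδj, Functor.map_comp, Category.assoc, hφ, ← Category.assoc,
      ← Functor.map_comp, hωj, (hP i).w]
  · refine K635.Glue.hom_ext_cover P' p' (fun i => by have := hp' i; infer_instance)
      (fun i => by have := hp' i; infer_instance) hcovX fun i => ?_
    rw [← Category.assoc, ← Functor.map_comp, ← hδk, Functor.map_comp, Category.assoc, hφ, ← Category.assoc,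
      ← Functor.map_comp, hωk, (hP' i).w]

end Glue

end K627.GlueHom
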