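import Mathlib.AlgebraicGeometry.QuasiAffine
import Mathlib.AlgebraicGeometry.Morphisms.Flat
import Mathlib.AlgebraicGeometry.Morphisms.FinitePresentation
import Mathlib.RingTheory.MvPolynomial.Basic
import Mathlib.RingTheory.Flat.Basic

/-!
# Affine bundles over quasi-affine schemes

For a quasi-affine scheme `W` there are an affine scheme `E` and a flat, finitely presented, surjective morphism
`J : E ⟶ W` whose base change to any affine scheme is an affine space.
-/

set_option autoImplicit false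
universe u

open CategoryTheory CategoryTheory.Limits AlgebraicGeometry

namespace K627.Tors

section Ring

variable {B : Type u} [CommRing B] {κ : Type u} [Fintype κ] (b : κ → B)

/-- The ring of solutions of `∑ b_i x_i = 1` with one more free variable. -/
abbrev Q : Type u := MvPolynomial (Option κ) B ⧸
  Ideal.span {∑ i, MvPolynomial.C (b i) * MvPolynomial.X (some i) - (1 : MvPolynomial (Option κ) B)}

/-- The coordinates. -/
noncomputable def coord (i : Option κ) : Q b := Ideal.Quotient.mk _ (MvPolynomial.X i)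

theorem sum_coord : ∑ i, algebraMap B (Q b) (b i) * coord b (some i) = 1 := by
  have h1 : Ideal.Quotient.mk (Ideal.span {∑ i, MvPolynomial.C (b i) * MvPolynomial.X (some i) -
      (1 : MvPolynomial (Option κ) B)}) (∑ i, MvPolynomial.C (b i) * MvPolynomial.X (some i) - 1) = 0 :=
    Ideal.Quotient.eq_zero_iff_mem.2 (Ideal.subset_span rfl)
  rw [map_sub, map_sum, map_one, sub_eq_zero] at h1
  rw [← h1]
  refine Finset.sum_congr rfl fun i _ => ?_
  rw [map_mul]
  rfl

/-- Homomorphisms out of the ring of solutions. -/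
noncomputable def desc {C : Type u} [CommRing C] (φ : B →+* C) (x : Option κ → C)
    (hx : ∑ i, φ (b i) * x (some i) = 1) : Q b →+* C :=
  Ideal.Quotient.lift _ (MvPolynomial.eval₂Hom φ x) (by
    intro a ha
    have h1 : Ideal.span {∑ i, MvPolynomial.C (b i) * MvPolynomial.X (some i) -
      (1 : MvPolynomial (Option κ) B)} ≤ RingHom.ker (MvPolynomial.eval₂Hom φ x) := by
      rw [Ideal.span_singleton_le_iff_mem, RingHom.mem_ker, map_sub, map_sum, map_one, sub_eq_zero]
      refine Eq.trans (Finset.sum_congr rfl fun i _ => ?_) hx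
      rw [map_mul, MvPolynomial.coe_eval₂Hom, MvPolynomial.eval₂_C, MvPolynomial.eval₂_X]
    exact h1 ha)

theorem desc_coord {C : Type u} [CommRing C] (φ : B →+* C) (x : Option κ → C)
    (hx : ∑ i, φ (b i) * x (some i) = 1) (i : Option κ) : desc b φ x hx (coord b i) = x i := by
  rw [desc, coord, Ideal.Quotient.lift_mk, MvPolynomial.coe_eval₂Hom, MvPolynomial.eval₂_X]

theorem desc_algebraMap {C : Type u} [CommRing C] (φ : B →+* C) (x : Option κ → C)
    (hx : ∑ i, φ (b i) * x (some i) = 1) (r : B) : desc b φ x hx (algebraMap B (Q b) r) = φ r := by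
  change Ideal.Quotient.lift _ (MvPolynomial.eval₂Hom φ x) _ (Ideal.Quotient.mk _ (MvPolynomial.C r)) = _
  rw [Ideal.Quotient.lift_mk, MvPolynomial.coe_eval₂Hom, MvPolynomial.eval₂_C]

theorem hom_ext {C : Type u} [CommRing C] {φ ψ : Q b →+* C}
    (h1 : φ.comp (algebraMap B (Q b)) = ψ.comp (algebraMap B (Q b))) (h2 : ∀ i, φ (coord b i) = ψ (coord b i)) :
    φ = ψ := by
  refine Ideal.Quotient.ringHom_ext (MvPolynomial.ringHom_ext (fun r => ?_) fun i => ?_)
  · exact RingHom.congr_fun h1 r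
  · exact h2 i

variable {A : Type u} [CommRing A] (α : B →+* A) (x₀ : κ → A)

/-- The trivialisation of the ring of solutions given by a solution. -/
noncomputable def triv (h₀ : ∑ i, α (b i) * x₀ i = 1) : Q b →+* MvPolynomial κ A :=
  desc b ((MvPolynomial.C : A →+* MvPolynomial κ A).comp α) (fun i => match i with
    | some i => MvPolynomial.C (x₀ i) + MvPolynomial.X i -
        (∑ j, MvPolynomial.C (α (b j)) * MvPolynomial.X j) * MvPolynomial.C (x₀ i)
    | none => ∑ j, MvPolynomial.C (α (b j)) * MvPolynomial.X j) (by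
      have h1 : ∑ i, MvPolynomial.C (α (b i)) * MvPolynomial.C (x₀ i) = (1 : MvPolynomial κ A) := by
        rw [← map_one (MvPolynomial.C : A →+* MvPolynomial κ A), ← h₀, map_sum]
        exact Finset.sum_congr rfl fun i _ => (map_mul _ _ _).symm
      simp only [RingHom.comp_apply, mul_sub, mul_add, Finset.sum_add_distrib, Finset.sum_sub_distrib]
      have h2 : ∑ i, MvPolynomial.C (α (b i)) * ((∑ j, MvPolynomial.C (α (b j)) * MvPolynomial.X j) *
          MvPolynomial.C (x₀ i)) = (∑ j, MvPolynomial.C (α (b j)) * MvPolynomial.X j : MvPolynomial κ A) := by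
        have : ∀ i, MvPolynomial.C (α (b i)) * ((∑ j, MvPolynomial.C (α (b j)) * MvPolynomial.X j) *
          MvPolynomial.C (x₀ i)) = ((∑ j, MvPolynomial.C (α (b j)) * MvPolynomial.X j) *
          (MvPolynomial.C (α (b i)) * MvPolynomial.C (x₀ i)) : MvPolynomial κ A) := fun i => by ring
        rw [Finset.sum_congr rfl fun i _ => this i, ← Finset.mul_sum, h1, mul_one]
      rw [h2, h1]
      ring)

theorem triv_algebraMap (h₀ : ∑ i, α (b i) * x₀ i = 1) (r : B) :
    triv b α x₀ h₀ (algebraMap B (Q b) r) = MvPolynomial.C (α r) := by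
  rw [triv, desc_algebraMap, RingHom.comp_apply]

theorem isPushout_triv (h₀ : ∑ i, α (b i) * x₀ i = 1) :
    IsPushout (CommRingCat.ofHom (algebraMap B (Q b))) (CommRingCat.ofHom α)
      (CommRingCat.ofHom (triv b α x₀ h₀)) (CommRingCat.ofHom (algebraMap A (MvPolynomial κ A))) := by
  have hsome : ∀ i, triv b α x₀ h₀ (coord b (some i)) = MvPolynomial.C (x₀ i) + MvPolynomial.X i -
        (∑ j, MvPolynomial.C (α (b j)) * MvPolynomial.X j) * MvPolynomial.C (x₀ i) := fun i => desc_coord _ _ _ _ _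
  have hnone : triv b α x₀ h₀ (coord b none) = ∑ j, MvPolynomial.C (α (b j)) * MvPolynomial.X j := desc_coord _ _ _ _ _
  refine ⟨⟨?_⟩, ⟨PushoutCocone.IsColimit.mk _ (fun s => CommRingCat.ofHom
    (MvPolynomial.eval₂Hom s.inr.hom (fun i => s.inl.hom (coord b (some i)) - s.inr.hom (x₀ i) +
      s.inl.hom (coord b none) * s.inr.hom (x₀ i)))) ?_ ?_ ?_⟩⟩
  · apply CommRingCat.hom_ext
    refine RingHom.ext fun r => ?_
    exact triv_algebraMap b α x₀ h₀ r
  · intro s
    apply CommRingCat.hom_ext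
    have hc : ∀ r, s.inl.hom (algebraMap B (Q b) r) = s.inr.hom (α r) := fun r =>
      congrArg (fun q => q.hom r) s.condition
    have hsum : ∑ i, s.inr.hom (α (b i)) * s.inl.hom (coord b (some i)) = 1 := by
      rw [← map_one s.inl.hom, ← sum_coord b, map_sum]
      exact Finset.sum_congr rfl fun i _ => by rw [map_mul, hc]
    have hsum' : ∑ i, s.inr.hom (α (b i)) * s.inr.hom (x₀ i) = 1 := by
      rw [← map_one s.inr.hom, ← h₀, map_sum]
      exact Finset.sum_congr rfl fun i _ => by rw [map_mul]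
    have hL : ∑ j, s.inr.hom (α (b j)) * (s.inl.hom (coord b (some j)) - s.inr.hom (x₀ j) +
      s.inl.hom (coord b none) * s.inr.hom (x₀ j)) = s.inl.hom (coord b none) := by
      have : ∀ j, s.inr.hom (α (b j)) * (s.inl.hom (coord b (some j)) - s.inr.hom (x₀ j) +
        s.inl.hom (coord b none) * s.inr.hom (x₀ j)) = s.inr.hom (α (b j)) * s.inl.hom (coord b (some j)) -
        s.inr.hom (α (b j)) * s.inr.hom (x₀ j) +
        s.inl.hom (coord b none) * (s.inr.hom (α (b j)) * s.inr.hom (x₀ j)) := fun j => by ring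
      rw [Finset.sum_congr rfl fun j _ => this j, Finset.sum_add_distrib, Finset.sum_sub_distrib, hsum, hsum',
        ← Finset.mul_sum, hsum', mul_one, sub_self, zero_add]
    have hL' : MvPolynomial.eval₂Hom s.inr.hom (fun i => s.inl.hom (coord b (some i)) - s.inr.hom (x₀ i) +
      s.inl.hom (coord b none) * s.inr.hom (x₀ i)) (∑ j, MvPolynomial.C (α (b j)) * MvPolynomial.X j) =
        s.inl.hom (coord b none) := by
      rw [map_sum]
      refine (Finset.sum_congr rfl fun j _ => ?_).trans hL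
      rw [map_mul, MvPolynomial.coe_eval₂Hom, MvPolynomial.eval₂_C, MvPolynomial.eval₂_X]
    refine hom_ext b ?_ ?_
    · ext r
      refine Eq.trans ?_ (hc r).symm
      change MvPolynomial.eval₂Hom _ _ (triv b α x₀ h₀ (algebraMap B (Q b) r)) = _
      rw [triv_algebraMap, MvPolynomial.coe_eval₂Hom, MvPolynomial.eval₂_C]
    · rintro (_ | i)
      · change MvPolynomial.eval₂Hom _ _ (triv b α x₀ h₀ (coord b none)) = _
        rw [hnone, hL']
      · change MvPolynomial.eval₂Hom _ _ (triv b α x₀ h₀ (coord b (some i))) = _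
        rw [hsome, map_sub, map_mul, hL', map_add, MvPolynomial.coe_eval₂Hom, MvPolynomial.eval₂_C,
          MvPolynomial.eval₂_X]
        ring
  · intro s
    apply CommRingCat.hom_ext
    ext r
    exact MvPolynomial.eval₂_C _ _ _
  · intro s m h1 h2
    apply CommRingCat.hom_ext
    have h1' : ∀ q, m.hom (triv b α x₀ h₀ q) = s.inl.hom q := fun q => congrArg (fun k => k.hom q) h1
    have h2' : ∀ a, m.hom (MvPolynomial.C a) = s.inr.hom a := fun a => congrArg (fun k => k.hom a) h2
    refine MvPolynomial.ringHom_ext (fun r => ?_) fun i => ?_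
    · rw [h2']
      exact (MvPolynomial.eval₂_C _ _ _).symm
    · refine Eq.trans ?_ (MvPolynomial.eval₂_X _ _ _).symm
      rw [← h1', ← h1', ← h2', ← map_sub, ← map_mul, ← map_add, hsome, hnone]
      congr 1
      ring

end Ring

theorem of_comp_mono {C : Type*} [Category* C] {P X Y Z W : C} {fst : P ⟶ X} {snd : P ⟶ Y} {f : X ⟶ Z} {g : Y ⟶ Z}
    (i : Z ⟶ W) [Mono i] (h : IsPullback fst snd (f ≫ i) (g ≫ i)) : IsPullback fst snd f g := by
  have w : fst ≫ f = snd ≫ g := by
    rw [← cancel_mono i, Category.assoc, Category.assoc]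
    exact h.w
  refine ⟨⟨w⟩, ⟨PullbackCone.IsLimit.mk w (fun s => h.lift s.fst s.snd (by
    rw [← Category.assoc, ← Category.assoc, s.condition])) ?_ ?_ ?_⟩⟩
  · intro s
    exact h.lift_fst _ _ _
  · intro s
    exact h.lift_snd _ _ _
  · intro s m h1 h2
    apply h.hom_ext
    · rw [h1, h.lift_fst]
    · rw [h2, h.lift_snd]

section Scheme

/-- `J : E ⟶ W` is an affine space over every affine scheme. -/
def IsTriv (κ : Type u) {E W : Scheme.{u}} (J : E ⟶ W) : Prop :=
  ∀ (A : CommRingCat.{u}) (g : Spec A ⟶ W), ∃ e : Spec (CommRingCat.of (MvPolynomial κ A)) ⟶ E,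
    IsPullback e (Spec.map (CommRingCat.ofHom (algebraMap A (MvPolynomial κ A)))) J g

/-- Properties of affine bundles. -/
theorem IsTriv.of_property (P : MorphismProperty Scheme.{u}) [IsZariskiLocalAtTarget P]
    {κ : Type u} (hP : ∀ A : CommRingCat.{u}, P (Spec.map (CommRingCat.ofHom (algebraMap A (MvPolynomial κ A)))))
    {E W : Scheme.{u}} {J : E ⟶ W} (hJ : IsTriv κ J) : P J := by
  have aux : ∀ (A : CommRingCat.{u}) (g : Spec A ⟶ W), P (pullback.snd J g) := by
    intro A g
    obtain ⟨e, he⟩ := hJ A g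
    have sq := IsPullback.of_hasPullback J g
    have h1 : (he.isoIsPullback _ _ sq).inv ≫ Spec.map (CommRingCat.ofHom (algebraMap A (MvPolynomial κ A))) =
        pullback.snd J g := he.isoIsPullback_inv_snd _ _ sq
    rw [← h1]
    exact (P.cancel_left_of_respectsIso _ _).2 (hP _)
  exact IsZariskiLocalAtTarget.of_openCover W.affineCover fun i => aux _ _

/-- The affine bundle over a quasi-affine scheme. -/
theorem exists_triv (W : Scheme.{u}) [W.IsQuasiAffine] :
    ∃ (κ : Type u) (_ : Finite κ) (E : CommRingCat.{u}) (J : Spec E ⟶ W), IsTriv κ J := by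
  let B : CommRingCat.{u} := Γ(W, ⊤)
  obtain ⟨t, ht⟩ : ∃ t : Finset B, (PrimeSpectrum.zeroLocus (t : Set B))ᶜ = Set.range W.toSpecΓ := by
    apply PrimeSpectrum.isCompact_isOpen_iff.1
    exact ⟨isCompact_range W.toSpecΓ.continuous, W.toSpecΓ.isOpenEmbedding.isOpen_range⟩
  let b : ↥t → B := Subtype.val
  let π : Spec (CommRingCat.of (Q b)) ⟶ Spec B := Spec.map (CommRingCat.ofHom (algebraMap B (Q b)))
  have hπ : Set.range π ⊆ Set.range W.toSpecΓ := by
    rintro _ ⟨p, rfl⟩
    rw [← ht]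
    intro hp
    have h1 : ∀ i : ↥t, algebraMap B (Q b) (b i) ∈ p.asIdeal := fun i => hp i.2
    apply p.isPrime.ne_top
    rw [Ideal.eq_top_iff_one, ← sum_coord b]
    exact Ideal.sum_mem _ fun i _ => Ideal.mul_mem_right _ _ (h1 i)
  let J := IsOpenImmersion.lift W.toSpecΓ π hπ
  have hJ' : J ≫ W.toSpecΓ = Spec.map (CommRingCat.ofHom (algebraMap B (Q b))) := IsOpenImmersion.lift_fac _ _ _
  refine ⟨↥t, inferInstance, CommRingCat.of (Q b), J, fun A g => ?_⟩
  obtain ⟨α, hα⟩ := Spec.map_surjective (g ≫ W.toSpecΓ)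
  have hspan : Ideal.span (Set.range fun i : ↥t => α.hom (b i)) = ⊤ := by
    by_contra hne
    obtain ⟨m, hm, hle⟩ := Ideal.exists_le_maximal _ hne
    let p : Spec A := ⟨m, hm.isPrime⟩
    have h1 : (Spec.map α) p ∈ Set.range W.toSpecΓ := by
      rw [hα]
      exact ⟨g p, rfl⟩
    rw [← ht] at h1
    apply h1
    intro x hx
    exact hle (Ideal.subset_span ⟨⟨x, hx⟩, rfl⟩)
  obtain ⟨c, hc⟩ := (Ideal.mem_span_range_iff_exists_fun).1 ((Ideal.eq_top_iff_one _).1 hspan)
  have hc' : ∑ i, α.hom (b i) * c i = 1 := by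
    rw [← hc]
    exact Finset.sum_congr rfl fun i _ => mul_comm _ _
  refine ⟨Spec.map (CommRingCat.ofHom (triv b α.hom c hc')), ?_⟩
  have sq := isPullback_SpecMap_of_isPushout _ _ _ _ (isPushout_triv b α.hom c hc')
  have hα' : Spec.map (CommRingCat.ofHom α.hom) = g ≫ W.toSpecΓ := hα
  rw [hα', ← hJ'] at sq
  exact of_comp_mono _ sq

theorem isPushout_mvPolynomial (κ : Type u) {A A' : CommRingCat.{u}} (α : A ⟶ A') :
    IsPushout (CommRingCat.ofHom (algebraMap A (MvPolynomial κ A))) α
      (CommRingCat.ofHom (MvPolynomial.map α.hom : MvPolynomial κ A →+* MvPolynomial κ A'))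
      (CommRingCat.ofHom (algebraMap A' (MvPolynomial κ A'))) := by
  refine ⟨⟨?_⟩, ⟨PushoutCocone.IsColimit.mk _ (fun s => CommRingCat.ofHom
    (MvPolynomial.eval₂Hom s.inr.hom (fun i => s.inl.hom (MvPolynomial.X i)))) ?_ ?_ ?_⟩⟩
  · apply CommRingCat.hom_ext
    refine RingHom.ext fun r => ?_
    exact MvPolynomial.map_C _ _
  · intro s
    apply CommRingCat.hom_ext
    refine MvPolynomial.ringHom_ext (fun r => ?_) fun i => ?_
    · change MvPolynomial.eval₂ _ _ (MvPolynomial.map _ (MvPolynomial.C r)) = _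
      rw [MvPolynomial.map_C, MvPolynomial.eval₂_C]
      exact (congrArg (fun q => q.hom r) s.condition).symm
    · change MvPolynomial.eval₂ _ _ (MvPolynomial.map _ (MvPolynomial.X i)) = _
      rw [MvPolynomial.map_X, MvPolynomial.eval₂_X]
  · intro s
    apply CommRingCat.hom_ext
    refine RingHom.ext fun r => ?_
    exact MvPolynomial.eval₂_C _ _ _
  · intro s m h1 h2
    apply CommRingCat.hom_ext
    refine MvPolynomial.ringHom_ext (fun r => ?_) fun i => ?_
    · refine Eq.trans ?_ (MvPolynomial.eval₂_C _ _ _).symm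
      exact congrArg (fun q => q.hom r) h2
    · refine Eq.trans ?_ (MvPolynomial.eval₂_X _ _ _).symm
      rw [← h1]
      change _ = m.hom (MvPolynomial.map _ (MvPolynomial.X i))
      rw [MvPolynomial.map_X]

theorem flat_mvPolynomial (κ : Type u) (A : CommRingCat.{u}) :
    Flat (Spec.map (CommRingCat.ofHom (algebraMap A (MvPolynomial κ A)))) := by
  rw [Flat.SpecMap_iff]
  exact (RingHom.flat_algebraMap_iff).2 inferInstance

theorem lfp_mvPolynomial (κ : Type u) [Finite κ] (A : CommRingCat.{u}) :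
    LocallyOfFinitePresentation (Spec.map (CommRingCat.ofHom (algebraMap A (MvPolynomial κ A)))) := by
  rw [HasRingHomProperty.Spec_iff (P := @LocallyOfFinitePresentation)]
  exact (RingHom.finitePresentation_algebraMap (A := A) (B := MvPolynomial κ A)).2
    (Algebra.FinitePresentation.mvPolynomial A A κ)

theorem surjective_mvPolynomial (κ : Type u) (A : CommRingCat.{u}) :
    Surjective (Spec.map (CommRingCat.ofHom (algebraMap A (MvPolynomial κ A)))) := by
  have h : Spec.map (CommRingCat.ofHom (MvPolynomial.eval₂Hom (RingHom.id A) (fun _ : κ => (0 : A)))) ≫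
      Spec.map (CommRingCat.ofHom (algebraMap A (MvPolynomial κ A))) = 𝟙 _ := by
    rw [← Spec.map_comp, ← CommRingCat.ofHom_comp, ← Spec.map_id]
    congr 1
    apply CommRingCat.hom_ext
    refine RingHom.ext fun r => ?_
    exact MvPolynomial.eval₂_C _ _ _
  refine ⟨fun x => ⟨Spec.map (CommRingCat.ofHom (MvPolynomial.eval₂Hom (RingHom.id A) (fun _ : κ => (0 : A)))) x, ?_⟩⟩
  exact congrArg (fun q => q x) h

/-- One side of the construction below. -/
theorem exists_side {E : CommRingCat.{u}} {V V' W E' Y' P : Scheme.{u}} [IsAffine W] {J : Spec E ⟶ V} {p : V' ⟶ V}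
    {f₁ : W ⟶ Spec E} {f₂ : W ⟶ V'} (sq : IsPullback f₁ f₂ J p) {κ' : Type u} {J' : E' ⟶ Y'} (hJ' : IsTriv κ' J')
    {h : W ⟶ Y'} {e : P ⟶ E'} {q : P ⟶ W} (sq' : IsPullback e q J' h) :
    ∃ a : P ⟶ Spec (CommRingCat.of (MvPolynomial κ' E)),
      IsPullback a (q ≫ f₂) (Spec.map (CommRingCat.ofHom (algebraMap E (MvPolynomial κ' E))) ≫ J) p := by
  obtain ⟨α, hα⟩ := Spec.map_surjective (W.isoSpec.inv ≫ f₁)
  obtain ⟨e', he'⟩ := hJ' Γ(W, ⊤) (W.isoSpec.inv ≫ h)
  have sq₁ := isPullback_SpecMap_of_isPushout _ _ _ _ (isPushout_mvPolynomial κ' α)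
  rw [hα] at sq₁
  have sq₂ : IsPullback e (q ≫ W.isoSpec.hom) J' (W.isoSpec.inv ≫ h) :=
    IsPullback.of_iso sq' (Iso.refl _) (Iso.refl _) W.isoSpec (Iso.refl _) (by simp) (by simp) (by simp) (by simp)
  let θ := sq₂.isoIsPullback _ _ he'
  have hθ : θ.hom ≫ Spec.map (CommRingCat.ofHom (algebraMap _ (MvPolynomial κ' _))) = q ≫ W.isoSpec.hom :=
    sq₂.isoIsPullback_hom_snd _ _ he'
  refine ⟨θ.hom ≫ Spec.map (CommRingCat.ofHom (MvPolynomial.map α.hom)), ?_⟩
  have sq₃ : IsPullback (θ.hom ≫ Spec.map (CommRingCat.ofHom (MvPolynomial.map α.hom))) q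
      (Spec.map (CommRingCat.ofHom (algebraMap E (MvPolynomial κ' E)))) f₁ := by
    refine IsPullback.of_iso sq₁ θ.symm (Iso.refl _) W.isoSpec.symm (Iso.refl _) (by simp) ?_ (by simp) (by simp)
    rw [← cancel_mono W.isoSpec.hom, Category.assoc, Category.assoc]
    simp [← hθ]
  exact (sq₃.flip.paste_horiz sq.flip).flip

/-- Flat, locally finitely presented, surjective. -/
def Fps : MorphismProperty Scheme.{u} := fun _ _ f => Flat f ∧ LocallyOfFinitePresentation f ∧ Surjective f

theorem IsTriv.fps {κ : Type u} [Finite κ] {E W : Scheme.{u}} {J : E ⟶ W} (hJ : IsTriv κ J) : Fps J :=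
  ⟨hJ.of_property @Flat (flat_mvPolynomial κ), hJ.of_property @LocallyOfFinitePresentation (lfp_mvPolynomial κ),
    hJ.of_property @Surjective (surjective_mvPolynomial κ)⟩

theorem Fps.comp {X Y Z : Scheme.{u}} {f : X ⟶ Y} {g : Y ⟶ Z} (hf : Fps f) (hg : Fps g) : Fps (f ≫ g) := by
  obtain ⟨h1, h2, h3⟩ := hf
  obtain ⟨h4, h5, h6⟩ := hg
  exact ⟨inferInstance, inferInstance, inferInstance⟩

/-- Affine schemes over two quasi-affine schemes with a common affine base change. -/
theorem exists_common {V Y' V' : Scheme.{u}} [V.IsQuasiAffine] [Y'.IsQuasiAffine] (pV : V' ⟶ V) (pY : V' ⟶ Y')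
    [IsAffineHom pV] [IsAffineHom pY] : ∃ (T₁ T' P : Scheme.{u}) (c₁ : T₁ ⟶ V) (c' : T' ⟶ Y')
      (a : P ⟶ T₁) (b : P ⟶ T') (d : P ⟶ V'), IsAffine T₁ ∧ IsAffine T' ∧ IsPullback a d c₁ pV ∧ IsPullback b d c' pY ∧
      Fps c₁ ∧ Fps c' := by
  obtain ⟨κ, _, E, J, hJ⟩ := exists_triv V
  obtain ⟨κ', _, E', J', hJ'⟩ := exists_triv Y'
  have sqA := IsPullback.of_hasPullback J pV
  have sqC := IsPullback.of_hasPullback J' pY
  have : IsAffine (pullback J pV) := isAffine_of_isAffineHom (pullback.fst J pV)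
  have : IsAffine (pullback J' pY) := isAffine_of_isAffineHom (pullback.fst J' pY)
  have sqP := IsPullback.of_hasPullback (pullback.snd J pV) (pullback.snd J' pY)
  obtain ⟨a, ha⟩ := exists_side sqA hJ' (sqP.paste_vert sqC.flip).flip
  obtain ⟨b, hb⟩ := exists_side sqC hJ (sqP.flip.paste_vert sqA.flip).flip
  have hw := sqP.w
  rw [← hw] at hb
  refine ⟨_, _, _, _, _, a, b, _, inferInstance, inferInstance, ha, hb, ?_, ?_⟩
  · exact Fps.comp ⟨flat_mvPolynomial _ _, lfp_mvPolynomial _ _, surjective_mvPolynomial _ _⟩ hJ.fps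
  · exact Fps.comp ⟨flat_mvPolynomial _ _, lfp_mvPolynomial _ _, surjective_mvPolynomial _ _⟩ hJ'.fps

end Scheme

end K627.Tors
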