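import Groth.Agent.AlgSp.K627.GlueProp
import Groth.Agent.AlgSp.K627.GlueHom
import Groth.Agent.AlgSp.K627.Tors

/-!
# Glueing a flat equivalence relation
-/

set_option autoImplicit false
universe u

open CategoryTheory CategoryTheory.Limits AlgebraicGeometry TensorProduct AlgSp

namespace K627.GlueGpd

open K641.SpecAlg K627.GlueSq K627.GlueProp K627.Tors

/-- Kernel pairs of the two vertical maps of a cartesian square. -/
theorem isPullback_kernelPair {C : Type*} [Category* C] {P T V' V K L : C} {a : P ⟶ T} {d : P ⟶ V'} {c : T ⟶ V}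
    {p : V' ⟶ V} (sq : IsPullback a d c p) {f₁ f₂ : K ⟶ T} (hK : IsPullback f₁ f₂ c c) {g₁ g₂ : L ⟶ P}
    (hL : IsPullback g₁ g₂ d d) (l : L ⟶ K) (h1 : l ≫ f₁ = g₁ ≫ a) (h2 : l ≫ f₂ = g₂ ≫ a) :
    IsPullback l (g₁ ≫ d) (f₁ ≫ c) p := by
  have h3 : IsPullback (g₂ ≫ a) g₁ c (d ≫ p) := hL.flip.paste_horiz sq
  rw [← sq.w, ← h2] at h3
  exact (IsPullback.of_right h3 h1 hK.flip).paste_vert sq

theorem isClosedImmersion_desc {X Y Z W P Q : Scheme.{u}} {f : X ⟶ Z} {g : Y ⟶ Z} (i : Z ⟶ W) [IsSeparated i]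
    {a : P ⟶ X} {b : P ⟶ Y} (sq : IsPullback a b f g) {a' : Q ⟶ X} {b' : Q ⟶ Y}
    (sq' : IsPullback a' b' (f ≫ i) (g ≫ i)) (p : P ⟶ Q) (h1 : p ≫ a' = a) (h2 : p ≫ b' = b) :
    IsClosedImmersion p := by
  have e : p = sq.isoPullback.hom ≫ pullback.mapDesc f g i ≫ sq'.isoPullback.inv := by
    rw [← Category.assoc, Iso.eq_comp_inv]
    apply pullback.hom_ext
    · have e1 : pullback.mapDesc f g i ≫ pullback.fst _ _ = pullback.fst _ _ :=
        (pullback.lift_fst _ _ _).trans (Category.comp_id _)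
      rw [Category.assoc, sq'.isoPullback_hom_fst, h1, Category.assoc, e1, sq.isoPullback_hom_fst]
    · have e1 : pullback.mapDesc f g i ≫ pullback.snd _ _ = pullback.snd _ _ :=
        (pullback.lift_snd _ _ _).trans (Category.comp_id _)
      rw [Category.assoc, sq'.isoPullback_hom_snd, h2, Category.assoc, e1, sq.isoPullback_hom_snd]
  rw [e]
  infer_instance

variable {R : Type u} [CommRing R] {R' : Type u} [CommRing R'] [Algebra R R'] {f : R}

/-- The schemes to be glued. -/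
structure Ctx (R : Type u) [CommRing R] (R' : Type u) [CommRing R'] [Algebra R R'] (f : R) where
  /-- `U'` -/
  XU' : Over (Spec (CommRingCat.of R))
  /-- the scheme over `U` -/
  V : Over (Spec (CommRingCat.of R))
  /-- the scheme over `U'` -/
  V' : Over (Spec (CommRingCat.of R))
  /-- the scheme over `X'` -/
  Y' : Over (Spec (CommRingCat.of R))
  /-- `U ⟶ X` -/
  tU : sp R (Localization.Away f) ⟶ pt R
  /-- `X' ⟶ X` -/
  tX : sp R R' ⟶ pt R
  /-- `U' ⟶ U` -/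
  iU : XU' ⟶ sp R (Localization.Away f)
  /-- `U' ⟶ X'` -/
  iX : XU' ⟶ sp R R'
  hU' : IsPullback iU iX tU tX
  /-- `V ⟶ U` -/
  v : V ⟶ sp R (Localization.Away f)
  /-- `Y' ⟶ X'` -/
  y' : Y' ⟶ sp R R'
  /-- `V' ⟶ U'` -/
  q : V' ⟶ XU'
  /-- `V' ⟶ V` -/
  pV : V' ⟶ V
  /-- `V' ⟶ Y'` -/
  pY : V' ⟶ Y'
  hV : IsPullback pV q v iU
  hY : IsPullback pY q y' iX

/-- A triple over the schemes to be glued. -/
structure Tri (C : Ctx R R' f) where
  /-- the scheme over `V` -/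
  T : Over (Spec (CommRingCat.of R))
  /-- the scheme over `Y'` -/
  T' : Over (Spec (CommRingCat.of R))
  /-- the scheme over `V'` -/
  P : Over (Spec (CommRingCat.of R))
  /-- `T ⟶ V` -/
  c : T ⟶ C.V
  /-- `T' ⟶ Y'` -/
  c' : T' ⟶ C.Y'
  /-- `P ⟶ V'` -/
  d : P ⟶ C.V'
  /-- `P ⟶ T` -/
  a : P ⟶ T
  /-- `P ⟶ T'` -/
  b : P ⟶ T'
  ha : IsPullback a d c C.pV
  hb : IsPullback b d c' C.pY

/-- A glueing of a triple. -/
structure Gl {C : Ctx R R' f} (t : Tri C) where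
  /-- the glued ring -/
  D : Type u
  [ring : CommRing D]
  [alg : Algebra R D]
  hD : EtGlue.IsGlueable R R' f D
  /-- `T ⟶ Spec D` -/
  j : t.T ⟶ sp R D
  /-- `T' ⟶ Spec D` -/
  k : t.T' ⟶ sp R D
  /-- `Spec D ⟶ X` -/
  z : sp R D ⟶ pt R
  sqU : IsPullback j (t.c ≫ C.v) z C.tU
  sqX : IsPullback k (t.c' ≫ C.y') z C.tX
  w : t.a ≫ j = t.b ≫ k

attribute [instance] Gl.ring Gl.alg

namespace Tri

variable {C : Ctx R R' f} (t : Tri C)

theorem sq₁ (x : t.T ⟶ pt R) : IsPullback t.a (t.b ≫ t.c' ≫ C.y') x C.tX := by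
  have h1 := t.ha.paste_vert (C.hV.paste_vert C.hU')
  have e : t.d ≫ C.q ≫ C.iX = t.b ≫ t.c' ≫ C.y' := by
    rw [← C.hY.w, ← Category.assoc, ← t.hb.w, Category.assoc]
  rw [e, hom_pt_ext (t.c ≫ C.v ≫ C.tU) x] at h1
  exact h1

theorem sq₂ (x : t.T' ⟶ pt R) : IsPullback t.b (t.a ≫ t.c ≫ C.v) x C.tU := by
  have h1 := t.hb.paste_vert (C.hY.paste_vert C.hU'.flip)
  have e : t.d ≫ C.q ≫ C.iU = t.a ≫ t.c ≫ C.v := by
    rw [← C.hV.w, ← Category.assoc, ← t.ha.w, Category.assoc]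
  rw [e, hom_pt_ext (t.c' ≫ C.y' ≫ C.tX) x] at h1
  exact h1

theorem exists_gl (h : EtGlue.IsGlueingPair R R' f) (h1 : IsAffine t.T.left) (h2 : IsAffine t.T'.left) :
    Nonempty (Gl t) := by
  obtain ⟨D, _, _, hD, j, k, z, sqU, sqX, w⟩ := exists_glue h (t.sq₁ (Over.mkIdTerminal.from _))
    (t.sq₂ (Over.mkIdTerminal.from _))
  exact ⟨⟨D, hD, j, k, z, sqU, sqX, w⟩⟩

end Tri

/-- The triple of kernel pairs. -/
structure KP {C : Ctx R R' f} (t K : Tri C) where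
  /-- first projection -/
  f₁ : K.T ⟶ t.T
  /-- second projection -/
  f₂ : K.T ⟶ t.T
  /-- first projection -/
  f₁' : K.T' ⟶ t.T'
  /-- second projection -/
  f₂' : K.T' ⟶ t.T'
  /-- first projection -/
  g₁ : K.P ⟶ t.P
  /-- second projection -/
  g₂ : K.P ⟶ t.P
  sq : IsPullback f₁ f₂ t.c t.c
  sq' : IsPullback f₁' f₂' t.c' t.c'
  c_eq : K.c = f₁ ≫ t.c
  c_eq' : K.c' = f₁' ≫ t.c'
  a₁ : K.a ≫ f₁ = g₁ ≫ t.a
  a₂ : K.a ≫ f₂ = g₂ ≫ t.a
  b₁ : K.b ≫ f₁' = g₁ ≫ t.b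
  b₂ : K.b ≫ f₂' = g₂ ≫ t.b

/-- The triple of kernel pairs. -/
noncomputable def pair {C : Ctx R R' f} (t : Tri C) : Tri C where
  T := pullback t.c t.c
  T' := pullback t.c' t.c'
  P := pullback t.d t.d
  c := pullback.fst _ _ ≫ t.c
  c' := pullback.fst _ _ ≫ t.c'
  d := pullback.fst _ _ ≫ t.d
  a := pullback.lift (pullback.fst _ _ ≫ t.a) (pullback.snd _ _ ≫ t.a) (by
    rw [Category.assoc, Category.assoc, t.ha.w, pullback.condition_assoc])
  b := pullback.lift (pullback.fst _ _ ≫ t.b) (pullback.snd _ _ ≫ t.b) (by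
    rw [Category.assoc, Category.assoc, t.hb.w, pullback.condition_assoc])
  ha := isPullback_kernelPair t.ha (.of_hasPullback _ _) (.of_hasPullback _ _) _ (pullback.lift_fst _ _ _)
    (pullback.lift_snd _ _ _)
  hb := isPullback_kernelPair t.hb (.of_hasPullback _ _) (.of_hasPullback _ _) _ (pullback.lift_fst _ _ _)
    (pullback.lift_snd _ _ _)

theorem exists_kp {C : Ctx R R' f} (t : Tri C) : ∃ K : Tri C, Nonempty (KP t K) :=
  ⟨pair t, ⟨{
    f₁ := pullback.fst _ _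
    f₂ := pullback.snd _ _
    f₁' := pullback.fst _ _
    f₂' := pullback.snd _ _
    g₁ := pullback.fst _ _
    g₂ := pullback.snd _ _
    sq := .of_hasPullback _ _
    sq' := .of_hasPullback _ _
    c_eq := rfl
    c_eq' := rfl
    a₁ := pullback.lift_fst _ _ _
    a₂ := pullback.lift_snd _ _ _
    b₁ := pullback.lift_fst _ _ _
    b₂ := pullback.lift_snd _ _ _ }⟩⟩

theorem isAffine_sp (A : Type u) [CommRing A] [Algebra R A] : IsAffine (sp R A).left := inferInstanceAs (IsAffine (Spec _))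

theorem Gl.sqQ {C : Ctx R R' f} {t : Tri C} (G : Gl t) : IsPullback t.a t.b G.j G.k :=
  isPullback_of_glue (t.sq₁ (G.j ≫ G.z)) G.sqX G.w

/-- The two projections of the glued relation. -/
structure Rel {C : Ctx R R' f} {t K : Tri C} (κ : KP t K) (G : Gl t) (H : Gl K) (s r : sp R H.D ⟶ sp R G.D) : Prop where
  jr : H.j ≫ r = κ.f₁ ≫ G.j
  js : H.j ≫ s = κ.f₂ ≫ G.j
  kr : H.k ≫ r = κ.f₁' ≫ G.k
  ks : H.k ≫ s = κ.f₂' ≫ G.k

variable {C : Ctx R R' f} {t K : Tri C} (κ : KP t K) (G : Gl t) (H : Gl K)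

theorem exists_rel (h : EtGlue.IsGlueingPair R R' f) : ∃ s r, Rel κ G H s r := by
  have := isAffine_sp (R := R) G.D
  obtain ⟨r, hr1, hr2⟩ := exists_hom h H.hD H.sqQ H.sqU H.sqX (κ.f₁ ≫ G.j) (κ.f₁' ≫ G.k) (by
      rw [← Category.assoc, ← Category.assoc, κ.a₁, κ.b₁, Category.assoc, Category.assoc, G.w])
  obtain ⟨s, hs1, hs2⟩ := exists_hom h H.hD H.sqQ H.sqU H.sqX (κ.f₂ ≫ G.j) (κ.f₂' ≫ G.k) (by
      rw [← Category.assoc, ← Category.assoc, κ.a₂, κ.b₂, Category.assoc, Category.assoc, G.w])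
  exact ⟨s, r, hr1, hs1, hr2, hs2⟩

namespace Rel

variable {κ G H} {s r : sp R H.D ⟶ sp R G.D} (ρ : Rel κ G H s r)

include ρ

theorem flat_left (h : EtGlue.IsGlueingPair R R' f) (h1 : Fps t.c.left) (h2 : Fps t.c'.left) :
    Flat s.left ∧ LocallyOfFinitePresentation s.left := by
  have e1 := κ.sq.map (Over.forget _)
  have e2 := κ.sq'.map (Over.forget _)
  refine flat_lfp_of_glue h G.hD H.hD H.sqU H.sqX G.sqU G.sqX s _ _ ρ.js ρ.ks ?_
    (MorphismProperty.of_isPullback (P := @Flat) e1 h1.1)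
    (MorphismProperty.of_isPullback (P := @LocallyOfFinitePresentation) e1 h1.2.1)
    (MorphismProperty.of_isPullback (P := @Flat) e2 h2.1)
    (MorphismProperty.of_isPullback (P := @LocallyOfFinitePresentation) e2 h2.2.1)
  rw [κ.c_eq', κ.sq'.w, Category.assoc]

theorem flat_right (h : EtGlue.IsGlueingPair R R' f) (h1 : Fps t.c.left) (h2 : Fps t.c'.left) :
    Flat r.left ∧ LocallyOfFinitePresentation r.left := by
  have e1 := κ.sq.flip.map (Over.forget _)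
  have e2 := κ.sq'.flip.map (Over.forget _)
  refine flat_lfp_of_glue h G.hD H.hD H.sqU H.sqX G.sqU G.sqX r _ _ ρ.jr ρ.kr ?_
    (MorphismProperty.of_isPullback (P := @Flat) e1 h1.1)
    (MorphismProperty.of_isPullback (P := @LocallyOfFinitePresentation) e1 h1.2.1)
    (MorphismProperty.of_isPullback (P := @Flat) e2 h2.1)
    (MorphismProperty.of_isPullback (P := @LocallyOfFinitePresentation) e2 h2.2.1)
  rw [κ.c_eq', Category.assoc]

theorem isClosedImmersion (h : EtGlue.IsGlueingPair R R' f) (h1 : IsSeparated C.v.left) (h2 : IsSeparated C.y'.left) :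
    IsClosedImmersion (prod.lift r s).left := by
  have := isAffine_sp (R := R) G.D
  have sq₀ : IsPullback (prod.fst : sp R G.D ⨯ sp R G.D ⟶ _) prod.snd G.z G.z := by
    have h3 : IsPullback (prod.fst : sp R G.D ⨯ sp R G.D ⟶ _) prod.snd
        (Over.mkIdTerminal.from (sp R G.D)) (Over.mkIdTerminal.from (sp R G.D)) :=
      IsPullback.of_is_product (limit.isLimit (Limits.pair (sp R G.D) (sp R G.D))) Over.mkIdTerminal
    rw [hom_pt_ext (Over.mkIdTerminal.from _) G.z] at h3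
    exact h3
  have haff : IsAffine (sp R G.D ⨯ sp R G.D).left := by
    have h3 := sq₀.map (Over.forget _)
    have h4 : IsAffine (pt R).left := inferInstanceAs (IsAffine (Spec _))
    have h5 : IsAffineHom (prod.fst : sp R G.D ⨯ sp R G.D ⟶ _).left :=
      MorphismProperty.of_isPullback (P := @IsAffineHom) h3.flip
        (K597.Affine.isAffineHom_of_isAffine _ this h4)
    exact isAffine_of_isAffineHom (prod.fst : sp R G.D ⨯ sp R G.D ⟶ _).left
  obtain ⟨A, _, _, ⟨e⟩⟩ := exists_algebra (sp R G.D ⨯ sp R G.D)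
  have sqL := IsPullback.of_hasPullback (t.c ≫ C.v) (t.c ≫ C.v)
  have sqL' := IsPullback.of_hasPullback (t.c' ≫ C.y') (t.c' ≫ C.y')
  let l : pullback (t.c ≫ C.v) (t.c ≫ C.v) ⟶ sp R G.D ⨯ sp R G.D :=
    prod.lift (pullback.fst _ _ ≫ G.j) (pullback.snd _ _ ≫ G.j)
  let l' : pullback (t.c' ≫ C.y') (t.c' ≫ C.y') ⟶ sp R G.D ⨯ sp R G.D :=
    prod.lift (pullback.fst _ _ ≫ G.k) (pullback.snd _ _ ≫ G.k)
  have sqK := isPullback_kernelPair G.sqU sq₀ sqL l (prod.lift_fst _ _) (prod.lift_snd _ _)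
  have sqK' := isPullback_kernelPair G.sqX sq₀ sqL' l' (prod.lift_fst _ _) (prod.lift_snd _ _)
  have sqA : IsPullback (l ≫ e.inv) (pullback.fst _ _ ≫ t.c ≫ C.v) (e.hom ≫ prod.fst ≫ G.z) C.tU :=
    IsPullback.of_iso sqK (Iso.refl _) e.symm (Iso.refl _) (Iso.refl _) (by simp) (by simp) (by simp) (by simp)
  have sqA' : IsPullback (l' ≫ e.inv) (pullback.fst _ _ ≫ t.c' ≫ C.y') (e.hom ≫ prod.fst ≫ G.z) C.tX :=
    IsPullback.of_iso sqK' (Iso.refl _) e.symm (Iso.refl _) (Iso.refl _) (by simp) (by simp) (by simp) (by simp)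
  let p : K.T ⟶ pullback (t.c ≫ C.v) (t.c ≫ C.v) :=
    pullback.lift κ.f₁ κ.f₂ (by rw [← Category.assoc, κ.sq.w, Category.assoc])
  let p' : K.T' ⟶ pullback (t.c' ≫ C.y') (t.c' ≫ C.y') :=
    pullback.lift κ.f₁' κ.f₂' (by rw [← Category.assoc, κ.sq'.w, Category.assoc])
  have hp1 : p ≫ pullback.fst _ _ = κ.f₁ := pullback.lift_fst _ _ _
  have hp2 : p ≫ pullback.snd _ _ = κ.f₂ := pullback.lift_snd _ _ _
  have hp1' : p' ≫ pullback.fst _ _ = κ.f₁' := pullback.lift_fst _ _ _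
  have hp2' : p' ≫ pullback.snd _ _ = κ.f₂' := pullback.lift_snd _ _ _
  have hpl : p ≫ l = H.j ≫ prod.lift r s := by
    apply prod.hom_ext
    · rw [Category.assoc, prod.lift_fst, Category.assoc, prod.lift_fst, ρ.jr, ← Category.assoc, hp1]
    · rw [Category.assoc, prod.lift_snd, Category.assoc, prod.lift_snd, ρ.js, ← Category.assoc, hp2]
  have hpl' : p' ≫ l' = H.k ≫ prod.lift r s := by
    apply prod.hom_ext
    · rw [Category.assoc, prod.lift_fst, Category.assoc, prod.lift_fst, ρ.kr, ← Category.assoc, hp1']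
    · rw [Category.assoc, prod.lift_snd, Category.assoc, prod.lift_snd, ρ.ks, ← Category.assoc, hp2']
  have key := isClosedImmersion_of_glue h H.sqU H.sqX sqA sqA' (prod.lift r s ≫ e.inv) p p'
    (by rw [← Category.assoc, ← Category.assoc, hpl]) (by rw [← Category.assoc, ← Category.assoc, hpl'])
    (by rw [← Category.assoc, hp1', κ.c_eq', Category.assoc])
    (isClosedImmersion_desc C.v.left (κ.sq.map (Over.forget _))
      (sqL.map (Over.forget _)) p.left (congrArg (fun q => q.left) hp1) (congrArg (fun q => q.left) hp2))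
    (isClosedImmersion_desc C.y'.left (κ.sq'.map (Over.forget _))
      (sqL'.map (Over.forget _)) p'.left (congrArg (fun q => q.left) hp1') (congrArg (fun q => q.left) hp2'))
  have hi : IsIso e.inv.left := isIso_left e.symm
  exact (MorphismProperty.cancel_right_of_respectsIso @IsClosedImmersion (prod.lift r s).left e.inv.left).1 key

theorem jointly_mono (h : EtGlue.IsGlueingPair R R' f) (h1 : IsSeparated C.v.left) (h2 : IsSeparated C.y'.left)
    {W : Over (Spec (CommRingCat.of R))} (m m' : W ⟶ sp R H.D) (e1 : m ≫ r = m' ≫ r) (e2 : m ≫ s = m' ≫ s) :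
    m = m' := by
  have h3 := ρ.isClosedImmersion h h1 h2
  have h4 : Mono (prod.lift r s).left := inferInstance
  have h5 : Mono (prod.lift r s) := (Over.forget _).mono_of_mono_map h4
  rw [← cancel_mono (prod.lift r s)]
  apply prod.hom_ext
  · rw [Category.assoc, prod.lift_fst, Category.assoc, prod.lift_fst, e1]
  · rw [Category.assoc, prod.lift_snd, Category.assoc, prod.lift_snd, e2]

end Rel

/-- Two points of the glued scheme are equivalent. -/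
def Sim {W : Over (Spec (CommRingCat.of R))} (x y : W ⟶ sp R G.D) : Prop :=
  (∀ (W' : Over (Spec (CommRingCat.of R))) (g : W' ⟶ W) (x₁ y₁ : W' ⟶ t.T), x₁ ≫ G.j = g ≫ x → y₁ ≫ G.j = g ≫ y →
    x₁ ≫ t.c = y₁ ≫ t.c) ∧
  ∀ (W' : Over (Spec (CommRingCat.of R))) (g : W' ⟶ W) (x₁ y₁ : W' ⟶ t.T'), x₁ ≫ G.k = g ≫ x → y₁ ≫ G.k = g ≫ y →
    x₁ ≫ t.c' ≫ C.y' = y₁ ≫ t.c' ≫ C.y' → x₁ ≫ t.c' = y₁ ≫ t.c'

namespace Sim

variable {G} {W : Over (Spec (CommRingCat.of R))} {x y w : W ⟶ sp R G.D}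

theorem refl (x : W ⟶ sp R G.D) : Sim G x x := by
  refine ⟨fun W' g x₁ y₁ h1 h2 => ?_, fun W' g x₁ y₁ h1 h2 h3 => ?_⟩
  · rw [G.sqU.hom_ext (h1.trans h2.symm) (hom_U_ext _ _)]
  · rw [G.sqX.hom_ext (h1.trans h2.symm) h3]

theorem symm (h : Sim G x y) : Sim G y x :=
  ⟨fun W' g x₁ y₁ h1 h2 => (h.1 W' g y₁ x₁ h2 h1).symm,
    fun W' g x₁ y₁ h1 h2 h3 => (h.2 W' g y₁ x₁ h2 h1 h3.symm).symm⟩

theorem trans (h : Sim G x y) (h' : Sim G y w) : Sim G x w := by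
  refine ⟨fun W' g x₁ w₁ h1 h2 => ?_, fun W' g x₁ w₁ h1 h2 h3 => ?_⟩
  · have e := G.sqU.lift_fst (g ≫ y) (x₁ ≫ t.c ≫ C.v) (hom_pt_ext _ _)
    exact (h.1 W' g _ _ h1 e).trans (h'.1 W' g _ _ e h2)
  · have e := G.sqX.lift_fst (g ≫ y) (x₁ ≫ t.c' ≫ C.y') (hom_pt_ext _ _)
    have e' := G.sqX.lift_snd (g ≫ y) (x₁ ≫ t.c' ≫ C.y') (hom_pt_ext _ _)
    exact (h.2 W' g _ _ h1 e e'.symm).trans (h'.2 W' g _ _ e h2 (e'.trans h3))

theorem precomp (h : Sim G x y) {W' : Over (Spec (CommRingCat.of R))} (g : W' ⟶ W) : Sim G (g ≫ x) (g ≫ y) :=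
  ⟨fun W'' g' x₁ y₁ h1 h2 => h.1 W'' (g' ≫ g) x₁ y₁ (by rw [h1, Category.assoc]) (by rw [h2, Category.assoc]),
    fun W'' g' x₁ y₁ h1 h2 h3 => h.2 W'' (g' ≫ g) x₁ y₁ (by rw [h1, Category.assoc]) (by rw [h2, Category.assoc]) h3⟩

end Sim

theorem exists_glueable_of_flat (h : EtGlue.IsGlueingPair R R' f) {A : Type u} [CommRing A] [Algebra R A]
    (hA : EtGlue.IsGlueable R R' f A) {W : Over (Spec (CommRingCat.of R))} [IsAffine W.left] (t : W ⟶ sp R A)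
    (ht : Flat t.left) : ∃ (B : Type u) (_ : CommRing B) (_ : Algebra R B), EtGlue.IsGlueable R R' f B ∧
      Nonempty (sp R B ≅ W) := by
  obtain ⟨B, _, _, ⟨e⟩⟩ := exists_algebra W
  obtain ⟨ψ, hψ⟩ := exists_spMap (e.hom ≫ t)
  let _ : Algebra A B := ψ.toRingHom.toAlgebra
  have : IsScalarTower R A B := IsScalarTower.of_algebraMap_eq fun r => (ψ.commutes r).symm
  have h1 : Flat (e.hom.left ≫ t.left) := by
    have := isIso_left e
    infer_instance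
  have hfl : Flat (Spec.map (CommRingCat.ofHom ψ.toRingHom)) := by
    have h2 : e.hom.left ≫ t.left = Spec.map (CommRingCat.ofHom ψ.toRingHom) := congrArg (fun q => q.left) hψ
    rw [← h2]
    infer_instance
  have : Module.Flat A B := Flat.SpecMap_iff.1 hfl
  exact ⟨B, inferInstance, inferInstance, K641.Glueable.of_flat h hA, ⟨e⟩⟩

namespace Rel

variable {κ G H} {s r : sp R H.D ⟶ sp R G.D} (ρ : Rel κ G H s r)

include ρ

theorem sim : Sim G r s := by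
  refine ⟨fun W' g x₁ y₁ h1 h2 => ?_, fun W' g x₁ y₁ h1 h2 h3 => ?_⟩
  · obtain ⟨m, hm⟩ : ∃ m : W' ⟶ K.T, m ≫ H.j = g := ⟨_, H.sqU.lift_fst g (x₁ ≫ t.c ≫ C.v) (hom_pt_ext _ _)⟩
    have e1 : m ≫ κ.f₁ = x₁ := G.sqU.hom_ext (by rw [Category.assoc, ← ρ.jr, ← Category.assoc, hm, h1]) (hom_U_ext _ _)
    have e2 : m ≫ κ.f₂ = y₁ := G.sqU.hom_ext (by rw [Category.assoc, ← ρ.js, ← Category.assoc, hm, h2]) (hom_U_ext _ _)
    rw [← e1, ← e2, Category.assoc, Category.assoc, κ.sq.w]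
  · obtain ⟨m, hm, hm'⟩ : ∃ m : W' ⟶ K.T', m ≫ H.k = g ∧ m ≫ K.c' ≫ C.y' = x₁ ≫ t.c' ≫ C.y' :=
      ⟨_, H.sqX.lift_fst g (x₁ ≫ t.c' ≫ C.y') (hom_pt_ext _ _), H.sqX.lift_snd g (x₁ ≫ t.c' ≫ C.y') (hom_pt_ext _ _)⟩
    have e1 : m ≫ κ.f₁' = x₁ := by
      refine G.sqX.hom_ext (by rw [Category.assoc, ← ρ.kr, ← Category.assoc, hm, h1]) ?_
      rw [← hm', κ.c_eq']
      simp only [Category.assoc]
    have e2 : m ≫ κ.f₂' = y₁ := by
      refine G.sqX.hom_ext (by rw [Category.assoc, ← ρ.ks, ← Category.assoc, hm, h2]) ?_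
      rw [← h3, ← hm', κ.c_eq', κ.sq'.w]
      simp only [Category.assoc]
    rw [← e1, ← e2, Category.assoc, Category.assoc, κ.sq'.w]

theorem exists_of_sim (h : EtGlue.IsGlueingPair R R' f) (h1 : IsSeparated C.v.left) (h2 : IsSeparated C.y'.left)
    {A : Type u} [CommRing A] [Algebra R A] (hA : EtGlue.IsGlueable R R' f A) (x y : sp R A ⟶ sp R G.D)
    (hxy : Sim G x y) : ∃ γ : sp R A ⟶ sp R H.D, γ ≫ r = x ∧ γ ≫ s = y := by
  let zO : sp R A ⟶ pt R := Over.mkIdTerminal.from _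
  have sqU := IsPullback.of_hasPullback zO C.tU
  have sqX := IsPullback.of_hasPullback zO C.tX
  have sqQ := IsPullback.of_hasPullback (pullback.fst zO C.tU) (pullback.fst zO C.tX)
  obtain ⟨xU, hxU⟩ : ∃ m : pullback zO C.tU ⟶ t.T, m ≫ G.j = pullback.fst _ _ ≫ x :=
    ⟨_, G.sqU.lift_fst _ (pullback.snd _ _) (hom_pt_ext _ _)⟩
  obtain ⟨yU, hyU⟩ : ∃ m : pullback zO C.tU ⟶ t.T, m ≫ G.j = pullback.fst _ _ ≫ y :=
    ⟨_, G.sqU.lift_fst _ (pullback.snd _ _) (hom_pt_ext _ _)⟩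
  obtain ⟨xX, hxX, hxX'⟩ : ∃ m : pullback zO C.tX ⟶ t.T', m ≫ G.k = pullback.fst _ _ ≫ x ∧
      m ≫ t.c' ≫ C.y' = pullback.snd _ _ :=
    ⟨_, G.sqX.lift_fst _ (pullback.snd _ _) (hom_pt_ext _ _), G.sqX.lift_snd _ (pullback.snd _ _) (hom_pt_ext _ _)⟩
  obtain ⟨yX, hyX, hyX'⟩ : ∃ m : pullback zO C.tX ⟶ t.T', m ≫ G.k = pullback.fst _ _ ≫ y ∧
      m ≫ t.c' ≫ C.y' = pullback.snd _ _ :=
    ⟨_, G.sqX.lift_fst _ (pullback.snd _ _) (hom_pt_ext _ _), G.sqX.lift_snd _ (pullback.snd _ _) (hom_pt_ext _ _)⟩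
  obtain ⟨mU, hmU, hmU'⟩ : ∃ m : pullback zO C.tU ⟶ K.T, m ≫ κ.f₁ = xU ∧ m ≫ κ.f₂ = yU :=
    ⟨_, κ.sq.lift_fst xU yU (hxy.1 _ _ _ _ hxU hyU), κ.sq.lift_snd xU yU (hxy.1 _ _ _ _ hxU hyU)⟩
  obtain ⟨mX, hmX, hmX'⟩ : ∃ m : pullback zO C.tX ⟶ K.T', m ≫ κ.f₁' = xX ∧ m ≫ κ.f₂' = yX :=
    ⟨_, κ.sq'.lift_fst xX yX (hxy.2 _ _ _ _ hxX hyX (hxX'.trans hyX'.symm)),
      κ.sq'.lift_snd xX yX (hxy.2 _ _ _ _ hxX hyX (hxX'.trans hyX'.symm))⟩
  have eU1 : (mU ≫ H.j) ≫ r = pullback.fst _ _ ≫ x := by rw [Category.assoc, ρ.jr, ← Category.assoc, hmU, hxU]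
  have eU2 : (mU ≫ H.j) ≫ s = pullback.fst _ _ ≫ y := by rw [Category.assoc, ρ.js, ← Category.assoc, hmU', hyU]
  have eX1 : (mX ≫ H.k) ≫ r = pullback.fst _ _ ≫ x := by rw [Category.assoc, ρ.kr, ← Category.assoc, hmX, hxX]
  have eX2 : (mX ≫ H.k) ≫ s = pullback.fst _ _ ≫ y := by rw [Category.assoc, ρ.ks, ← Category.assoc, hmX', hyX]
  have := isAffine_sp (R := R) H.D
  have := isAffine_sp (R := R) G.D
  obtain ⟨γ, hγ1, hγ2⟩ := exists_hom h hA sqQ sqU sqX (mU ≫ H.j) (mX ≫ H.k) (by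
    refine ρ.jointly_mono h h1 h2 _ _ ?_ ?_
    · rw [Category.assoc, eU1, Category.assoc, eX1, ← Category.assoc, sqQ.w, Category.assoc]
    · rw [Category.assoc, eU2, Category.assoc, eX2, ← Category.assoc, sqQ.w, Category.assoc])
  refine ⟨γ, ?_, ?_⟩
  · refine GlueSq.hom_ext h hA sqU sqX ?_ ?_
    · rw [← Category.assoc, hγ1, eU1]
    · rw [← Category.assoc, hγ2, eX1]
  · refine GlueSq.hom_ext h hA sqU sqX ?_ ?_
    · rw [← Category.assoc, hγ1, eU2]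
    · rw [← Category.assoc, hγ2, eX2]

theorem isEqvRel (h : EtGlue.IsGlueingPair R R' f) (h1 : IsSeparated C.v.left) (h2 : IsSeparated C.y'.left)
    (h3 : Fps t.c.left) (h4 : Fps t.c'.left) : IsEqvRel s r := by
  have hs := ρ.flat_left h h3 h4
  refine ⟨fun T m m' e1 e2 => ρ.jointly_mono h h1 h2 m m' e1 e2, fun T => ⟨fun a => ?_, ?_, ?_⟩⟩
  · obtain ⟨e, he1, he2⟩ := ρ.exists_of_sim h h1 h2 G.hD (𝟙 _) (𝟙 _) (Sim.refl _)
    exact ⟨a ≫ e, by rw [Category.assoc, he1, Category.comp_id], by rw [Category.assoc, he2, Category.comp_id]⟩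
  · rintro a b ⟨m, rfl, rfl⟩
    obtain ⟨i, hi1, hi2⟩ := ρ.exists_of_sim h h1 h2 H.hD s r ρ.sim.symm
    exact ⟨m ≫ i, by rw [Category.assoc, hi1], by rw [Category.assoc, hi2]⟩
  · rintro a b c ⟨m, rfl, hm⟩ ⟨m', hm', rfl⟩
    have sq := IsPullback.of_hasPullback s r
    have sq' := sq.map (Over.forget _)
    have haff : IsAffine (pullback s r).left := by
      have h5 := isAffine_sp (R := R) H.D
      have h6 := isAffine_sp (R := R) G.D
      have h7 : IsAffineHom (pullback.snd s r).left :=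
        MorphismProperty.of_isPullback (P := @IsAffineHom) sq' (K597.Affine.isAffineHom_of_isAffine _ h5 h6)
      exact isAffine_of_isAffineHom (pullback.snd s r).left
    obtain ⟨B, _, _, hB, ⟨e⟩⟩ := exists_glueable_of_flat h H.hD (pullback.snd s r)
      (MorphismProperty.of_isPullback (P := @Flat) sq' hs.1)
    have hsim : Sim G (e.hom ≫ pullback.fst s r ≫ r) (e.hom ≫ pullback.snd s r ≫ s) := by
      have e1 : Sim G (e.hom ≫ pullback.fst s r ≫ r) (e.hom ≫ pullback.fst s r ≫ s) := by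
        rw [← Category.assoc, ← Category.assoc]
        exact ρ.sim.precomp _
      have e2 : Sim G (e.hom ≫ pullback.snd s r ≫ r) (e.hom ≫ pullback.snd s r ≫ s) := by
        rw [← Category.assoc, ← Category.assoc]
        exact ρ.sim.precomp _
      rw [← pullback.condition] at e2
      exact e1.trans e2
    obtain ⟨μ, hμ1, hμ2⟩ := ρ.exists_of_sim h h1 h2 hB _ _ hsim
    refine ⟨pullback.lift m m' (hm.trans hm'.symm) ≫ e.inv ≫ μ, ?_, ?_⟩
    · rw [Category.assoc, Category.assoc, hμ1, Iso.inv_hom_id_assoc, pullback.lift_fst_assoc]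
    · rw [Category.assoc, Category.assoc, hμ2, Iso.inv_hom_id_assoc, pullback.lift_snd_assoc]

end Rel

end K627.GlueGpd
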