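import Groth.Agent.AlgSp.K627.GlueSq
import Groth.Agent.S10723

/-!
# Properties of morphisms of affine schemes detected by glueing
-/

set_option autoImplicit false
universe u

open CategoryTheory CategoryTheory.Limits AlgebraicGeometry TensorProduct

namespace K627.GlueProp

open K641.SpecAlg K627.GlueSq

variable {R : Type u} [CommRing R] {R' : Type u} [CommRing R'] [Algebra R R'] {f : R}

attribute [local instance] Algebra.TensorProduct.rightAlgebra

theorem surjective_of_isClosedImmersion {A B : CommRingCat.{u}} (φ : A ⟶ B) [IsClosedImmersion (Spec.map φ)] :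
    Function.Surjective φ.hom := by
  have h1 := (IsClosedImmersion.isAffine_surjective_of_isAffine (Spec.map φ)).2
  have h2 : φ = (Scheme.ΓSpecIso A).inv ≫ (Spec.map φ).appTop ≫ (Scheme.ΓSpecIso B).hom := by
    rw [Scheme.ΓSpecIso_naturality, Iso.inv_hom_id_assoc]
  rw [h2]
  exact ((Scheme.ΓSpecIso B).commRingCatIsoToRingEquiv.surjective.comp h1).comp
    (Scheme.ΓSpecIso A).symm.commRingCatIsoToRingEquiv.surjective

/-- The base changes of a morphism of affine schemes. -/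
theorem exists_rings {A D : Type u} [CommRing A] [Algebra R A]
    [CommRing D] [Algebra R D]
    {P P' TU TX : Over (Spec (CommRingCat.of R))} {j : P ⟶ sp R D} {k : P' ⟶ sp R D}
    {pU : P ⟶ sp R (Localization.Away f)} {pX : P' ⟶ sp R R'} {x x' : sp R D ⟶ pt R}
    {y : sp R (Localization.Away f) ⟶ pt R} {y' : sp R R' ⟶ pt R} (sqU : IsPullback j pU x y)
    (sqX : IsPullback k pX x' y') {jA : TU ⟶ sp R A} {kA : TX ⟶ sp R A}
    {pUA : TU ⟶ sp R (Localization.Away f)} {pXA : TX ⟶ sp R R'} {xA xA' : sp R A ⟶ pt R}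
    {yA : sp R (Localization.Away f) ⟶ pt R} {yA' : sp R R' ⟶ pt R} (sqUA : IsPullback jA pUA xA yA)
    (sqXA : IsPullback kA pXA xA' yA') (δ : sp R D ⟶ sp R A) (p : P ⟶ TU) (p' : P' ⟶ TX)
    (hp : j ≫ δ = p ≫ jA) (hp' : k ≫ δ = p' ≫ kA) (hpX : pX = p' ≫ pXA) :
    ∃ ψ : A →ₐ[R] D, δ = spMap ψ ∧
      (∀ (Pr : MorphismProperty Scheme.{u}) [Pr.RespectsIso], Pr p.left →
        Pr (Spec.map (CommRingCat.ofHom (Localization.awayMap ψ.toRingHom (algebraMap R A f))))) ∧
      ∀ (Pr : MorphismProperty Scheme.{u}) [Pr.RespectsIso], Pr p'.left →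
        Pr (Spec.map (CommRingCat.ofHom (Algebra.TensorProduct.map (AlgHom.id R R') ψ).toRingHom)) := by
  obtain ⟨ψ, rfl⟩ := exists_spMap δ
  let L := Localization.Away (ψ.toRingHom (algebraMap R A f))
  have hL : IsLocalization.Away (algebraMap R D f) L := by
    have : ψ.toRingHom (algebraMap R A f) = algebraMap R D f := ψ.commutes f
    rw [← this]
    infer_instance
  obtain ⟨e₁, he₁⟩ := exists_iso_away' D L sqU
  obtain ⟨e₂, he₂, he₂'⟩ := exists_iso_tensor D sqX
  obtain ⟨ε₁, hε₁⟩ := exists_iso_away A sqUA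
  obtain ⟨ε₂, hε₂, hε₂'⟩ := exists_iso_tensor A sqXA
  obtain ⟨ρ, hρ⟩ := exists_spMap (e₁.hom ≫ p ≫ ε₁.inv)
  obtain ⟨ρ', hρ'⟩ := exists_spMap (e₂.hom ≫ p' ≫ ε₂.inv)
  have h1 : ρ.toRingHom = Localization.awayMap ψ.toRingHom (algebraMap R A f) := by
    have h3 : ρ.comp (IsScalarTower.toAlgHom R A _) = (IsScalarTower.toAlgHom R D L).comp ψ := by
      apply spMap_injective
      rw [← spMap_comp, ← spMap_comp, ← hρ, ← he₁, ← hε₁]
      simp only [Category.assoc, Iso.inv_hom_id_assoc]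
      rw [hp]
    refine IsLocalization.ringHom_ext (Submonoid.powers (algebraMap R A f)) ?_
    refine RingHom.ext fun r => ?_
    refine (AlgHom.congr_fun h3 r).trans ?_
    change _ = Localization.awayMap ψ.toRingHom (algebraMap R A f) (algebraMap A _ r)
    rw [Localization.awayMap, IsLocalization.Away.map, IsLocalization.map_eq]
    rfl
  have h2 : ρ' = Algebra.TensorProduct.map (AlgHom.id R R') ψ := by
    have h3 : ρ'.comp (IsScalarTower.toAlgHom R A (R' ⊗[R] A)) = (IsScalarTower.toAlgHom R D (R' ⊗[R] D)).comp ψ := by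
      apply spMap_injective
      rw [← spMap_comp, ← spMap_comp, ← hρ', ← he₂, ← hε₂]
      simp only [Category.assoc, Iso.inv_hom_id_assoc]
      rw [hp']
    have h4 : ρ'.comp (IsScalarTower.toAlgHom R R' (R' ⊗[R] A)) = IsScalarTower.toAlgHom R R' (R' ⊗[R] D) := by
      apply spMap_injective
      rw [← spMap_comp, ← hρ', ← he₂', ← hε₂']
      simp only [Category.assoc, Iso.inv_hom_id_assoc]
      rw [hpX]
    refine Algebra.TensorProduct.ext' fun r' a => ?_
    have h5 : r' ⊗ₜ[R] a = (r' ⊗ₜ[R] (1 : A)) * ((1 : R') ⊗ₜ[R] a) := by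
      rw [Algebra.TensorProduct.tmul_mul_tmul, mul_one, one_mul]
    have h6 : ρ' (r' ⊗ₜ[R] (1 : A)) = r' ⊗ₜ[R] (1 : D) := AlgHom.congr_fun h4 r'
    have h7 : ρ' ((1 : R') ⊗ₜ[R] a) = (1 : R') ⊗ₜ[R] ψ a := AlgHom.congr_fun h3 a
    rw [h5, map_mul, h6, h7, Algebra.TensorProduct.tmul_mul_tmul, mul_one, one_mul, map_mul,
      Algebra.TensorProduct.map_tmul, Algebra.TensorProduct.map_tmul, Algebra.TensorProduct.tmul_mul_tmul]
    simp
  have := isIso_left e₁
  have := isIso_left e₂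
  have : IsIso ε₁.inv.left := isIso_left ε₁.symm
  have : IsIso ε₂.inv.left := isIso_left ε₂.symm
  refine ⟨ψ, rfl, fun Pr _ hPr => ?_, fun Pr _ hPr => ?_⟩
  · have h4 : e₁.hom.left ≫ p.left ≫ ε₁.inv.left = Spec.map (CommRingCat.ofHom ρ.toRingHom) :=
      congrArg (fun q => q.left) hρ
    rw [← h1, ← h4]
    exact (Pr.cancel_left_of_respectsIso _ _).2 ((Pr.cancel_right_of_respectsIso _ _).2 hPr)
  · have h4 : e₂.hom.left ≫ p'.left ≫ ε₂.inv.left = Spec.map (CommRingCat.ofHom ρ'.toRingHom) :=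
      congrArg (fun q => q.left) hρ'
    rw [← h2, ← h4]
    exact (Pr.cancel_left_of_respectsIso _ _).2 ((Pr.cancel_right_of_respectsIso _ _).2 hPr)

/-- Glueing detects flat morphisms of finite presentation. -/
theorem flat_lfp_of_glue (h : EtGlue.IsGlueingPair R R' f) {A D : Type u} [CommRing A] [Algebra R A]
    [CommRing D] [Algebra R D] (hA : EtGlue.IsGlueable R R' f A) (hD : EtGlue.IsGlueable R R' f D)
    {P P' TU TX : Over (Spec (CommRingCat.of R))} {j : P ⟶ sp R D} {k : P' ⟶ sp R D}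
    {pU : P ⟶ sp R (Localization.Away f)} {pX : P' ⟶ sp R R'} {x x' : sp R D ⟶ pt R}
    {y : sp R (Localization.Away f) ⟶ pt R} {y' : sp R R' ⟶ pt R} (sqU : IsPullback j pU x y)
    (sqX : IsPullback k pX x' y') {jA : TU ⟶ sp R A} {kA : TX ⟶ sp R A}
    {pUA : TU ⟶ sp R (Localization.Away f)} {pXA : TX ⟶ sp R R'} {xA xA' : sp R A ⟶ pt R}
    {yA : sp R (Localization.Away f) ⟶ pt R} {yA' : sp R R' ⟶ pt R} (sqUA : IsPullback jA pUA xA yA)
    (sqXA : IsPullback kA pXA xA' yA') (δ : sp R D ⟶ sp R A) (p : P ⟶ TU) (p' : P' ⟶ TX)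
    (hp : j ≫ δ = p ≫ jA) (hp' : k ≫ δ = p' ≫ kA) (hpX : pX = p' ≫ pXA)
    (h1 : Flat p.left) (h2 : LocallyOfFinitePresentation p.left)
    (h3 : Flat p'.left) (h4 : LocallyOfFinitePresentation p'.left) :
    Flat δ.left ∧ LocallyOfFinitePresentation δ.left := by
  obtain ⟨ψ, rfl, h5, h6⟩ := exists_rings sqU sqX sqUA sqXA δ p p' hp hp' hpX
  have g1 := h5 @Flat h1
  have g2 := h5 @LocallyOfFinitePresentation h2
  have g3 := h6 @Flat h3
  have g4 := h6 @LocallyOfFinitePresentation h4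
  rw [Flat.SpecMap_iff] at g1 g3
  rw [HasRingHomProperty.Spec_iff (P := @LocallyOfFinitePresentation)] at g2 g4
  obtain ⟨k1, k2⟩ := (Groth.Agent.S10723.result R R' f h A D hA hD ψ).2 ⟨⟨g1, g2⟩, g3, g4⟩
  exact ⟨(Flat.SpecMap_iff).2 k1, (HasRingHomProperty.Spec_iff (P := @LocallyOfFinitePresentation)).2 k2⟩

/-- Glueing detects closed immersions. -/
theorem isClosedImmersion_of_glue (h : EtGlue.IsGlueingPair R R' f) {A D : Type u} [CommRing A] [Algebra R A]
    [CommRing D] [Algebra R D]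
    {P P' TU TX : Over (Spec (CommRingCat.of R))} {j : P ⟶ sp R D} {k : P' ⟶ sp R D}
    {pU : P ⟶ sp R (Localization.Away f)} {pX : P' ⟶ sp R R'} {x x' : sp R D ⟶ pt R}
    {y : sp R (Localization.Away f) ⟶ pt R} {y' : sp R R' ⟶ pt R} (sqU : IsPullback j pU x y)
    (sqX : IsPullback k pX x' y') {jA : TU ⟶ sp R A} {kA : TX ⟶ sp R A}
    {pUA : TU ⟶ sp R (Localization.Away f)} {pXA : TX ⟶ sp R R'} {xA xA' : sp R A ⟶ pt R}
    {yA : sp R (Localization.Away f) ⟶ pt R} {yA' : sp R R' ⟶ pt R} (sqUA : IsPullback jA pUA xA yA)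
    (sqXA : IsPullback kA pXA xA' yA') (δ : sp R D ⟶ sp R A) (p : P ⟶ TU) (p' : P' ⟶ TX)
    (hp : j ≫ δ = p ≫ jA) (hp' : k ≫ δ = p' ≫ kA) (hpX : pX = p' ≫ pXA)
    (h1 : IsClosedImmersion p.left) (h2 : IsClosedImmersion p'.left) :
    IsClosedImmersion δ.left := by
  obtain ⟨ψ, rfl, h5, h6⟩ := exists_rings sqU sqX sqUA sqXA δ p p' hp hp' hpX
  have g1 := h5 @IsClosedImmersion h1
  have g2 := h6 @IsClosedImmersion h2
  have g1' := surjective_of_isClosedImmersion
    (CommRingCat.ofHom (Localization.awayMap ψ.toRingHom (algebraMap R A f)))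
  have g2' := surjective_of_isClosedImmersion (CommRingCat.ofHom (Algebra.TensorProduct.map (AlgHom.id R R') ψ).toRingHom)
  refine IsClosedImmersion.spec_of_surjective _ ?_
  refine K363.GlueAlg.surjective_of_glueing h.1 ψ.toLinearMap ?_ ?_
  · exact g2'
  · intro d
    obtain ⟨a, ha⟩ := g1' (algebraMap D (Localization.Away (ψ.toRingHom (algebraMap R A f))) d)
    obtain ⟨⟨a₀, ⟨_, n, rfl⟩⟩, ha₀⟩ := IsLocalization.surj (Submonoid.powers (algebraMap R A f)) a
    have h7 := congrArg (Localization.awayMap ψ.toRingHom (algebraMap R A f)) ha₀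
    have h8 : ∀ c : A, Localization.awayMap ψ.toRingHom (algebraMap R A f) (algebraMap A _ c) =
        algebraMap D (Localization.Away (ψ.toRingHom (algebraMap R A f))) (ψ c) := fun c => by
      rw [Localization.awayMap, IsLocalization.Away.map, IsLocalization.map_eq]
      rfl
    have ha' : Localization.awayMap ψ.toRingHom (algebraMap R A f) a =
        algebraMap D (Localization.Away (ψ.toRingHom (algebraMap R A f))) d := ha
    rw [map_mul, ha'] at h7
    simp only [h8] at h7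
    rw [← map_mul] at h7
    obtain ⟨⟨_, m, rfl⟩, hm⟩ := (IsLocalization.eq_iff_exists (Submonoid.powers (ψ.toRingHom (algebraMap R A f))) _).1 h7
    have hf : ψ.toRingHom (algebraMap R A f) = algebraMap R D f := ψ.commutes f
    refine ⟨m + n, f ^ m • a₀, ?_⟩
    have h9 : (algebraMap R D f) ^ m * (d * (algebraMap R D f) ^ n) = (algebraMap R D f) ^ m * ψ a₀ := by
      have := hm
      simp only [hf, map_pow, AlgHom.commutes] at this
      exact this
    change f ^ (m + n) • d = ψ (f ^ m • a₀)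
    rw [map_smul, Algebra.smul_def, Algebra.smul_def, map_pow, map_pow, ← h9, pow_add]
    ring

end K627.GlueProp
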