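import Groth.Agent.EtAlg.K363.GlueAlg
import Groth.Agent.S7065
import Mathlib.AlgebraicGeometry.Pullbacks

/-!
# Affine glueing along a glueing pair, geometric form

`Spec D` is the pushout of `Spec D_g ← Spec E_g → Spec E` among affine schemes, for a glueing pair `(D → E, g)`.
-/

set_option autoImplicit false
universe u

open CategoryTheory CategoryTheory.Limits AlgebraicGeometry TensorProduct

namespace K627.GluePush

variable {D E : Type u} [CommRing D] [CommRing E] [Algebra D E] {g : D}

/-- Ring homomorphisms into the middle of a glueing pair. -/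
theorem exists_ringHom (h : EtGlue.IsGlueingPair D E g) {V : Type u} [CommRing V]
    (μ : V →+* Localization.Away g) (ν : V →+* E)
    (hμν : (Localization.awayMap (algebraMap D E) g).comp μ =
      (algebraMap E (Localization.Away (algebraMap D E g))).comp ν) :
    ∃ w : V →+* D, (algebraMap D (Localization.Away g)).comp w = μ ∧ (algebraMap D E).comp w = ν := by
  let ι : D →+* E × Localization.Away g := (algebraMap D E).prod (algebraMap D (Localization.Away g))
  let θ : V →+* E × Localization.Away g := ν.prod μ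
  have hι : Function.Injective ι := h.2.1
  have hr : ∀ v, θ v ∈ ι.range := by
    intro v
    obtain ⟨r, hr1, hr2⟩ := h.2.2.1 (ν v) (μ v) (RingHom.congr_fun hμν v).symm
    exact ⟨r, Prod.ext hr1 hr2⟩
  let e : D ≃+* ι.range := RingEquiv.ofBijective ι.rangeRestrict
    ⟨fun x y hxy => hι (congrArg Subtype.val hxy), ι.rangeRestrict_surjective⟩
  let w : V →+* D := (e.symm : ι.range →+* D).comp (θ.codRestrict ι.range hr)
  have hw : ∀ v, ι (w v) = θ v := by
    intro v
    have : e (w v) = θ.codRestrict ι.range hr v := e.apply_symm_apply _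
    exact congrArg Subtype.val this
  exact ⟨w, RingHom.ext fun v => congrArg Prod.snd (hw v), RingHom.ext fun v => congrArg Prod.fst (hw v)⟩

/-- Two morphisms from `Spec D` to an affine scheme which agree over `D_g` and `E` agree. -/
theorem hom_ext (h : EtGlue.IsGlueingPair D E g) {P P' V : Scheme.{u}} [IsAffine V]
    (j : P ⟶ Spec (.of D)) (k : P' ⟶ Spec (.of D))
    (e₁ : Spec (.of (Localization.Away g)) ⟶ P) (he₁ : e₁ ≫ j = Spec.map (CommRingCat.ofHom (algebraMap D (Localization.Away g))))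
    (e₂ : Spec (.of E) ⟶ P') (he₂ : e₂ ≫ k = Spec.map (CommRingCat.ofHom (algebraMap D E)))
    {x y : Spec (.of D) ⟶ V} (hj : j ≫ x = j ≫ y) (hk : k ≫ x = k ≫ y) : x = y := by
  have h1 : Spec.map (CommRingCat.ofHom (algebraMap D (Localization.Away g))) ≫ x =
      Spec.map (CommRingCat.ofHom (algebraMap D (Localization.Away g))) ≫ y := by
    rw [← he₁, Category.assoc, hj, Category.assoc]
  have h2 : Spec.map (CommRingCat.ofHom (algebraMap D E)) ≫ x = Spec.map (CommRingCat.ofHom (algebraMap D E)) ≫ y := by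
    rw [← he₂, Category.assoc, hk, Category.assoc]
  rw [← cancel_mono V.isoSpec.hom]
  obtain ⟨x', hx'⟩ : ∃ x', Spec.map x' = x ≫ V.isoSpec.hom := ⟨_, Spec.map_preimage _⟩
  obtain ⟨y', hy'⟩ : ∃ y', Spec.map y' = y ≫ V.isoSpec.hom := ⟨_, Spec.map_preimage _⟩
  rw [← hx', ← hy']
  congr 1
  have h3 : x' ≫ CommRingCat.ofHom (algebraMap D (Localization.Away g)) =
      y' ≫ CommRingCat.ofHom (algebraMap D (Localization.Away g)) := by
    apply Spec.map_injective
    rw [Spec.map_comp, Spec.map_comp, hx', hy', reassoc_of% h1]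
  have h4 : x' ≫ CommRingCat.ofHom (algebraMap D E) = y' ≫ CommRingCat.ofHom (algebraMap D E) := by
    apply Spec.map_injective
    rw [Spec.map_comp, Spec.map_comp, hx', hy', reassoc_of% h2]
  apply CommRingCat.hom_ext
  ext v
  apply h.2.1
  exact Prod.ext (congrArg (fun m => m.hom v) h4) (congrArg (fun m => m.hom v) h3)

/-- Morphisms to an affine scheme glue along a glueing pair. -/
theorem exists_hom (h : EtGlue.IsGlueingPair D E g) {P P' Q V : Scheme.{u}} [IsAffine V]
    {j : P ⟶ Spec (.of D)} {k : P' ⟶ Spec (.of D)} {a : Q ⟶ P} {b : Q ⟶ P'} (sq : IsPullback a b j k)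
    (e₁ : Spec (.of (Localization.Away g)) ≅ P) (he₁ : e₁.hom ≫ j = Spec.map (CommRingCat.ofHom (algebraMap D (Localization.Away g))))
    (e₂ : Spec (.of E) ≅ P') (he₂ : e₂.hom ≫ k = Spec.map (CommRingCat.ofHom (algebraMap D E)))
    (u : P ⟶ V) (v : P' ⟶ V) (huv : a ≫ u = b ≫ v) :
    ∃ w : Spec (.of D) ⟶ V, j ≫ w = u ∧ k ≫ w = v := by
  obtain ⟨μ, hμ⟩ : ∃ μ, Spec.map μ = e₁.hom ≫ u ≫ V.isoSpec.hom := ⟨_, Spec.map_preimage _⟩
  obtain ⟨ν, hν⟩ : ∃ ν, Spec.map ν = e₂.hom ≫ v ≫ V.isoSpec.hom := ⟨_, Spec.map_preimage _⟩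
  let m₁ : CommRingCat.of (Localization.Away g) ⟶ CommRingCat.of (Localization.Away (algebraMap D E g)) :=
    CommRingCat.ofHom (Localization.awayMap (algebraMap D E) g)
  let m₂ : CommRingCat.of E ⟶ CommRingCat.of (Localization.Away (algebraMap D E g)) :=
    CommRingCat.ofHom (algebraMap E (Localization.Away (algebraMap D E g)))
  have hm : CommRingCat.ofHom (algebraMap D (Localization.Away g)) ≫ m₁ = CommRingCat.ofHom (algebraMap D E) ≫ m₂ := by
    apply CommRingCat.hom_ext
    ext d
    change Localization.awayMap (algebraMap D E) g (algebraMap D (Localization.Away g) d) = _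
    rw [Localization.awayMap, IsLocalization.Away.map, IsLocalization.map_eq]
    rfl
  have w1 : (Spec.map m₁ ≫ e₁.hom) ≫ j = (Spec.map m₂ ≫ e₂.hom) ≫ k := by
    rw [Category.assoc, he₁, Category.assoc, he₂, ← Spec.map_comp, hm, Spec.map_comp]
  have h1 : μ ≫ m₁ = ν ≫ m₂ := by
    apply Spec.map_injective
    rw [Spec.map_comp, Spec.map_comp, hμ, hν]
    have h2 := sq.lift_fst _ _ w1
    have h3 := sq.lift_snd _ _ w1
    have h4 := congrArg (fun q => sq.lift _ _ w1 ≫ q ≫ V.isoSpec.hom) huv
    simp only [Category.assoc] at h4 h2 h3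
    rw [reassoc_of% h2, reassoc_of% h3] at h4
    exact h4
  obtain ⟨w, hw1, hw2⟩ := exists_ringHom h μ.hom ν.hom (congrArg (fun m => m.hom) h1)
  refine ⟨Spec.map (CommRingCat.ofHom w) ≫ V.isoSpec.inv, ?_, ?_⟩
  · rw [← cancel_epi e₁.hom, ← cancel_mono V.isoSpec.hom]
    simp only [Category.assoc, Iso.inv_hom_id, Category.comp_id]
    rw [← hμ, reassoc_of% he₁, ← Spec.map_comp]
    congr 1
    apply CommRingCat.hom_ext
    exact hw1
  · rw [← cancel_epi e₂.hom, ← cancel_mono V.isoSpec.hom]
    simp only [Category.assoc, Iso.inv_hom_id, Category.comp_id]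
    rw [← hν, reassoc_of% he₂, ← Spec.map_comp]
    congr 1
    apply CommRingCat.hom_ext
    exact hw2

end K627.GluePush
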