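import Groth.Agent.AlgSp.K594.Quot

/-!
# Base change of a quotient sheaf
-/

set_option autoImplicit false
universe u

open CategoryTheory CategoryTheory.Limits AlgebraicGeometry Opposite AlgSp

namespace K627.GlueQuot

open K594.Elem K594.Cover K594.Quot

variable {S : Scheme.{u}} {R T₀ : Over S} (s t : R ⟶ T₀)

/-- The class of a point. -/
noncomputable def cl {T : Over S} (x : T ⟶ T₀) : (QuotSh.quot Scheme.fppfPrecoverage s t).obj.obj (op T) :=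
  (π s t).hom.app (op T) ⟨x⟩

theorem map_cl {T T' : Over S} (g : T' ⟶ T) (x : T ⟶ T₀) :
    (QuotSh.quot Scheme.fppfPrecoverage s t).obj.map g.op (cl s t x) = cl s t (g ≫ x) :=
  (app_map (π s t) g (⟨x⟩ : ((yon S).obj T₀).obj.obj (op T))).symm

theorem cl_eq_iff (h : IsEqvRel s t) {T : Over S} (a b : T ⟶ T₀) :
    cl s t a = cl s t b ↔ ∃ r : T ⟶ R, r ≫ t = a ∧ r ≫ s = b := app_π_eq_iff s t h a b

/-- The restriction of an equivalence relation along `Z ⟶ pt`. -/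
structure Restr {S : Scheme.{u}} {R T₀ : Over S} (s t : R ⟶ T₀) {Z pt : Over S} (ι : Z ⟶ pt) (W : Over S) (w : W ⟶ Z) where
  /-- the chart of `W` -/
  TZ : Over S
  /-- the relation of `W` -/
  RZ : Over S
  /-- the covering -/
  c : TZ ⟶ W
  cov : Cov c
  /-- the inclusion -/
  j : TZ ⟶ T₀
  /-- the structure map -/
  z : T₀ ⟶ pt
  sqT : IsPullback j (c ≫ w) z ι
  /-- first projection -/
  f₁ : RZ ⟶ TZ
  /-- second projection -/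
  f₂ : RZ ⟶ TZ
  sqK : IsPullback f₁ f₂ c c
  /-- the inclusion -/
  jR : RZ ⟶ R
  /-- the structure map -/
  zR : R ⟶ pt
  sqR : IsPullback jR (f₁ ≫ c ≫ w) zR ι
  e₁ : jR ≫ t = f₁ ≫ j
  e₂ : jR ≫ s = f₂ ≫ j

namespace Restr

variable {s t} {Z pt : Over S} {ι : Z ⟶ pt} {W : Over S} {w : W ⟶ Z} (ρ : Restr s t ι W w)

theorem exists_sec : ∃ ξ : (QuotSh.quot Scheme.fppfPrecoverage s t).obj.obj (op W),
    (QuotSh.quot Scheme.fppfPrecoverage s t).obj.map ρ.c.op ξ = cl s t ρ.j := by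
  refine ρ.cov.glue _ _ fun Z a b hab => ?_
  rw [map_cl, map_cl]
  obtain ⟨m, h1, h2⟩ : ∃ m : Z ⟶ ρ.RZ, m ≫ ρ.f₁ = a ∧ m ≫ ρ.f₂ = b :=
    ⟨_, ρ.sqK.lift_fst a b hab, ρ.sqK.lift_snd a b hab⟩
  have h3 : a ≫ ρ.j = (m ≫ ρ.jR) ≫ t := by rw [← h1, Category.assoc, Category.assoc, ρ.e₁]
  have h4 : b ≫ ρ.j = (m ≫ ρ.jR) ≫ s := by rw [← h2, Category.assoc, Category.assoc, ρ.e₂]
  rw [h3, h4]
  change (π s t).hom.app (op Z) ⟨(m ≫ ρ.jR) ≫ t⟩ = (π s t).hom.app (op Z) ⟨(m ≫ ρ.jR) ≫ s⟩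
  have h5 := congrArg (fun q => q.hom.app (op Z) ⟨m ≫ ρ.jR⟩) (π_condition s t)
  exact h5.symm

variable (h : IsEqvRel s t) (hpt : ∀ (T : Over S) (a b : T ⟶ pt), a = b)
include h hpt

theorem inj {ξ : (QuotSh.quot Scheme.fppfPrecoverage s t).obj.obj (op W)}
    (hξ : (QuotSh.quot Scheme.fppfPrecoverage s t).obj.map ρ.c.op ξ = cl s t ρ.j) {T : Over S} (a b : T ⟶ W)
    (h1 : (QuotSh.quot Scheme.fppfPrecoverage s t).obj.map a.op ξ = (QuotSh.quot Scheme.fppfPrecoverage s t).obj.map b.op ξ)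
    (h2 : a ≫ w = b ≫ w) : a = b := by
  obtain ⟨T₁, g₁, x₁, sq₁, hg₁⟩ := ρ.cov.exists_baseChange a
  obtain ⟨T₂, g₂, x₂, sq₂, hg₂⟩ := ρ.cov.exists_baseChange (g₁ ≫ b)
  have hg : Cov (g₂ ≫ g₁) := hg₁.comp hg₂
  refine hom_ext_cov hg ?_
  have ha : (g₂ ≫ x₁) ≫ ρ.c = (g₂ ≫ g₁) ≫ a := by rw [Category.assoc, Category.assoc, sq₁.w]
  have hb : x₂ ≫ ρ.c = (g₂ ≫ g₁) ≫ b := by rw [sq₂.w, Category.assoc]
  have key : cl s t ((g₂ ≫ x₁) ≫ ρ.j) = cl s t (x₂ ≫ ρ.j) := by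
    rw [← map_cl, ← hξ, ← map_comp_apply, ha, ← map_cl, ← hξ, ← map_comp_apply, hb, map_comp_apply _ a,
      map_comp_apply _ b, h1]
  obtain ⟨r, hr1, hr2⟩ := (cl_eq_iff s t h _ _).1 key
  obtain ⟨m, hm1, hm2⟩ : ∃ m : T₂ ⟶ ρ.RZ, m ≫ ρ.jR = r ∧ m ≫ ρ.f₁ ≫ ρ.c ≫ w = (g₂ ≫ x₁) ≫ ρ.c ≫ w :=
    ⟨_, ρ.sqR.lift_fst r _ (hpt _ _ _), ρ.sqR.lift_snd r _ (hpt _ _ _)⟩
  have e1 : m ≫ ρ.f₁ = g₂ ≫ x₁ := by
    refine ρ.sqT.hom_ext ?_ ?_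
    · rw [Category.assoc, ← ρ.e₁, ← Category.assoc, hm1, hr1]
    · rw [Category.assoc, hm2]
  have e2 : m ≫ ρ.f₂ = x₂ := by
    refine ρ.sqT.hom_ext ?_ ?_
    · rw [Category.assoc, ← ρ.e₂, ← Category.assoc, hm1, hr2]
    · rw [Category.assoc, ← Category.assoc ρ.f₂, ← ρ.sqK.w, Category.assoc, hm2, ← Category.assoc, ha, ← Category.assoc x₂,
        hb, Category.assoc, Category.assoc (g₂ ≫ g₁) b, h2]
  rw [← ha, ← hb, ← e1, ← e2, Category.assoc, Category.assoc, ρ.sqK.w]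

theorem exists_pt {ξ : (QuotSh.quot Scheme.fppfPrecoverage s t).obj.obj (op W)}
    (hξ : (QuotSh.quot Scheme.fppfPrecoverage s t).obj.map ρ.c.op ξ = cl s t ρ.j) {T : Over S}
    (y : (QuotSh.quot Scheme.fppfPrecoverage s t).obj.obj (op T)) (ζ : T ⟶ Z) :
    ∃ p : T ⟶ W, (QuotSh.quot Scheme.fppfPrecoverage s t).obj.map p.op ξ = y ∧ p ≫ w = ζ := by
  obtain ⟨T', g, x, hg, hx⟩ := exists_lift s t y
  have hx' : cl s t x = (QuotSh.quot Scheme.fppfPrecoverage s t).obj.map g.op y := hx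
  obtain ⟨m, hm1, hm2⟩ : ∃ m : T' ⟶ ρ.TZ, m ≫ ρ.j = x ∧ m ≫ ρ.c ≫ w = g ≫ ζ :=
    ⟨_, ρ.sqT.lift_fst x (g ≫ ζ) (hpt _ _ _), ρ.sqT.lift_snd x (g ≫ ζ) (hpt _ _ _)⟩
  have hc : (QuotSh.quot Scheme.fppfPrecoverage s t).obj.map (m ≫ ρ.c).op ξ =
      (QuotSh.quot Scheme.fppfPrecoverage s t).obj.map g.op y := by
    rw [map_comp_apply, hξ, map_cl, hm1, hx']
  obtain ⟨p, hp⟩ := exists_glue_hom_cov hg (m ≫ ρ.c) (fun Z' a b hab => by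
    refine ρ.inj h hpt hξ _ _ ?_ ?_
    · rw [map_comp_apply, hc, ← map_comp_apply, hab, map_comp_apply, ← hc, ← map_comp_apply]
    · rw [Category.assoc, Category.assoc, hm2, ← Category.assoc, hab, Category.assoc, Category.assoc, Category.assoc, hm2])
  refine ⟨p, ?_, ?_⟩
  · refine hg.ext _ ?_
    rw [← map_comp_apply, hp, hc]
  · refine hom_ext_cov hg ?_
    rw [← Category.assoc, hp, Category.assoc, hm2]

theorem exists_map (πY : QuotSh.quot Scheme.fppfPrecoverage s t ⟶ (yon S).obj pt) :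
    ∃ α : (yon S).obj W ⟶ QuotSh.quot Scheme.fppfPrecoverage s t, (yon S).map ρ.c ≫ α = (yon S).map ρ.j ≫ π s t ∧
      IsPullback α ((yon S).map w) πY ((yon S).map ι) := by
  obtain ⟨ξ, hξ⟩ := ρ.exists_sec
  have hα : ∀ {T : Over S} (p : T ⟶ W), (secEquiv.symm ξ).hom.app (op T) ⟨p⟩ =
      (QuotSh.quot Scheme.fppfPrecoverage s t).obj.map p.op ξ := fun p => yonEquiv_symm_apply ξ p
  refine ⟨secEquiv.symm ξ, ?_, ?_⟩
  · refine hom_ext _ _ fun T x => ?_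
    obtain ⟨x⟩ := x
    change (secEquiv.symm ξ).hom.app (op T) ⟨x ≫ ρ.c⟩ = (π s t).hom.app (op T) ⟨x ≫ ρ.j⟩
    rw [hα, map_comp_apply, hξ, map_cl]
    rfl
  · rw [isPullback_iff]
    refine ⟨hom_ext _ _ fun T x => ?_, ?_, ?_⟩
    · exact congrArg ULift.up (hpt T _ _)
    · rintro T ⟨a⟩ ⟨b⟩ h1 h2
      rw [hα, hα] at h1
      exact congrArg ULift.up (ρ.inj h hpt hξ a b h1 (congrArg ULift.down h2))
    · rintro T y ⟨ζ⟩ -
      obtain ⟨p, hp1, hp2⟩ := ρ.exists_pt h hpt hξ y ζ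
      exact ⟨⟨p⟩, (hα p).trans hp1, congrArg ULift.up hp2⟩

end Restr

end K627.GlueQuot
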