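import Groth.Agent.AlgSp.K627.GlueGpd
import Groth.Agent.AlgSp.K627.GlueQuot
import Groth.Agent.AlgSp.K607.FpQuot
import Groth.Agent.AlgSp.K594.DiagProp

/-!
# Glueing quasi-affine schemes to a separated algebraic space
-/

set_option autoImplicit false
universe u

open CategoryTheory CategoryTheory.Limits AlgebraicGeometry TensorProduct AlgSp

namespace K627.GlueQA

open K641.SpecAlg K627.GlueSq K627.GlueProp K627.Tors K627.GlueGpd K594.Cover K594.Elem

variable {R : Type u} [CommRing R] {R' : Type u} [CommRing R'] [Algebra R R'] {f : R}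

theorem hom_ext_cov {S : Scheme.{u}} {T T' : Over S} {g : T' ⟶ T} (hg : Cov g) {F : Sp S} {x y : (yon S).obj T ⟶ F}
    (h : (yon S).map g ≫ x = (yon S).map g ≫ y) : x = y := by
  apply secEquiv.injective
  refine hg.ext F ?_
  have h1 : ∀ x : (yon S).obj T ⟶ F, F.obj.map g.op (secEquiv x) = secEquiv ((yon S).map g ≫ x) := fun x =>
    (J S).uliftYonedaEquiv_naturality x g
  rw [h1, h1, h]

/-- A triple of affine schemes over quasi-affine schemes. -/
theorem exists_tri (C : Ctx R R' f) (h1 : C.V.left.IsQuasiAffine) (h2 : C.Y'.left.IsQuasiAffine) :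
    ∃ τ : Tri C, IsAffine τ.T.left ∧ IsAffine τ.T'.left ∧ Fps τ.c.left ∧ Fps τ.c'.left := by
  have hX : IsAffineHom C.tX.left := K597.Affine.isAffineHom_of_isAffine _ (inferInstanceAs (IsAffine (Spec _)))
    (inferInstanceAs (IsAffine (Spec _)))
  have hU : IsAffineHom C.tU.left := K597.Affine.isAffineHom_of_isAffine _ (inferInstanceAs (IsAffine (Spec _)))
    (inferInstanceAs (IsAffine (Spec _)))
  have hiU : IsAffineHom C.iU.left :=
    MorphismProperty.of_isPullback (P := @IsAffineHom) (C.hU'.flip.map (Over.forget _)) hX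
  have hiX : IsAffineHom C.iX.left :=
    MorphismProperty.of_isPullback (P := @IsAffineHom) (C.hU'.map (Over.forget _)) hU
  have hpV : IsAffineHom C.pV.left :=
    MorphismProperty.of_isPullback (P := @IsAffineHom) (C.hV.flip.map (Over.forget _)) hiU
  have hpY : IsAffineHom C.pY.left :=
    MorphismProperty.of_isPullback (P := @IsAffineHom) (C.hY.flip.map (Over.forget _)) hiX
  obtain ⟨T₁, T', P, c₁, c', a, b, d, hT₁, hT', ha, hb, hc₁, hc'⟩ := exists_common C.pV.left C.pY.left
  refine ⟨{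
    T := Over.mk (c₁ ≫ C.V.hom)
    T' := Over.mk (c' ≫ C.Y'.hom)
    P := Over.mk (d ≫ C.V'.hom)
    c := Over.homMk c₁
    c' := Over.homMk c'
    d := Over.homMk d
    a := Over.homMk a (by
      change a ≫ c₁ ≫ C.V.hom = d ≫ C.V'.hom
      rw [← Category.assoc, ha.w, Category.assoc, Over.w])
    b := Over.homMk b (by
      change b ≫ c' ≫ C.Y'.hom = d ≫ C.V'.hom
      rw [← Category.assoc, hb.w, Category.assoc, Over.w])
    ha := IsPullback.of_map (Over.forget _) (by ext1; exact ha.w) ha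
    hb := IsPullback.of_map (Over.forget _) (by ext1; exact hb.w) hb }, hT₁, hT', hc₁, hc'⟩

theorem Fps.cov {S : Scheme.{u}} {X Y : Over S} {f : X ⟶ Y} (h : Fps f.left) : Cov f := ⟨h.1, h.2.1, h.2.2⟩

theorem exists_space (h : EtGlue.IsGlueingPair R R' f) (C : Ctx R R' f) (h1 : C.V.left.IsQuasiAffine)
    (h2 : C.Y'.left.IsQuasiAffine) :
    ∃ (Y : Space (Spec (CommRingCat.of R))) (πY : Y.obj ⟶ (yon (Spec (CommRingCat.of R))).obj (pt R))
      (a : (yon (Spec (CommRingCat.of R))).obj C.V ⟶ Y.obj) (b : (yon (Spec (CommRingCat.of R))).obj C.Y' ⟶ Y.obj),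
      IsSeparatedSp Y.obj ∧ IsPullback a ((yon (Spec (CommRingCat.of R))).map C.v) πY ((yon (Spec (CommRingCat.of R))).map C.tU) ∧
        IsPullback b ((yon (Spec (CommRingCat.of R))).map C.y') πY ((yon (Spec (CommRingCat.of R))).map C.tX) ∧
        (yon (Spec (CommRingCat.of R))).map C.pV ≫ a = (yon (Spec (CommRingCat.of R))).map C.pY ≫ b := by
  obtain ⟨τ, hT, hT', hc, hc'⟩ := exists_tri C h1 h2
  obtain ⟨G⟩ := τ.exists_gl h hT hT'
  obtain ⟨K, ⟨κ⟩⟩ := exists_kp τ
  have hsepV : IsSeparated C.V.hom := IsSeparated.of_comp C.V.hom (terminal.from _)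
  have hsepY : IsSeparated C.Y'.hom := IsSeparated.of_comp C.Y'.hom (terminal.from _)
  have hv : IsSeparated C.v.left := by
    have : IsSeparated (C.v.left ≫ (sp R (Localization.Away f)).hom) := by rw [Over.w]; exact hsepV
    exact IsSeparated.of_comp C.v.left (sp R (Localization.Away f)).hom
  have hy : IsSeparated C.y'.left := by
    have : IsSeparated (C.y'.left ≫ (sp R R').hom) := by rw [Over.w]; exact hsepY
    exact IsSeparated.of_comp C.y'.left (sp R R').hom
  have hcaff : IsAffineHom τ.c.left := by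
    have : IsAffineHom (τ.c.left ≫ terminal.from C.V.left) := inferInstance
    exact IsAffineHom.of_comp _ (terminal.from C.V.left)
  have hcaff' : IsAffineHom τ.c'.left := by
    have : IsAffineHom (τ.c'.left ≫ terminal.from C.Y'.left) := inferInstance
    exact IsAffineHom.of_comp _ (terminal.from C.Y'.left)
  have hK : IsAffine K.T.left := by
    have : IsAffineHom κ.f₂.left :=
      MorphismProperty.of_isPullback (P := @IsAffineHom) (κ.sq.map (Over.forget _)) hcaff
    exact isAffine_of_isAffineHom κ.f₂.left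
  have hK' : IsAffine K.T'.left := by
    have : IsAffineHom κ.f₂'.left :=
      MorphismProperty.of_isPullback (P := @IsAffineHom) (κ.sq'.map (Over.forget _)) hcaff'
    exact isAffine_of_isAffineHom κ.f₂'.left
  obtain ⟨H⟩ := K.exists_gl h hK hK'
  obtain ⟨s, r, ρ⟩ := exists_rel κ G H h
  have hE : IsEqvRel s r := ρ.isEqvRel h hv hy hc hc'
  obtain ⟨hs1, hs2⟩ := ρ.flat_left h hc hc'
  obtain ⟨hr1, hr2⟩ := ρ.flat_right h hc hc'
  have hY : IsAlgSpace (QuotSh.quot Scheme.fppfPrecoverage s r) := K607.FpQuot.isAlgSpace_quot s r hE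
  obtain ⟨πY, -⟩ := K594.Quot.exists_desc s r ((yon _).map G.z) (by
    rw [← Functor.map_comp, ← Functor.map_comp, hom_pt_ext (s ≫ G.z) (r ≫ G.z)])
  have hsep : IsSeparatedSp (QuotSh.quot Scheme.fppfPrecoverage s r) := by
    have := K594.Quot.isLocallySurjective_π s r
    have := K594.Local.isClosedImmersion.{u}
    exact K594.DiagProp.repWith_diag_of_kernelPair @IsClosedImmersion (K594.Quot.π s r)
      (K594.Quot.isPullback_π s r hE) inferInstance (ρ.isClosedImmersion h hv hy)
  let ρU : GlueQuot.Restr s r C.tU C.V C.v := {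
    TZ := τ.T
    RZ := K.T
    c := τ.c
    cov := Fps.cov hc
    j := G.j
    z := G.z
    sqT := G.sqU
    f₁ := κ.f₁
    f₂ := κ.f₂
    sqK := κ.sq
    jR := H.j
    zR := H.z
    sqR := by
      have := H.sqU
      rwa [κ.c_eq, Category.assoc] at this
    e₁ := ρ.jr
    e₂ := ρ.js }
  let ρX : GlueQuot.Restr s r C.tX C.Y' C.y' := {
    TZ := τ.T'
    RZ := K.T'
    c := τ.c'
    cov := Fps.cov hc'
    j := G.k
    z := G.z
    sqT := G.sqX
    f₁ := κ.f₁'
    f₂ := κ.f₂'
    sqK := κ.sq'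
    jR := H.k
    zR := H.z
    sqR := by
      have := H.sqX
      rwa [κ.c_eq', Category.assoc] at this
    e₁ := ρ.kr
    e₂ := ρ.ks }
  obtain ⟨a, ha1, ha2⟩ := ρU.exists_map hE (fun _ x y => hom_pt_ext x y) πY
  obtain ⟨b, hb1, hb2⟩ := ρX.exists_map hE (fun _ x y => hom_pt_ext x y) πY
  refine ⟨⟨_, hY⟩, πY, a, b, hsep, ha2, hb2, ?_⟩
  have hd : Cov τ.d := Cov.of_isPullback τ.ha (Fps.cov hc)
  refine hom_ext_cov hd ?_
  rw [← Category.assoc, ← Category.assoc, ← Functor.map_comp, ← Functor.map_comp, ← τ.ha.w, ← τ.hb.w, Functor.map_comp,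
    Functor.map_comp, Category.assoc, Category.assoc]
  have ha1' : (yon _).map τ.c ≫ a = (yon _).map G.j ≫ K594.Quot.π s r := ha1
  have hb1' : (yon _).map τ.c' ≫ b = (yon _).map G.k ≫ K594.Quot.π s r := hb1
  have w : (yon _).map τ.a ≫ (yon _).map G.j = (yon _).map τ.b ≫ (yon _).map G.k := by
    rw [← Functor.map_comp, ← Functor.map_comp, G.w]
  rw [ha1', hb1', reassoc_of% w]

end K627.GlueQA
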