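import Groth.Agent.AlgSp.K627.GlueHom

/-!
# Morphisms from a glueable algebraic space to an algebraic space with affine diagonal glue
-/

set_option autoImplicit false
set_option backward.isDefEq.respectTransparency false
universe u

open CategoryTheory CategoryTheory.Limits AlgebraicGeometry TensorProduct AlgSp

namespace K627.GlueSpace

open K641.SpecAlg K627.GlueSq K627.GlueHom

variable {R : Type u} [CommRing R] {R' : Type u} [CommRing R'] [Algebra R R'] {f : R}

theorem hom_yon_pt_ext {F : Sp (Spec (CommRingCat.of R))} (x y : F ⟶ (yon _).obj (pt R)) : x = y := by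
  refine K635.Glue.hom_ext_yon fun T t => ?_
  obtain ⟨a, ha⟩ := (yon _).map_surjective (t ≫ x)
  obtain ⟨b, hb⟩ := (yon _).map_surjective (t ≫ y)
  rw [← ha, ← hb, hom_pt_ext a b]

/-- The data of a morphism to `Z` over `Spec R_f` and `Spec R'`. -/
structure Datum (R' : Type u) [CommRing R'] [Algebra R R'] (f : R) (Y : Sp (Spec (CommRingCat.of R)))
    (Z : Sp (Spec (CommRingCat.of R))) where
  /-- the map on points over `Spec R_f` -/
  u : ∀ ⦃T : Over (Spec (CommRingCat.of R))⦄ (_ : (yon _).obj T ⟶ Y) (_ : T ⟶ sp R (Localization.Away f)), (yon _).obj T ⟶ Z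
  /-- the map on points over `Spec R'` -/
  v : ∀ ⦃T : Over (Spec (CommRingCat.of R))⦄ (_ : (yon _).obj T ⟶ Y) (_ : T ⟶ sp R R'), (yon _).obj T ⟶ Z
  u_nat : ∀ ⦃T T' : Over (Spec (CommRingCat.of R))⦄ (g : T' ⟶ T) (t : (yon _).obj T ⟶ Y)
    (s : T ⟶ sp R (Localization.Away f)), u ((yon _).map g ≫ t) (g ≫ s) = (yon _).map g ≫ u t s
  v_nat : ∀ ⦃T T' : Over (Spec (CommRingCat.of R))⦄ (g : T' ⟶ T) (t : (yon _).obj T ⟶ Y)
    (s : T ⟶ sp R R'), v ((yon _).map g ≫ t) (g ≫ s) = (yon _).map g ≫ v t s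
  comp : ∀ ⦃T : Over (Spec (CommRingCat.of R))⦄ (t : (yon _).obj T ⟶ Y) (s : T ⟶ sp R (Localization.Away f))
    (s' : T ⟶ sp R R'), u t s = v t s'

namespace Datum

variable {Y Z : Sp (Spec (CommRingCat.of R))} (d : Datum R' f Y Z)

/-- `φ` restricts to the datum. -/
def Restricts {F : Sp (Spec (CommRingCat.of R))} (c : F ⟶ Y) (φ : F ⟶ Z) : Prop :=
  ∀ ⦃T : Over (Spec (CommRingCat.of R))⦄ (t : (yon _).obj T ⟶ F),
    (∀ s : T ⟶ sp R (Localization.Away f), t ≫ φ = d.u (t ≫ c) s) ∧ ∀ s : T ⟶ sp R R', t ≫ φ = d.v (t ≫ c) s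

theorem Restricts.precomp {d : Datum R' f Y Z} {F G : Sp (Spec (CommRingCat.of R))} {c : F ⟶ Y} {φ : F ⟶ Z}
    (h : d.Restricts c φ) (g : G ⟶ F) : d.Restricts (g ≫ c) (g ≫ φ) := by
  intro T t
  obtain ⟨h1, h2⟩ := h (t ≫ g)
  exact ⟨fun s => by rw [← Category.assoc, ← Category.assoc, h1 s], fun s => by rw [← Category.assoc, ← Category.assoc, h2 s]⟩

theorem Restricts.ext (h : EtGlue.IsGlueingPair R R' f) {A : Type u} [CommRing A] [Algebra R A]
    (hA : EtGlue.IsGlueable R R' f A) {Z : Space (Spec (CommRingCat.of R))} {d : Datum R' f Y Z.obj}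
    {c : (yon _).obj (sp R A) ⟶ Y} {φ ψ : (yon _).obj (sp R A) ⟶ Z.obj} (hφ : d.Restricts c φ)
    (hψ : d.Restricts c ψ) : φ = ψ := by
  refine K641.GlueUniq.eq_of_glueable h hA Z φ ψ ?_ ?_
  · rintro T t ⟨s⟩
    rw [(hφ _).2 s, (hψ _).2 s]
  · rintro T t ⟨s⟩
    rw [(hφ _).1 s, (hψ _).1 s]

theorem exists_restricts (h : EtGlue.IsGlueingPair R R' f) {A : Type u} [CommRing A] [Algebra R A]
    (hA : EtGlue.IsGlueable R R' f A) {Z : Space (Spec (CommRingCat.of R))} (hZ : IsAffineMor (Limits.diag Z.obj))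
    (d : Datum R' f Y Z.obj) (c : (yon _).obj (sp R A) ⟶ Y) : ∃ φ : (yon _).obj (sp R A) ⟶ Z.obj, d.Restricts c φ := by
  let x : sp R A ⟶ pt R := Over.mkIdTerminal.from _
  let y : sp R (Localization.Away f) ⟶ pt R := Over.mkIdTerminal.from _
  let y' : sp R R' ⟶ pt R := Over.mkIdTerminal.from _
  have sqU := IsPullback.of_hasPullback x y
  have sqX := IsPullback.of_hasPullback x y'
  have sqQ := IsPullback.of_hasPullback (pullback.fst x y) (pullback.fst x y')
  obtain ⟨φ, hφ1, hφ2⟩ := exists_hom_affine h hA sqQ sqU sqX Z hZ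
    (d.u ((yon _).map (pullback.fst x y) ≫ c) (pullback.snd x y))
    (d.v ((yon _).map (pullback.fst x y') ≫ c) (pullback.snd x y')) (by
      rw [← d.u_nat, ← d.v_nat, ← Category.assoc, ← Category.assoc, ← Functor.map_comp, ← Functor.map_comp, sqQ.w]
      exact d.comp _ _ _)
  refine ⟨φ, fun T t => ⟨fun s => ?_, fun s => ?_⟩⟩
  · obtain ⟨t, rfl⟩ := (yon _).map_surjective t
    have h1 := sqU.lift_fst t s (hom_pt_ext _ _)
    have h2 := sqU.lift_snd t s (hom_pt_ext _ _)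
    conv_lhs => rw [← h1]
    rw [Functor.map_comp, Category.assoc, hφ1, ← d.u_nat, ← Category.assoc, ← Functor.map_comp, h1, h2]
  · obtain ⟨t, rfl⟩ := (yon _).map_surjective t
    have h1 := sqX.lift_fst t s (hom_pt_ext _ _)
    have h2 := sqX.lift_snd t s (hom_pt_ext _ _)
    conv_lhs => rw [← h1]
    rw [Functor.map_comp, Category.assoc, hφ2, ← d.v_nat, ← Category.assoc, ← Functor.map_comp, h1, h2]

/-- Glueable affine charts. -/
def Gl (R' : Type u) [CommRing R'] [Algebra R R'] (f : R) (Y : Sp (Spec (CommRingCat.of R))) : Prop :=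
  ∀ (A : Type u) [CommRing A] [Algebra R A] (g : (yon _).obj (sp R A) ⟶ Y), RepWith @Etale g →
    EtGlue.IsGlueable R R' f A

theorem existsUnique_chart (h : EtGlue.IsGlueingPair R R' f) {Z : Space (Spec (CommRingCat.of R))}
    (hZ : IsAffineMor (Limits.diag Z.obj)) (hY : Gl R' f Y) (d : Datum R' f Y Z.obj)
    {V : Over (Spec (CommRingCat.of R))} (c : (yon _).obj V ⟶ Y) (hc : K635.Glue.IsAffChart c) :
    ∃! φ : (yon _).obj V ⟶ Z.obj, d.Restricts c φ := by
  have := hc.aff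
  obtain ⟨A, _, _, ⟨e⟩⟩ := exists_algebra V
  have hpe : RepWith @Etale ((yon _).map e.hom ≫ c) :=
    (repWith_isMultiplicative @Etale).comp_mem _ _ (by
      have : IsIso e.hom.left := isIso_left e
      exact (repWith_yon_map_iff _ _).2 inferInstance) hc.et
  have hA := hY A _ hpe
  obtain ⟨φ, hφ⟩ := exists_restricts h hA hZ d ((yon _).map e.hom ≫ c)
  refine ⟨(yon _).map e.inv ≫ φ, ?_, fun ψ hψ => ?_⟩
  · have h1 := hφ.precomp ((yon _).map e.inv)
    rwa [← Category.assoc, ← Functor.map_comp, e.inv_hom_id, CategoryTheory.Functor.map_id, Category.id_comp] at h1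
  · have h1 : (yon _).map e.hom ≫ ψ = φ := (hψ.precomp _).ext h hA hφ
    rw [← h1, ← Category.assoc, ← Functor.map_comp, e.inv_hom_id, CategoryTheory.Functor.map_id, Category.id_comp]

/-- A datum of compatible morphisms over `Spec R_f` and `Spec R'` comes from a unique morphism. -/
theorem existsUnique_hom (h : EtGlue.IsGlueingPair R R' f) {Z : Space (Spec (CommRingCat.of R))}
    (hZ : IsAffineMor (Limits.diag Z.obj)) (hYs : IsAlgSpace Y) (hY : Gl R' f Y) (d : Datum R' f Y Z.obj) :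
    ∃! φ : Y ⟶ Z.obj, d.Restricts (𝟙 Y) φ := by
  choose Φ hΦ hΦ' using fun (V : Over (Spec (CommRingCat.of R))) (c : (yon _).obj V ⟶ Y)
    (hc : K635.Glue.IsAffChart c) => existsUnique_chart h hZ hY d c hc
  obtain ⟨φ, hφ⟩ := K635.Glue.exists_hom_of_charts hYs Z.obj Φ (fun V W c hc g hc' _ =>
    hΦ' _ _ hc' _ ((hΦ V c hc).precomp ((yon _).map g)))
  have hres : d.Restricts (𝟙 Y) φ := by
    intro T t
    obtain ⟨ι, W, g, V, c, k, -, hg, hs, hc, hw⟩ := K635.Glue.exists_cover_chart hYs t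
    have hf : ∀ i, Flat (g i).left := fun i ↦ by have := hg i; infer_instance
    have hf' : ∀ i, LocallyOfFinitePresentation (g i).left := fun i ↦ by have := hg i; infer_instance
    refine ⟨fun s => K635.Glue.hom_ext_cover W g hf hf' hs fun i => ?_,
      fun s => K635.Glue.hom_ext_cover W g hf hf' hs fun i => ?_⟩
    · rw [← d.u_nat, ← Category.assoc, hw, Category.assoc, hφ (V i) (c i) (hc i), ← Category.assoc, hw, Category.assoc]
      have h1 := ((hΦ (V i) (c i) (hc i)) ((yon _).map (k i))).1 (g i ≫ s)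
      rw [h1, Category.comp_id]
    · rw [← d.v_nat, ← Category.assoc, hw, Category.assoc, hφ (V i) (c i) (hc i), ← Category.assoc, hw, Category.assoc]
      have h1 := ((hΦ (V i) (c i) (hc i)) ((yon _).map (k i))).2 (g i ≫ s)
      rw [h1, Category.comp_id]
  refine ⟨φ, hres, fun ψ hψ => ?_⟩
  refine K635.Glue.hom_ext_charts hYs fun V c hc => ?_
  have h1 : d.Restricts c (c ≫ ψ) := by
    have := Restricts.precomp hψ c
    rwa [Category.comp_id] at this
  have h2 : d.Restricts c (c ≫ φ) := by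
    have := Restricts.precomp hres c
    rwa [Category.comp_id] at this
  exact (hΦ' V c hc _ h1).trans (hΦ' V c hc _ h2).symm

end Datum

/-- Morphisms over `Spec R_f` and `Spec R'`, given on the base changes. -/
noncomputable def datumOf {Y Z YU YX YQ : Sp (Spec (CommRingCat.of R))} {πY : Y ⟶ (yon _).obj (pt R)}
    {inU : sp R (Localization.Away f) ⟶ pt R} {inX : sp R R' ⟶ pt R}
    {uY : YU ⟶ Y} {sY : YU ⟶ (yon _).obj (sp R (Localization.Away f))} (hYU : IsPullback uY sY πY ((yon _).map inU))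
    {xY : YX ⟶ Y} {rY : YX ⟶ (yon _).obj (sp R R')} (hYX : IsPullback xY rY πY ((yon _).map inX))
    {m₁ : YQ ⟶ YU} {m₂ : YQ ⟶ YX} (hYQ : IsPullback m₁ m₂ uY xY) (α : YU ⟶ Z) (β : YX ⟶ Z)
    (hαβ : m₁ ≫ α = m₂ ≫ β) : Datum R' f Y Z where
  u T t s := hYU.lift t ((yon _).map s) (hom_yon_pt_ext _ _) ≫ α
  v T t s := hYX.lift t ((yon _).map s) (hom_yon_pt_ext _ _) ≫ β
  u_nat T T' g t s := by
    rw [← Category.assoc]
    congr 1
    apply hYU.hom_ext
    · rw [hYU.lift_fst, Category.assoc, hYU.lift_fst]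
    · rw [hYU.lift_snd, Category.assoc, hYU.lift_snd, Functor.map_comp]
  v_nat T T' g t s := by
    rw [← Category.assoc]
    congr 1
    apply hYX.hom_ext
    · rw [hYX.lift_fst, Category.assoc, hYX.lift_fst]
    · rw [hYX.lift_snd, Category.assoc, hYX.lift_snd, Functor.map_comp]
  comp T t s s' := by
    have w : hYU.lift t ((yon _).map s) (hom_yon_pt_ext _ _) ≫ uY = hYX.lift t ((yon _).map s') (hom_yon_pt_ext _ _) ≫ xY := by
      rw [hYU.lift_fst, hYX.lift_fst]
    rw [← hYQ.lift_fst _ _ w, Category.assoc, hαβ, ← Category.assoc, hYQ.lift_snd]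

theorem restricts_iff {Y Z YU YX YQ : Sp (Spec (CommRingCat.of R))} {πY : Y ⟶ (yon _).obj (pt R)}
    {inU : sp R (Localization.Away f) ⟶ pt R} {inX : sp R R' ⟶ pt R}
    {uY : YU ⟶ Y} {sY : YU ⟶ (yon _).obj (sp R (Localization.Away f))} (hYU : IsPullback uY sY πY ((yon _).map inU))
    {xY : YX ⟶ Y} {rY : YX ⟶ (yon _).obj (sp R R')} (hYX : IsPullback xY rY πY ((yon _).map inX))
    {m₁ : YQ ⟶ YU} {m₂ : YQ ⟶ YX} (hYQ : IsPullback m₁ m₂ uY xY) (α : YU ⟶ Z) (β : YX ⟶ Z)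
    (hαβ : m₁ ≫ α = m₂ ≫ β) (φ : Y ⟶ Z) :
    (datumOf hYU hYX hYQ α β hαβ).Restricts (𝟙 Y) φ ↔ uY ≫ φ = α ∧ xY ≫ φ = β := by
  constructor
  · intro h
    constructor
    · refine K635.Glue.hom_ext_yon fun T t => ?_
      obtain ⟨s, hs⟩ := (yon _).map_surjective (t ≫ sY)
      have h1 := (h (t ≫ uY)).1 s
      rw [← Category.assoc, h1]
      change hYU.lift ((t ≫ uY) ≫ 𝟙 Y) ((yon _).map s) _ ≫ α = t ≫ α
      congr 1
      apply hYU.hom_ext
      · rw [hYU.lift_fst, Category.comp_id]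
      · rw [hYU.lift_snd, hs]
    · refine K635.Glue.hom_ext_yon fun T t => ?_
      obtain ⟨s, hs⟩ := (yon _).map_surjective (t ≫ rY)
      have h1 := (h (t ≫ xY)).2 s
      rw [← Category.assoc, h1]
      change hYX.lift ((t ≫ xY) ≫ 𝟙 Y) ((yon _).map s) _ ≫ β = t ≫ β
      congr 1
      apply hYX.hom_ext
      · rw [hYX.lift_fst, Category.comp_id]
      · rw [hYX.lift_snd, hs]
  · rintro ⟨rfl, rfl⟩ T t
    refine ⟨fun s => ?_, fun s => ?_⟩
    · change t ≫ φ = hYU.lift (t ≫ 𝟙 Y) ((yon _).map s) _ ≫ uY ≫ φ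
      rw [← Category.assoc, hYU.lift_fst, Category.comp_id]
    · change t ≫ φ = hYX.lift (t ≫ 𝟙 Y) ((yon _).map s) _ ≫ xY ≫ φ
      rw [← Category.assoc, hYX.lift_fst, Category.comp_id]

end K627.GlueSpace
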