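import Groth.Agent.AlgSp.K627.GluePush
import Groth.Agent.AlgSp.K641.SpecAlg
import Groth.Agent.AlgSp.K641.Glueable
import Groth.Agent.S10724
import Groth.Agent.S10727
import Mathlib.RingTheory.Localization.BaseChange

/-!
# Beauville-Laszlo squares of affine schemes over `Spec R`
-/

set_option autoImplicit false
universe u

open CategoryTheory CategoryTheory.Limits AlgebraicGeometry TensorProduct

namespace K627.GlueSq

open K641.SpecAlg

variable {R : Type u} [CommRing R]

/-- The final object of schemes over `Spec R`. -/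
noncomputable abbrev pt (R : Type u) [CommRing R] : Over (Spec (CommRingCat.of R)) := Over.mk (𝟙 _)

/-- The morphism of spectra of an algebra map. -/
noncomputable abbrev spMap {A B : Type u} [CommRing A] [CommRing B] [Algebra R A] [Algebra R B]
    (ψ : A →ₐ[R] B) : sp R B ⟶ sp R A :=
  Over.homMk (Spec.map (CommRingCat.ofHom ψ.toRingHom)) (by
    change Spec.map _ ≫ Spec.map _ = Spec.map _
    rw [← Spec.map_comp, ← CommRingCat.ofHom_comp]
    congr 2
    exact ψ.comp_algebraMap)

theorem hom_pt_ext {T : Over (Spec (CommRingCat.of R))} (x y : T ⟶ pt R) : x = y :=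
  Over.mkIdTerminal.hom_ext x y

theorem exists_spMap {A B : Type u} [CommRing A] [CommRing B] [Algebra R A] [Algebra R B]
    (φ : sp R B ⟶ sp R A) : ∃ ψ : A →ₐ[R] B, φ = spMap ψ := by
  obtain ⟨ψ, hψ⟩ := exists_algHom φ
  exact ⟨ψ, by ext1; exact hψ⟩

theorem spMap_injective {A B : Type u} [CommRing A] [CommRing B] [Algebra R A] [Algebra R B]
    {ψ ψ' : A →ₐ[R] B} (h : spMap ψ = spMap ψ') : ψ = ψ' := by
  have h1 : Spec.map (CommRingCat.ofHom ψ.toRingHom) = Spec.map (CommRingCat.ofHom ψ'.toRingHom) :=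
    congrArg (fun q => q.left) h
  have h2 := congrArg (fun m => m.hom) (Spec.map_injective h1)
  exact AlgHom.coe_ringHom_injective h2

theorem spMap_comp {A B C : Type u} [CommRing A] [CommRing B] [CommRing C] [Algebra R A] [Algebra R B]
    [Algebra R C] (ψ : A →ₐ[R] B) (χ : B →ₐ[R] C) : spMap χ ≫ spMap ψ = spMap (χ.comp ψ) := by
  ext1
  exact (Spec.map_comp _ _).symm

/-- The isomorphism of spectra of an algebra isomorphism. -/
noncomputable def spIso {A B : Type u} [CommRing A] [CommRing B] [Algebra R A] [Algebra R B]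
    (e : A ≃ₐ[R] B) : sp R B ≅ sp R A where
  hom := spMap e.toAlgHom
  inv := spMap e.symm.toAlgHom
  hom_inv_id := by
    rw [spMap_comp]
    ext1
    refine Eq.trans ?_ (Spec.map_id _)
    change Spec.map _ = Spec.map _
    congr 1
    apply CommRingCat.hom_ext
    ext x
    exact e.apply_symm_apply x
  inv_hom_id := by
    rw [spMap_comp]
    ext1
    refine Eq.trans ?_ (Spec.map_id _)
    change Spec.map _ = Spec.map _
    congr 1
    apply CommRingCat.hom_ext
    ext x
    exact e.symm_apply_apply x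

theorem isPullback_sp {A B C : Type u} [CommRing A] [CommRing B] [CommRing C] [Algebra R A] [Algebra R B]
    [Algebra R C] [Algebra A C] [Algebra B C] [IsScalarTower R A C] [IsScalarTower R B C]
    [Algebra.IsPushout R A B C] (x : sp R A ⟶ pt R) (y : sp R B ⟶ pt R) :
    IsPullback (spMap (IsScalarTower.toAlgHom R A C)) (spMap (IsScalarTower.toAlgHom R B C)) x y := by
  refine IsPullback.of_map (Over.forget _) (hom_pt_ext _ _) ?_
  have h1 : x.left = Spec.map (CommRingCat.ofHom (algebraMap R A)) :=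
    (Category.comp_id _).symm.trans (Over.w x)
  have h2 : y.left = Spec.map (CommRingCat.ofHom (algebraMap R B)) :=
    (Category.comp_id _).symm.trans (Over.w y)
  change IsPullback (Spec.map (CommRingCat.ofHom (algebraMap A C))) (Spec.map (CommRingCat.ofHom (algebraMap B C)))
    x.left y.left
  rw [h1, h2]
  exact isPullback_SpecMap_of_isPushout _ _ _ _ (CommRingCat.isPushout_of_isPushout R A B C)

section Glue

variable {R' : Type u} [CommRing R'] [Algebra R R'] {f : R}

attribute [local instance] Algebra.TensorProduct.rightAlgebra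

/-- The localization square. -/
theorem isPullback_away' (D L : Type u) [CommRing D] [Algebra R D] [CommRing L] [Algebra D L] [Algebra R L]
    [IsScalarTower R D L] [IsLocalization.Away (algebraMap R D f) L] (x : sp R D ⟶ pt R)
    (y : sp R (Localization.Away f) ⟶ pt R) :
    ∃ m : sp R L ⟶ sp R (Localization.Away f),
      IsPullback (spMap (IsScalarTower.toAlgHom R D L)) m x y := by
  have hu : IsUnit (algebraMap R L f) := by
    rw [IsScalarTower.algebraMap_apply R D L]
    exact IsLocalization.map_units L (⟨algebraMap R D f, Submonoid.mem_powers _⟩ : Submonoid.powers (algebraMap R D f))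
  let _ : Algebra (Localization.Away f) L :=
    (IsLocalization.Away.lift f hu : Localization.Away f →+* L).toAlgebra
  have : IsScalarTower R (Localization.Away f) L :=
    IsScalarTower.of_algebraMap_eq (fun x => by
      rw [RingHom.algebraMap_toAlgebra, IsLocalization.Away.lift_eq])
  have h0 : IsLocalization (Algebra.algebraMapSubmonoid D (Submonoid.powers f)) L := by
    have h : Algebra.algebraMapSubmonoid D (Submonoid.powers f) = Submonoid.powers (algebraMap R D f) := by
      rw [Algebra.algebraMapSubmonoid, Submonoid.map_powers]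
    rw [h]; infer_instance
  have h1 : Algebra.IsPushout R D (Localization.Away f) L :=
    Algebra.isPushout_of_isLocalization (Submonoid.powers f) (Localization.Away f) D L
  exact ⟨_, isPullback_sp (R := R) (A := D) (B := Localization.Away f) (C := L) x y⟩

theorem isPullback_away (D : Type u) [CommRing D] [Algebra R D] (x : sp R D ⟶ pt R)
    (y : sp R (Localization.Away f) ⟶ pt R) :
    ∃ m : sp R (Localization.Away (algebraMap R D f)) ⟶ sp R (Localization.Away f),
      IsPullback (spMap (IsScalarTower.toAlgHom R D (Localization.Away (algebraMap R D f)))) m x y :=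
  isPullback_away' D _ x y

theorem exists_iso_away' (D L : Type u) [CommRing D] [Algebra R D] [CommRing L] [Algebra D L] [Algebra R L]
    [IsScalarTower R D L] [IsLocalization.Away (algebraMap R D f) L] {P : Over (Spec (CommRingCat.of R))}
    {j : P ⟶ sp R D} {pU : P ⟶ sp R (Localization.Away f)} {x : sp R D ⟶ pt R}
    {y : sp R (Localization.Away f) ⟶ pt R} (sq : IsPullback j pU x y) :
    ∃ (e : sp R L ≅ P), e.hom ≫ j = spMap (IsScalarTower.toAlgHom R D _) := by
  obtain ⟨m, sq'⟩ := isPullback_away' D L x y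
  exact ⟨sq'.isoIsPullback _ _ sq, sq'.isoIsPullback_hom_fst _ _ sq⟩

theorem exists_iso_away (D : Type u) [CommRing D] [Algebra R D] {P : Over (Spec (CommRingCat.of R))}
    {j : P ⟶ sp R D} {pU : P ⟶ sp R (Localization.Away f)} {x : sp R D ⟶ pt R}
    {y : sp R (Localization.Away f) ⟶ pt R} (sq : IsPullback j pU x y) :
    ∃ (e : sp R (Localization.Away (algebraMap R D f)) ≅ P),
      e.hom ≫ j = spMap (IsScalarTower.toAlgHom R D _) :=
  exists_iso_away' D _ sq

/-- The base change square. -/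
theorem exists_iso_tensor (D : Type u) [CommRing D] [Algebra R D] {P : Over (Spec (CommRingCat.of R))}
    {k : P ⟶ sp R D} {pX : P ⟶ sp R R'} {x : sp R D ⟶ pt R}
    {y : sp R R' ⟶ pt R} (sq : IsPullback k pX x y) :
    ∃ (e : sp R (R' ⊗[R] D) ≅ P), e.hom ≫ k = spMap (IsScalarTower.toAlgHom R D _) ∧
      e.hom ≫ pX = spMap (IsScalarTower.toAlgHom R R' _) := by
  have sq' := isPullback_sp (R := R) (A := D) (B := R') (C := R' ⊗[R] D) x y
  exact ⟨sq'.isoIsPullback _ _ sq, sq'.isoIsPullback_hom_fst _ _ sq, sq'.isoIsPullback_hom_snd _ _ sq⟩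

theorem isIso_left {A B : Over (Spec (CommRingCat.of R))} (e : A ≅ B) : IsIso e.hom.left :=
  inferInstanceAs (IsIso ((Over.forget _).map e.hom))

/-- The underlying isomorphism of schemes. -/
noncomputable abbrev leftIso {A B : Over (Spec (CommRingCat.of R))} (e : A ≅ B) : A.left ≅ B.left :=
  (Over.forget _).mapIso e

/-- Morphisms of affine schemes over `Spec R` glue. -/
theorem exists_hom (h : EtGlue.IsGlueingPair R R' f) {D : Type u} [CommRing D] [Algebra R D]
    (hD : EtGlue.IsGlueable R R' f D) {P P' Q V : Over (Spec (CommRingCat.of R))} [IsAffine V.left]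
    {j : P ⟶ sp R D} {k : P' ⟶ sp R D} {a : Q ⟶ P} {b : Q ⟶ P'} (sq : IsPullback a b j k)
    {pU : P ⟶ sp R (Localization.Away f)} {pX : P' ⟶ sp R R'} {x x' : sp R D ⟶ pt R}
    {y : sp R (Localization.Away f) ⟶ pt R} {y' : sp R R' ⟶ pt R} (sqU : IsPullback j pU x y)
    (sqX : IsPullback k pX x' y') (u : P ⟶ V) (v : P' ⟶ V) (huv : a ≫ u = b ≫ v) :
    ∃ w : sp R D ⟶ V, j ≫ w = u ∧ k ≫ w = v := by
  obtain ⟨e₁, he₁⟩ := exists_iso_away D sqU
  obtain ⟨e₂, he₂, -⟩ := exists_iso_tensor D sqX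
  have hgp := K363.GlueAlg.glueingPair_baseChange D h hD
  obtain ⟨w, hw1, hw2⟩ := K627.GluePush.exists_hom hgp (sq.map (Over.forget _)) (leftIso e₁)
    (congrArg (fun q => q.left) he₁) (leftIso e₂) (congrArg (fun q => q.left) he₂) u.left v.left
    (congrArg (fun q => q.left) huv)
  have hw : w ≫ V.hom = (sp R D).hom := by
    refine K627.GluePush.hom_ext hgp j.left k.left (leftIso e₁).hom (congrArg (fun q => q.left) he₁) (leftIso e₂).hom
      (congrArg (fun q => q.left) he₂) ?_ ?_
    · have : j.left ≫ w = u.left := hw1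
      rw [reassoc_of% this, Over.w u, Over.w j]
    · have : k.left ≫ w = v.left := hw2
      rw [reassoc_of% this, Over.w v, Over.w k]
  refine ⟨Over.homMk w hw, ?_, ?_⟩
  · ext1; exact hw1
  · ext1; exact hw2

theorem hom_ext (h : EtGlue.IsGlueingPair R R' f) {D : Type u} [CommRing D] [Algebra R D]
    (hD : EtGlue.IsGlueable R R' f D) {P P' V : Over (Spec (CommRingCat.of R))} [IsAffine V.left]
    {j : P ⟶ sp R D} {k : P' ⟶ sp R D}
    {pU : P ⟶ sp R (Localization.Away f)} {pX : P' ⟶ sp R R'} {x x' : sp R D ⟶ pt R}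
    {y : sp R (Localization.Away f) ⟶ pt R} {y' : sp R R' ⟶ pt R} (sqU : IsPullback j pU x y)
    (sqX : IsPullback k pX x' y') {u v : sp R D ⟶ V} (hj : j ≫ u = j ≫ v) (hk : k ≫ u = k ≫ v) : u = v := by
  obtain ⟨e₁, he₁⟩ := exists_iso_away D sqU
  obtain ⟨e₂, he₂, -⟩ := exists_iso_tensor D sqX
  have hgp := K363.GlueAlg.glueingPair_baseChange D h hD
  ext1
  exact K627.GluePush.hom_ext hgp j.left k.left (leftIso e₁).hom (congrArg (fun q => q.left) he₁) (leftIso e₂).hom
      (congrArg (fun q => q.left) he₂) (congrArg (fun q => q.left) hj) (congrArg (fun q => q.left) hk)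

/-- `Spec R_f ⟶ Spec R` is a monomorphism. -/
theorem hom_U_ext {T : Over (Spec (CommRingCat.of R))} (x y : T ⟶ sp R (Localization.Away f)) : x = y := by
  have : Mono (Spec.map (CommRingCat.ofHom (algebraMap R (Localization.Away f)))) := inferInstance
  ext1
  rw [← cancel_mono (Spec.map (CommRingCat.ofHom (algebraMap R (Localization.Away f))))]
  exact (Over.w x).trans (Over.w y).symm

/-- Affine schemes over `Spec R_f` and `Spec R'`, identified over `Spec R'_f`, glue to a glueable affine scheme. -/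
theorem exists_glue (h : EtGlue.IsGlueingPair R R' f) {P P' Q : Over (Spec (CommRingCat.of R))} [IsAffine P.left]
    [IsAffine P'.left] {pU : P ⟶ sp R (Localization.Away f)} {pX : P' ⟶ sp R R'} {a : Q ⟶ P} {b : Q ⟶ P'}
    {x : P ⟶ pt R} {y : P' ⟶ pt R} {u : sp R (Localization.Away f) ⟶ pt R} {v : sp R R' ⟶ pt R}
    (sq₁ : IsPullback a (b ≫ pX) x v) (sq₂ : IsPullback b (a ≫ pU) y u) :
    ∃ (D : Type u) (_ : CommRing D) (_ : Algebra R D) (_ : EtGlue.IsGlueable R R' f D) (j : P ⟶ sp R D)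
      (k : P' ⟶ sp R D) (z : sp R D ⟶ pt R), IsPullback j pU z u ∧ IsPullback k pX z v ∧ a ≫ j = b ≫ k := by
  obtain ⟨A₁, _, _, ⟨ε⟩⟩ := exists_algebra P
  obtain ⟨A', _, _, ⟨ε'⟩⟩ := exists_algebra P'
  obtain ⟨ψ, hψ⟩ := exists_spMap (ε.hom ≫ pU)
  obtain ⟨χ, hχ⟩ := exists_spMap (ε'.hom ≫ pX)
  have hu : IsUnit (algebraMap R A₁ f) := by
    have h1 : IsUnit (algebraMap R (Localization.Away f) f) :=
      IsLocalization.map_units (Localization.Away f) (⟨f, Submonoid.mem_powers f⟩ : Submonoid.powers f)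
    have h2 := h1.map ψ
    rwa [AlgHom.commutes] at h2
  let _ : Algebra R' A' := χ.toRingHom.toAlgebra
  have : IsScalarTower R R' A' := IsScalarTower.of_algebraMap_eq fun r => (χ.commutes r).symm
  -- the two descriptions of `Q`
  have sq₁' : IsPullback (a ≫ ε.inv) (b ≫ pX) (ε.hom ≫ x) v :=
    IsPullback.of_iso sq₁ (Iso.refl _) ε.symm (Iso.refl _) (Iso.refl _) (by simp) (by simp) (by simp) (by simp)
  have sq₂' : IsPullback (b ≫ ε'.inv) (a ≫ pU) (ε'.hom ≫ y) u :=
    IsPullback.of_iso sq₂ (Iso.refl _) ε'.symm (Iso.refl _) (Iso.refl _) (by simp) (by simp) (by simp) (by simp)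
  obtain ⟨θ₁, hθ₁, hθ₁'⟩ := exists_iso_tensor A₁ sq₁'
  obtain ⟨θ₂, hθ₂⟩ := exists_iso_away A' sq₂'
  obtain ⟨φ, hφ⟩ := exists_spMap (θ₁.hom ≫ θ₂.inv)
  obtain ⟨φ', hφ'⟩ := exists_spMap (θ₂.hom ≫ θ₁.inv)
  have hχ' : spMap χ = spMap (IsScalarTower.toAlgHom R R' A') := by
    congr 1
  have hφφ' : φ.comp φ' = AlgHom.id R _ := by
    apply spMap_injective
    rw [← spMap_comp, ← hφ, ← hφ']
    simp only [Category.assoc, Iso.inv_hom_id_assoc, Iso.hom_inv_id]
    ext1
    exact (Spec.map_id _).symm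
  have hφ'φ : φ'.comp φ = AlgHom.id R _ := by
    apply spMap_injective
    rw [← spMap_comp, ← hφ, ← hφ']
    simp only [Category.assoc, Iso.inv_hom_id_assoc, Iso.hom_inv_id]
    ext1
    exact (Spec.map_id _).symm
  have hlin : φ.comp (IsScalarTower.toAlgHom R R' (Localization.Away (algebraMap R A' f))) =
      IsScalarTower.toAlgHom R R' (R' ⊗[R] A₁) := by
    apply spMap_injective
    rw [← hθ₁', ← spMap_comp, ← hφ]
    have h1 : spMap (IsScalarTower.toAlgHom R R' (Localization.Away (algebraMap R A' f))) =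
        spMap (IsScalarTower.toAlgHom R A' (Localization.Away (algebraMap R A' f))) ≫ spMap χ := by
      rw [spMap_comp]
      congr 1
    rw [h1, ← hθ₂, ← hχ]
    simp only [Category.assoc, Iso.inv_hom_id_assoc]
  let Φ : Localization.Away (algebraMap R A' f) ≃ₐ[R'] R' ⊗[R] A₁ :=
    AlgEquiv.ofRingEquiv (f := (AlgEquiv.ofAlgHom φ φ' hφφ' hφ'φ).toRingEquiv) fun r => AlgHom.congr_fun hlin r
  obtain ⟨D, _, _, hD, e₁, e', hcomp⟩ := Groth.Agent.S10727.result R R' f h A₁ hu A' Φ
  let j₀ : D →ₐ[R] A₁ := e₁.toAlgHom.comp (IsScalarTower.toAlgHom R D (Localization.Away (algebraMap R D f)))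
  let k₀ : D →ₐ[R] A' := (e'.toAlgHom.restrictScalars R).comp (IsScalarTower.toAlgHom R D (R' ⊗[R] D))
  let z : sp R D ⟶ pt R := Over.mkIdTerminal.from _
  refine ⟨D, inferInstance, inferInstance, hD, ε.inv ≫ spMap j₀, ε'.inv ≫ spMap k₀, z, ?_, ?_, ?_⟩
  · obtain ⟨m, sq⟩ := isPullback_away (f := f) D z u
    refine IsPullback.of_iso sq ((spIso e₁).symm ≪≫ ε) (Iso.refl _) (Iso.refl _) (Iso.refl _) ?_ (hom_U_ext _ _)
      (hom_pt_ext _ _) (hom_pt_ext _ _)
    have h1 : (spIso e₁).inv ≫ spMap j₀ = spMap (IsScalarTower.toAlgHom R D (Localization.Away (algebraMap R D f))) := by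
      rw [← spMap_comp]
      exact (spIso e₁).inv_hom_id_assoc _
    simp [h1]
  · have sq := isPullback_sp (R := R) (A := D) (B := R') (C := R' ⊗[R] D) z v
    let e'' : (R' ⊗[R] D) ≃ₐ[R] A' := e'.restrictScalars R
    refine IsPullback.of_iso sq ((spIso e'').symm ≪≫ ε') (Iso.refl _) (Iso.refl _) (Iso.refl _) ?_ ?_
      (hom_pt_ext _ _) (hom_pt_ext _ _)
    · have h1 : (spIso e'').inv ≫ spMap k₀ = spMap (IsScalarTower.toAlgHom R D (R' ⊗[R] D)) := by
        have : spMap k₀ = spMap e''.toAlgHom ≫ spMap (IsScalarTower.toAlgHom R D (R' ⊗[R] D)) := by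
          rw [spMap_comp]
          rfl
        rw [this]
        exact (spIso e'').inv_hom_id_assoc _
      simp [h1]
    · have h1 : (spIso e'').inv ≫ spMap χ = spMap (IsScalarTower.toAlgHom R R' (R' ⊗[R] D)) := by
        change spMap _ ≫ spMap χ = _
        rw [spMap_comp]
        congr 1
        apply AlgHom.ext
        intro r
        exact (AlgEquiv.symm_apply_eq e').2 (e'.commutes r).symm
      simp [← h1, ← hχ]
  · rw [← cancel_epi θ₁.hom]
    have h1 : θ₁.hom ≫ a = spMap (IsScalarTower.toAlgHom R A₁ (R' ⊗[R] A₁)) ≫ ε.hom := by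
      rw [← hθ₁]; simp
    have h2 : θ₁.hom ≫ b = spMap φ ≫ spMap (IsScalarTower.toAlgHom R A' (Localization.Away (algebraMap R A' f))) ≫ ε'.hom := by
      rw [← hθ₂, ← hφ]; simp
    rw [reassoc_of% h1, reassoc_of% h2, Iso.hom_inv_id_assoc, Iso.hom_inv_id_assoc, spMap_comp, spMap_comp, spMap_comp]
    congr 1
    apply AlgHom.ext
    intro d
    exact (hcomp d).symm

/-- The third square of a glued affine scheme. -/
theorem isPullback_of_glue {P P' Q D : Over (Spec (CommRingCat.of R))} {pX : P' ⟶ sp R R'} {a : Q ⟶ P} {b : Q ⟶ P'}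
    {x : P ⟶ pt R} {v : sp R R' ⟶ pt R} (sq₁ : IsPullback a (b ≫ pX) x v) {j : P ⟶ D} {k : P' ⟶ D} {z : D ⟶ pt R}
    (sqX : IsPullback k pX z v) (w : a ≫ j = b ≫ k) : IsPullback a b j k := by
  have h1 : IsPullback (b ≫ pX) a v (j ≫ z) := by
    rw [hom_pt_ext (j ≫ z) x]
    exact sq₁.flip
  exact (IsPullback.of_right h1 w.symm sqX.flip).flip

/-- `P` and `P'` jointly cover `Spec D`. -/
theorem jointly_surjective (h : EtGlue.IsGlueingPair R R' f) {D : Type u} [CommRing D] [Algebra R D]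
    {P P' : Over (Spec (CommRingCat.of R))} {j : P ⟶ sp R D} {k : P' ⟶ sp R D}
    {pU : P ⟶ sp R (Localization.Away f)} {pX : P' ⟶ sp R R'} {x x' : sp R D ⟶ pt R}
    {y : sp R (Localization.Away f) ⟶ pt R} {y' : sp R R' ⟶ pt R} (sqU : IsPullback j pU x y)
    (sqX : IsPullback k pX x' y') (t : ↥(sp R D).left) :
    (∃ p : ↥P.left, j.left p = t) ∨ ∃ p : ↥P'.left, k.left p = t := by
  obtain ⟨e₁, he₁⟩ := exists_iso_away D sqU
  obtain ⟨e₂, he₂, -⟩ := exists_iso_tensor D sqX
  have h1 : ∀ g : D, g = algebraMap R D f ^ 1 → Function.Bijective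
      (Ideal.quotientMap (Ideal.map (algebraMap D (R' ⊗[R] D)) (Ideal.span {g})) (algebraMap D (R' ⊗[R] D))
        Ideal.le_comap_map) := by
    rintro _ rfl
    exact K363.GlueAlg.quotPow_baseChange D h.1 1 one_pos
  rcases Groth.Agent.S7065.result (algebraMap R D f) (h1 _ (pow_one _).symm) t with ⟨q, hq⟩ | ⟨q, hq⟩
  · right
    refine ⟨e₂.hom.left q, ?_⟩
    have h3 : (e₂.hom ≫ k).left q = t := by
      rw [he₂]; exact hq
    exact h3
  · left
    refine ⟨e₁.hom.left q, ?_⟩
    have h3 : (e₁.hom ≫ j).left q = t := by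
      rw [he₁]; exact hq
    exact h3

/-- Affine schemes etale over a glueable affine scheme are glueable. -/
theorem exists_glueable_of_etale (h : EtGlue.IsGlueingPair R R' f) {A : Type u} [CommRing A] [Algebra R A]
    (hA : EtGlue.IsGlueable R R' f A) {W : Over (Spec (CommRingCat.of R))} [IsAffine W.left] (t : W ⟶ sp R A)
    (ht : Etale t.left) : ∃ (B : Type u) (_ : CommRing B) (_ : Algebra R B), EtGlue.IsGlueable R R' f B ∧
      Nonempty (sp R B ≅ W) := by
  obtain ⟨B, _, _, ⟨e⟩⟩ := exists_algebra W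
  obtain ⟨ψ, hψ⟩ := exists_spMap (e.hom ≫ t)
  let _ : Algebra A B := ψ.toRingHom.toAlgebra
  have : IsScalarTower R A B := IsScalarTower.of_algebraMap_eq fun r => (ψ.commutes r).symm
  have h1 : Etale (e.hom.left ≫ t.left) := by
    have := isIso_left e
    infer_instance
  have hfl : Flat (Spec.map (CommRingCat.ofHom ψ.toRingHom)) := by
    have h2 : e.hom.left ≫ t.left = Spec.map (CommRingCat.ofHom ψ.toRingHom) := congrArg (fun q => q.left) hψ
    rw [← h2]
    infer_instance
  have : Module.Flat A B := Flat.SpecMap_iff.1 hfl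
  exact ⟨B, inferInstance, inferInstance, K641.Glueable.of_flat h hA, ⟨e⟩⟩

/-- Glueing detects etale morphisms. -/
theorem etale_of_glue (h : EtGlue.IsGlueingPair R R' f) {A D : Type u} [CommRing A] [Algebra R A]
    [CommRing D] [Algebra R D] (hA : EtGlue.IsGlueable R R' f A) (hD : EtGlue.IsGlueable R R' f D)
    {P P' TU TX : Over (Spec (CommRingCat.of R))} {j : P ⟶ sp R D} {k : P' ⟶ sp R D}
    {pU : P ⟶ sp R (Localization.Away f)} {pX : P' ⟶ sp R R'} {x x' : sp R D ⟶ pt R}
    {y : sp R (Localization.Away f) ⟶ pt R} {y' : sp R R' ⟶ pt R} (sqU : IsPullback j pU x y)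
    (sqX : IsPullback k pX x' y') {jA : TU ⟶ sp R A} {kA : TX ⟶ sp R A}
    {pUA : TU ⟶ sp R (Localization.Away f)} {pXA : TX ⟶ sp R R'} {xA xA' : sp R A ⟶ pt R}
    {yA : sp R (Localization.Away f) ⟶ pt R} {yA' : sp R R' ⟶ pt R} (sqUA : IsPullback jA pUA xA yA)
    (sqXA : IsPullback kA pXA xA' yA') (δ : sp R D ⟶ sp R A) (p : P ⟶ TU) (p' : P' ⟶ TX)
    (hp : j ≫ δ = p ≫ jA) (hp' : k ≫ δ = p' ≫ kA) (hpX : pX = p' ≫ pXA) (hpe : Etale p.left) (hpe' : Etale p'.left) :
    Etale δ.left := by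
  obtain ⟨ψ, rfl⟩ := exists_spMap δ
  let L := Localization.Away (ψ.toRingHom (algebraMap R A f))
  have hL : IsLocalization.Away (algebraMap R D f) L := by
    have : ψ.toRingHom (algebraMap R A f) = algebraMap R D f := ψ.commutes f
    rw [← this]
    infer_instance
  obtain ⟨e₁, he₁⟩ := exists_iso_away' D L sqU
  obtain ⟨e₂, he₂, he₂'⟩ := exists_iso_tensor D sqX
  obtain ⟨ε₁, hε₁⟩ := exists_iso_away A sqUA
  obtain ⟨ε₂, hε₂, hε₂'⟩ := exists_iso_tensor A sqXA
  obtain ⟨ρ, hρ⟩ := exists_spMap (e₁.hom ≫ p ≫ ε₁.inv)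
  obtain ⟨ρ', hρ'⟩ := exists_spMap (e₂.hom ≫ p' ≫ ε₂.inv)
  have h1 : ρ.toRingHom = Localization.awayMap ψ.toRingHom (algebraMap R A f) := by
    have h3 : ρ.comp (IsScalarTower.toAlgHom R A _) = (IsScalarTower.toAlgHom R D L).comp ψ := by
      apply spMap_injective
      rw [← spMap_comp, ← spMap_comp, ← hρ, ← he₁, ← hε₁]
      simp only [Category.assoc, Iso.inv_hom_id_assoc]
      rw [hp]
    refine IsLocalization.ringHom_ext (Submonoid.powers (algebraMap R A f)) ?_
    refine RingHom.ext fun r => ?_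
    refine (AlgHom.congr_fun h3 r).trans ?_
    change _ = Localization.awayMap ψ.toRingHom (algebraMap R A f) (algebraMap A _ r)
    rw [Localization.awayMap, IsLocalization.Away.map, IsLocalization.map_eq]
    rfl
  have h2 : ρ' = Algebra.TensorProduct.map (AlgHom.id R R') ψ := by
    have h3 : ρ'.comp (IsScalarTower.toAlgHom R A (R' ⊗[R] A)) = (IsScalarTower.toAlgHom R D (R' ⊗[R] D)).comp ψ := by
      apply spMap_injective
      rw [← spMap_comp, ← spMap_comp, ← hρ', ← he₂, ← hε₂]
      simp only [Category.assoc, Iso.inv_hom_id_assoc]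
      rw [hp']
    have h4 : ρ'.comp (IsScalarTower.toAlgHom R R' (R' ⊗[R] A)) = IsScalarTower.toAlgHom R R' (R' ⊗[R] D) := by
      apply spMap_injective
      rw [← spMap_comp, ← hρ', ← he₂', ← hε₂']
      simp only [Category.assoc, Iso.inv_hom_id_assoc]
      rw [hpX]
    refine Algebra.TensorProduct.ext' fun r' a => ?_
    have h5 : r' ⊗ₜ[R] a = (r' ⊗ₜ[R] (1 : A)) * ((1 : R') ⊗ₜ[R] a) := by
      rw [Algebra.TensorProduct.tmul_mul_tmul, mul_one, one_mul]
    have h6 : ρ' (r' ⊗ₜ[R] (1 : A)) = r' ⊗ₜ[R] (1 : D) := AlgHom.congr_fun h4 r'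
    have h7 : ρ' ((1 : R') ⊗ₜ[R] a) = (1 : R') ⊗ₜ[R] ψ a := AlgHom.congr_fun h3 a
    rw [h5, map_mul, h6, h7, Algebra.TensorProduct.tmul_mul_tmul, mul_one, one_mul, map_mul,
      Algebra.TensorProduct.map_tmul, Algebra.TensorProduct.map_tmul, Algebra.TensorProduct.tmul_mul_tmul]
    simp
  have := isIso_left e₁
  have := isIso_left e₂
  have : IsIso ε₁.inv.left := isIso_left ε₁.symm
  have : IsIso ε₂.inv.left := isIso_left ε₂.symm
  have h3 : Etale (Spec.map (CommRingCat.ofHom ρ.toRingHom)) := by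
    have h4 : e₁.hom.left ≫ p.left ≫ ε₁.inv.left = Spec.map (CommRingCat.ofHom ρ.toRingHom) :=
      congrArg (fun q => q.left) hρ
    rw [← h4]
    infer_instance
  have h4 : Etale (Spec.map (CommRingCat.ofHom ρ'.toRingHom)) := by
    have h4 : e₂.hom.left ≫ p'.left ≫ ε₂.inv.left = Spec.map (CommRingCat.ofHom ρ'.toRingHom) :=
      congrArg (fun q => q.left) hρ'
    rw [← h4]
    infer_instance
  rw [HasRingHomProperty.Spec_iff (P := @Etale)] at h3 h4
  refine (HasRingHomProperty.Spec_iff (P := @Etale)).2 ?_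
  refine (Groth.Agent.S10724.result R R' f h A D hA hD ψ).2 ⟨?_, ?_⟩
  · rw [← h1]; exact h3
  · rw [← h2]; exact h4

end Glue

end K627.GlueSq
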