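import Groth.Prelude.Def_W4stk3sptopologiesPh
import Groth.Agent.AlgSp.K597.EtLoc
import Groth.Agent.AlgSp.K597.LocP

/-!
# ph coverings of algebraic spaces: base change
-/

set_option autoImplicit false

universe u

open CategoryTheory CategoryTheory.Limits AlgebraicGeometry Opposite AlgSp

namespace K627.PhBasic

variable {S : Scheme.{u}}

theorem isPhCover_of_isPullback {X X' : Sp S} (hX : IsAlgSpace X) (hX' : IsAlgSpace X') (a : X' ⟶ X)
    {ι : Type u} {Xi : ι → Sp S} (hXi : ∀ i, IsAlgSpace (Xi i)) {g : ∀ i, Xi i ⟶ X}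
    {Xi' : ι → Sp S} {q : ∀ i, Xi' i ⟶ X'} {p : ∀ i, Xi' i ⟶ Xi i}
    (sq : ∀ i, IsPullback (q i) (p i) a (g i)) (h : IsPhCover Xi g) : IsPhCover Xi' q := by
  refine ⟨fun i => K597.locP_bc K597.etLoc_lft (sq i).flip (hXi i).hasAtlas hX.hasAtlas hX'.hasAtlas (h.1 i),
    fun Z hZ k => ?_⟩
  obtain ⟨F, hF, hj⟩ := h.2 Z hZ (k ≫ a)
  refine ⟨F, hF, fun j => ?_⟩
  obtain ⟨i, l, hl⟩ := hj j
  rw [← Category.assoc] at hl
  exact ⟨i, (sq i).lift _ _ hl.symm, (sq i).lift_fst _ _ hl.symm⟩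

end K627.PhBasic
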