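import Groth.Agent.AlgSp.K627.PhSigma
import Groth.Agent.AlgSp.K596.SepSurj
import Groth.Agent.AlgSp.K595.DiagRel
import Groth.Agent.AlgSt.K738.YonProps

/-!
# Proper surjective morphisms and ph coverings of algebraic spaces

* `isProperMor_of_isPullback`, `isProperMor_comp`.
* `WeakChow S`: an algebraic space separated and of finite type over an affine scheme receives a proper surjective
  morphism from a scheme.
* `isPhCover_of_proper_surjective`: under `WeakChow S`, proper surjective morphisms are ph coverings.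
-/

set_option autoImplicit false

universe u v

open CategoryTheory CategoryTheory.Limits AlgebraicGeometry Opposite AlgSp

namespace K627.PhProper

open K627.PhSigma

variable {S : Scheme.{u}}

theorem isProperMor_of_isPullback {X Y Z P : Sp S} (hX : IsAlgSpace X) (hZ : IsAlgSpace Z) (hY : IsAlgSpace Y)
    {f : X ⟶ Z} {g : Y ⟶ Z} {fst : P ⟶ X} {snd : P ⟶ Y} (sq : IsPullback fst snd f g) (hf : IsProperMor f) :
    IsProperMor snd :=
  ⟨(IsSeparatedMor (S := S)).of_isPullback sq hf.1,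
    ⟨K597.locP_bc K597.etLoc_lft sq hX.hasAtlas hZ.hasAtlas hY.hasAtlas hf.2.1.1,
      K596.QC.isQuasiCompactMor_of_isPullback sq hf.2.1.2⟩,
    K596.ClosedQC.isUnivClosedMor_of_isPullback sq hf.2.2⟩

theorem isProperMor_comp {X Y Z : Sp S} (hX : IsAlgSpace X) (hY : IsAlgSpace Y) (hZ : IsAlgSpace Z)
    {f : X ⟶ Y} {g : Y ⟶ Z} (hf : IsProperMor f) (hg : IsProperMor g) : IsProperMor (f ≫ g) :=
  ⟨(IsSeparatedMor (S := S)).comp_mem f g hf.1 hg.1,
    ⟨K597.locP_comp K597.etLoc_lft hX.hasAtlas hY.hasAtlas hZ.hasAtlas hf.2.1.1 hg.2.1.1,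
      K596.QC.isQuasiCompactMor_comp hY hZ hf.2.1.2 hg.2.1.2⟩,
    K596.SepSurj.isUnivClosedMor_comp hY hZ hf.2.2 hg.2.2⟩

/-- A lift through a proper surjective morphism of schemes gives a standard ph covering. -/
theorem phLifts_of_proper {X : Sp S} {ι : Type v} {Y : ι → Sp S} {g : ∀ i, Y i ⟶ X} {Z : Over S} (hZ : IsAffine Z.left)
    {k : (yon S).obj Z ⟶ X} {T : Over S} (t : T ⟶ Z) (ht : IsProper t.left) (hts : Surjective t.left) (i : ι)
    (l : (yon S).obj T ⟶ Y i) (hl : l ≫ g i = (yon S).map t ≫ k) : PhLifts Y g k := by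
  let E : PreZeroHypercover.{0} Z.left :=
    { I₀ := PUnit
      X := fun _ => T.left
      f := fun _ => t.left }
  have hE : K345.PhRef.IsPhRef (𝟙 Z.left) E := ⟨T.left, t.left, ht, hts,
    K345.PhRef.LocFacOn.of_fac (E := E) PUnit.unit (𝟙 T.left)
      ((Category.id_comp t.left).trans (Category.comp_id t.left).symm) _⟩
  obtain ⟨F, hF, hr⟩ := K345.PhStd.exists_isStandardPh_of_isPhRef hE
  refine ⟨F, hF, fun j => ?_⟩
  obtain ⟨_, h, hh⟩ := hr j
  have hh' : h ≫ t.left = F.f j := by simpa using hh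
  let m : Over.mk (F.f j ≫ Z.hom) ⟶ T := Over.homMk h (by
    change h ≫ T.hom = F.f j ≫ Z.hom
    rw [← hh', Category.assoc, Over.w])
  refine ⟨i, (yon S).map m ≫ l, ?_⟩
  rw [Category.assoc, hl, ← Category.assoc, ← Functor.map_comp]
  congr 2
  ext1
  exact hh'

variable (S) in
/-- The weak form of Chow's lemma: an algebraic space separated and of finite type over an affine scheme receives a
proper surjective morphism from a scheme. -/
def WeakChow : Prop :=
  ∀ (Z : Over S), IsAffine Z.left → ∀ (X : Sp S), IsAlgSpace X → ∀ (p : X ⟶ (yon S).obj Z),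
    IsSeparatedMor p → IsFiniteTypeMor p →
    ∃ (T : Over S) (g : (yon S).obj T ⟶ X), IsProperMor g ∧ IsSurjectiveMor g

theorem isPhCover_of_proper_surjective (hC : WeakChow S) {X Y : Sp S} (hX : IsAlgSpace X) (hY : IsAlgSpace Y)
    {f : Y ⟶ X} (hf : IsProperMor f) (hs : IsSurjectiveMor f) :
    IsPhCover (fun _ : PUnit.{u + 1} => Y) (fun _ => f) := by
  refine ⟨fun _ => hf.2.1.1, fun Z hZ k => ?_⟩
  have sq := IsPullback.of_hasPullback f k
  have hP : IsAlgSpace (pullback f k) := K613.Chart.isAlgSpace_pullback hY (IsAlgSpace.yon_obj _) hX f k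
  have hp := isProperMor_of_isPullback hY hX (IsAlgSpace.yon_obj Z) sq hf
  have hps : IsSurjectiveMor (pullback.snd f k) := K596.Pts.surjective_of_isPullback sq hs
  obtain ⟨T, g, hg, hgs⟩ := hC Z hZ _ hP (pullback.snd f k) hp.1 hp.2.1
  have h1 := isProperMor_comp (IsAlgSpace.yon_obj T) hP (IsAlgSpace.yon_obj Z) hg hp
  have h2 : IsSurjectiveMor (g ≫ pullback.snd f k) := by
    intro z
    obtain ⟨y, rfl⟩ := hps z
    obtain ⟨x, rfl⟩ := hgs y
    exact ⟨x, Points.map_comp _ _ _⟩
  obtain ⟨t, ht⟩ := (yon S).map_surjective (g ≫ pullback.snd f k)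
  rw [← ht] at h1 h2
  have h3 : Surjective t.left := by
    refine ⟨fun z => ?_⟩
    obtain ⟨y, hy⟩ := h2 (Points.schemeHomeo Z z)
    obtain ⟨x, rfl⟩ := (Points.schemeHomeo T).surjective y
    rw [Points.map_yon_map_apply] at hy
    exact ⟨x, (Points.schemeHomeo Z).injective hy⟩
  refine phLifts_of_proper hZ t ((K738.isProperMor_yon_iff t).1 h1) h3 PUnit.unit (g ≫ pullback.fst f k) ?_
  rw [ht, Category.assoc, Category.assoc, sq.w]

end K627.PhProper
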