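import Groth.Agent.AlgSp.K601.RelChow
import Groth.Agent.AlgSp.K627.PhProper

/-!
# The weak form of Chow's lemma over affine schemes over `S`
-/

set_option autoImplicit false
universe u

open CategoryTheory CategoryTheory.Limits AlgebraicGeometry AlgSp

namespace K627.PhProper

theorem weakChow (S : Scheme.{u}) : WeakChow S := by
  intro Z hZ X hX p hp hp'
  obtain ⟨T, g, -, -, -, hg, hg'⟩ := K601.RelChow.exists_relChow hZ hX p hp hp'
  exact ⟨T, g, hg, hg'⟩

end K627.PhProper
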