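import Groth.Agent.AlgSp.K627.PhSigma
import Groth.Agent.AlgSp.K629.Cover
import Groth.Agent.AlgSp.K629.EtLocInst
import Groth.Agent.S7190

/-!
# fppf coverings of algebraic spaces are ph coverings
-/

set_option autoImplicit false

universe u v

open CategoryTheory CategoryTheory.Limits AlgebraicGeometry Opposite AlgSp

namespace K627.PhFppf

open K627.PhSigma

variable {S : Scheme.{u}}

/-- A jointly surjective family of morphisms which have `P` on charts, pulled back to a scheme, is refined by a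
jointly surjective family of schemes over it with property `P`. -/
theorem exists_scheme_cover {P : MorphismProperty Scheme.{u}} [P.IsStableUnderBaseChange]
    (hPE : ∀ ⦃A B C : Scheme.{u}⦄ (f : A ⟶ B) (e : B ⟶ C), P f → Etale e → P (f ≫ e))
    {X : Sp S} (hX : IsAlgSpace X) {ι : Type u} (Xi : ι → Sp S) (g : ∀ i, Xi i ⟶ X)
    (hXi : ∀ i, IsAlgSpace (Xi i)) (hP : ∀ i, LocP P (g i))
    (hg : ∀ x : Points X, ∃ i, x ∈ Set.range (Points.map (g i)))
    {Z : Over S} (k : (yon S).obj Z ⟶ X) :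
    ∃ (T : ι → Over S) (t : ∀ i, T i ⟶ Z) (l : ∀ i, (yon S).obj (T i) ⟶ Xi i),
      (∀ i, l i ≫ g i = (yon S).map (t i) ≫ k) ∧ (∀ i, P (t i).left) ∧
        ∀ z : ↥Z.left, ∃ i, z ∈ Set.range (t i).left := by
  obtain ⟨U, a, ha, has⟩ := hX.atlas
  obtain ⟨T, t, c, h1, h2, h3⟩ := K629.Cover.exists_charts Xi g hXi hg a ha
  obtain ⟨V, p, q, hV, hq⟩ := K629.Basic.exists_pb_yon ha k
  -- `p : V ⟶ U`, `q : V ⟶ Z` etale
  have hqs : Surjective q.left := has.2 _ _ _ hV
  refine ⟨fun i => pullback p (t i), fun i => pullback.fst p (t i) ≫ q,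
    fun i => (yon S).map (pullback.snd p (t i)) ≫ c i, fun i => ?_, fun i => ?_, fun z => ?_⟩
  · rw [Category.assoc, h2, ← Category.assoc, ← Functor.map_comp, ← pullback.condition, Functor.map_comp,
      Category.assoc, hV.w, ← Category.assoc, ← Functor.map_comp]
  · rw [Over.comp_left]
    refine hPE _ _ ?_ hq
    exact P.of_isPullback ((IsPullback.of_hasPullback p (t i)).map (Over.forget S)).flip
      (hP i (c i) a (t i) (h1 i) ha (h2 i))
  · obtain ⟨v, rfl⟩ := hqs.surj z
    obtain ⟨i, w, hw⟩ := h3 (p.left v)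
    have hsq := ((IsPullback.of_hasPullback p (t i)).map (Over.forget S))
    obtain ⟨y, hy1, -⟩ := Scheme.exists_preimage_of_isPullback hsq v w hw.symm
    refine ⟨i, y, ?_⟩
    change (pullback.fst p (t i) ≫ q).left y = q.left v
    rw [Over.comp_left, Scheme.Hom.comp_apply]
    congr 1

theorem phLifts_of_fppf {X : Sp S} {ι : Type u} (Xi : ι → Sp S) (g : ∀ i, Xi i ⟶ X)
    {Z : Over S} (hZ : IsAffine Z.left) (k : (yon S).obj Z ⟶ X) (T : ι → Over S) (t : ∀ i, T i ⟶ Z)
    (l : ∀ i, (yon S).obj (T i) ⟶ Xi i) (hl : ∀ i, l i ≫ g i = (yon S).map (t i) ≫ k)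
    (ht : ∀ i, (@Flat ⊓ @LocallyOfFinitePresentation : MorphismProperty Scheme.{u}) (t i).left)
    (hs : ∀ z : ↥Z.left, ∃ i, z ∈ Set.range (t i).left) : PhLifts Xi g k := by
  let E : PreZeroHypercover.{u} Z.left :=
    { I₀ := ι
      X := fun i => (T i).left
      f := fun i => (t i).left }
  have hE : HTop.IsPhCover E := Groth.Agent.S7190.result E (fun i => (ht i).1) (fun i => (ht i).2)
    (fun z => by
      obtain ⟨i, x, hx⟩ := hs z
      exact ⟨i, x, hx⟩)
  rw [K345.PhStd.isPhCover_iff] at hE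
  obtain ⟨F, hF, hr⟩ := K345.PhStd.exists_isStandardPh_of_isPhRef (K345.PhStd.isPhRef_of_isPhCover hE.2 (𝟙 Z.left))
  refine ⟨F, hF, fun j => ?_⟩
  obtain ⟨i, h, hh⟩ := hr j
  have hh' : h ≫ (t i).left = F.f j := by simpa using hh
  let m : Over.mk (F.f j ≫ Z.hom) ⟶ T i := Over.homMk h (by
    change h ≫ (T i).hom = F.f j ≫ Z.hom
    rw [← hh', Category.assoc, Over.w])
  refine ⟨i, (yon S).map m ≫ l i, ?_⟩
  rw [Category.assoc, hl, ← Category.assoc, ← Functor.map_comp]
  congr 2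
  ext1
  exact hh'

theorem isPhCover_of_isFppfCover {X : Sp S} (hX : IsAlgSpace X) {ι : Type u}
    {Xi : ι → Sp S} (hXi : ∀ i, IsAlgSpace (Xi i)) {g : ∀ i, Xi i ⟶ X}
    (h : IsFppfCover Xi g) : IsPhCover Xi g := by
  refine ⟨fun i => K597.locP_mono (fun _ _ f hf => ?_) (h.1 i).2, fun Z hZ k => ?_⟩
  · have : LocallyOfFinitePresentation f := hf
    exact inferInstanceAs (LocallyOfFiniteType f)
  · obtain ⟨T, t, l, h1, h2, h3⟩ := exists_scheme_cover
      (P := (@Flat ⊓ @LocallyOfFinitePresentation : MorphismProperty Scheme.{u}))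
      (fun A B C f e hf he => by
        have := hf.1
        have := hf.2
        exact ⟨inferInstanceAs (Flat (f ≫ e)), inferInstanceAs (LocallyOfFinitePresentation (f ≫ e))⟩)
      hX Xi g hXi (fun i => K597.locP_inf_iff.2 (h.1 i)) h.2 k
    exact phLifts_of_fppf Xi g hZ k T t l h1 h2 h3

end K627.PhFppf
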