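import Groth.Prelude.Def_AlgSpCov
import Groth.Prelude.Def_AlgSpEt
import Groth.Agent.AlgSp.K609.Points
import Mathlib.CategoryTheory.Sites.CoverLifting
import Mathlib.CategoryTheory.Sites.CoverPreserving

/-!
# The topologies on algebraic spaces are tested on schemes

* `coTop F J`: the finest topology for which `F` is cocontinuous.
* `spacesTop_eq`: the etale topology on algebraic spaces is `coTop (ofScheme S)` of the etale topology on schemes over `S`.
* pointwise descriptions of covering sieves in the etale topology on schemes over `S` and on `EtOver X`.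
-/

set_option autoImplicit false
set_option backward.isDefEq.respectTransparency false

universe u v₁ v₂ u₁ u₂

open CategoryTheory CategoryTheory.Limits AlgebraicGeometry Opposite AlgSp

namespace K627.SpTop

section General

variable {C : Type u₁} [Category.{v₁} C] {D : Type u₂} [Category.{v₂} D] (F : C ⥤ D)
  (J : GrothendieckTopology C)

/-- The finest topology on the target for which `F` is cocontinuous. -/
def coTop : GrothendieckTopology D where
  sieves X := {R | ∀ (c : C) (g : F.obj c ⟶ X), (R.pullback g).functorPullback F ∈ J c}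
  top_mem' X c g := by
    rw [Sieve.pullback_top, Sieve.functorPullback_top]
    exact J.top_mem c
  pullback_stable' X Y R f hR c g := by
    rw [← Sieve.pullback_comp]
    exact hR c (g ≫ f)
  transitive' X R hR R' hR' c g := by
    refine J.transitive (hR c g) _ fun {c'} h hh => ?_
    have h1 := hR' (f := F.map h ≫ g) hh c' (𝟙 _)
    rw [Sieve.pullback_id] at h1
    refine J.superset_covering ?_ h1
    intro Y k hk
    change R' (F.map (k ≫ h) ≫ g)
    rw [F.map_comp, Category.assoc]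
    exact hk

theorem mem_coTop_iff {X : D} (R : Sieve X) :
    R ∈ coTop F J X ↔ ∀ (c : C) (g : F.obj c ⟶ X), (R.pullback g).functorPullback F ∈ J c := Iff.rfl

/-- `F` is cocontinuous for a topology below `coTop F J`. -/
theorem isCocontinuous_of_le {K : GrothendieckTopology D} (h : K ≤ coTop F J) : F.IsCocontinuous J K where
  cover_lift {U} R hR := by
    have := h _ hR U (𝟙 _)
    rwa [Sieve.pullback_id] at this

end General

variable {S : Scheme.{u}}

/-- The etale topology on schemes over `S`. -/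
abbrev Jet (S : Scheme.{u}) : GrothendieckTopology (Over S) := Scheme.etaleTopology.over S

theorem mem_etaleTopology_iff {T : Scheme.{u}} (R : Sieve T) :
    R ∈ Scheme.etaleTopology T ↔ ∀ t : T, ∃ (T' : Scheme.{u}) (c : T' ⟶ T), Etale c ∧ R c ∧ t ∈ Set.range c := by
  constructor
  · intro h t
    obtain ⟨𝒰, h𝒰⟩ := Scheme.mem_grothendieckTopology_iff.1 h
    obtain ⟨i, y, hy⟩ := 𝒰.exists_eq t
    exact ⟨𝒰.X i, 𝒰.f i, 𝒰.map_prop i, h𝒰 _ _ ⟨i⟩, y, hy⟩
  · intro h
    choose T' c hc hR ht using h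
    refine Scheme.mem_grothendieckTopology_iff.2 ⟨?_, ?_⟩
    · exact
      { I₀ := T
        X := T'
        f := c
        mem₀ := by
          refine (Scheme.ofArrows_mem_precoverage_iff (P := @Etale)).2 ?_
          exact ⟨fun t => ⟨t, ht t⟩, hc⟩ }
    · rw [Presieve.ofArrows_le_iff]
      exact hR

theorem mem_Jet_iff {T : Over S} (R : Sieve T) :
    R ∈ Jet S T ↔ ∀ t : ↥T.left, ∃ (T' : Over S) (c : T' ⟶ T), Etale c.left ∧ R c ∧ t ∈ Set.range c.left := by
  rw [GrothendieckTopology.mem_over_iff, mem_etaleTopology_iff]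
  constructor
  · intro h t
    obtain ⟨T', c, hc, hR, ht⟩ := h t
    rw [Sieve.overEquiv_iff] at hR
    exact ⟨_, _, hc, hR, ht⟩
  · intro h t
    obtain ⟨T', c, hc, hR, ht⟩ := h t
    refine ⟨T'.left, c.left, hc, ?_, ht⟩
    rw [Sieve.overEquiv_iff]
    have : (Over.homMk c.left : Over.mk (c.left ≫ T.hom) ⟶ T) =
        (Over.homMk (𝟙 _) (by simp) : Over.mk (c.left ≫ T.hom) ⟶ T') ≫ c := by
      ext1; simp
    rw [this]
    exact R.downward_closed hR _

/-- Pointwise description of covering sieves of the small etale site. -/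
theorem mem_etTop_iff {X : Sp S} {E : EtOver X} (R : Sieve E) :
    R ∈ etTop X E ↔ ∀ t : ↥E.obj.left.left, ∃ (E' : EtOver X) (g : E' ⟶ E), R g ∧ t ∈ Set.range g.hom.left.left := by
  constructor
  · intro h t
    rw [etTop, Precoverage.mem_toGrothendieck_iff_of_isStableUnderComposition] at h
    obtain ⟨R', hR', hle⟩ := h
    rw [Precoverage.mem_iff_exists_zeroHypercover] at hR'
    obtain ⟨𝒰, rfl⟩ := hR'
    have h1 := (ofArrows_mem_etPre_iff 𝒰.X 𝒰.f).1 𝒰.mem₀ t
    obtain ⟨i, hi⟩ := h1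
    exact ⟨_, 𝒰.f i, hle _ _ ⟨i⟩, hi⟩
  · intro h
    choose E' g hR ht using h
    refine (etTop X).superset_covering ?_ (ofArrows_mem_etTop E' g (fun t => ⟨t, ht t⟩))
    rw [Sieve.ofArrows, Sieve.generate_le_iff, Presieve.ofArrows_le_iff]
    exact hR

/-- The etale topology on algebraic spaces is below the finest topology for which schemes are cocontinuous. -/
theorem spacesTop_le_coTop : spacesTop S IsEtaleMor ≤ coTop (ofScheme S) (Jet S) := by
  rw [spacesTop, Precoverage.toGrothendieck_le_iff_le_toPrecoverage]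
  intro X R hR
  rw [GrothendieckTopology.mem_toPrecoverage_iff, mem_coTop_iff]
  intro T g
  rw [mem_Jet_iff]
  intro t
  obtain ⟨Y, h, hRh, y, hy⟩ := hR.2 (Points.ofPt g.hom t)
  obtain ⟨U, p, hp, hps⟩ := Y.property.atlas
  obtain ⟨u, rfl⟩ := K609.Points.surjective_ofPt_of_repWith_surjective hps y
  have hph : RepWith @Etale (p ≫ h.hom) := hR.1 h hRh p hp
  obtain ⟨W, snd, fst, sq⟩ := hph.1 g.hom
  have hsnd : Etale snd.left := hph.2 g.hom fst snd sq
  obtain ⟨fst', rfl⟩ := (yon S).map_surjective fst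
  rw [Points.map_ofPt] at hy
  obtain ⟨w, -, hw⟩ := (K609.Points.ofPt_eq_ofPt_iff sq u t).1 hy
  refine ⟨W, snd, hsnd, ?_, w, hw⟩
  change Sieve.generate R ((ofScheme S).map snd ≫ g)
  refine ⟨Y, ObjectProperty.homMk ((yon S).map fst' ≫ p), h, hRh, ?_⟩
  ext1
  change ((yon S).map fst' ≫ p) ≫ h.hom = (yon S).map snd ≫ g.hom
  rw [Category.assoc, sq.w]

theorem coTop_le_spacesTop : coTop (ofScheme S) (Jet S) ≤ spacesTop S IsEtaleMor := by
  intro X R hR
  obtain ⟨U, p, hp, hps⟩ := X.property.atlas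
  have h1 := hR U (ObjectProperty.homMk p)
  rw [mem_Jet_iff] at h1
  let R' : Presieve X := fun Y h => R h ∧ IsEtaleMor h.hom
  have hR' : R' ∈ spacesPre S IsEtaleMor X := by
    refine ⟨fun Y h hh => hh.2, fun x => ?_⟩
    obtain ⟨u, rfl⟩ := K609.Points.surjective_ofPt_of_repWith_surjective hps x
    obtain ⟨U', c, hc, hRc, u', rfl⟩ := h1 u
    refine ⟨(ofScheme S).obj U', (ofScheme S).map c ≫ ObjectProperty.homMk p, ⟨hRc, ?_⟩,
      Points.ofScheme U' u', ?_⟩
    · exact isEtaleMor_of_repWith _ ((repWith_isMultiplicative (S := S) @Etale).comp_mem _ _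
        ((repWith_yon_map_iff _ c).2 hc) hp)
    · change Points.map ((yon S).map c ≫ p) (Points.ofScheme U' u') = _
      rw [← Points.ofPt_eq_map_ofScheme, K609.Points.ofPt_yon_map_comp]
  refine (spacesTop S IsEtaleMor).superset_covering ?_ (Precoverage.generate_mem_toGrothendieck hR')
  rw [Sieve.generate_le_iff]
  exact fun Y h hh => hh.1

/-- The etale topology on algebraic spaces over `S` is the finest topology for which the inclusion of schemes is
cocontinuous. -/
theorem spacesTop_eq : spacesTop S IsEtaleMor = coTop (ofScheme S) (Jet S) :=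
  le_antisymm spacesTop_le_coTop coTop_le_spacesTop

theorem mem_spacesTop_iff {X : Space S} (R : Sieve X) :
    R ∈ spacesTop S IsEtaleMor X ↔ ∀ (T : Over S) (g : (ofScheme S).obj T ⟶ X) (t : ↥T.left),
      ∃ (T' : Over S) (c : T' ⟶ T), Etale c.left ∧ R ((ofScheme S).map c ≫ g) ∧ t ∈ Set.range c.left := by
  rw [spacesTop_eq, mem_coTop_iff]
  refine forall_congr' fun T => forall_congr' fun g => ?_
  rw [mem_Jet_iff]
  rfl

/-- On a scheme, covering sieves of the etale topology on spaces are tested on schemes etale over it. -/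
theorem mem_spacesTop_ofScheme_iff {T : Over S} (R : Sieve ((ofScheme S).obj T)) :
    R ∈ spacesTop S IsEtaleMor ((ofScheme S).obj T) ↔ ∀ (t : ↥T.left),
      ∃ (T' : Over S) (c : T' ⟶ T), Etale c.left ∧ R ((ofScheme S).map c) ∧ t ∈ Set.range c.left := by
  constructor
  · intro h t
    obtain ⟨T', c, hc, hR, ht⟩ := (mem_spacesTop_iff R).1 h T (𝟙 _) t
    rw [Category.comp_id] at hR
    exact ⟨T', c, hc, hR, ht⟩
  · intro h
    let R' : Presieve ((ofScheme S).obj T) := fun Y g => R g ∧ IsEtaleMor g.hom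
    have hR' : R' ∈ spacesPre S IsEtaleMor _ := by
      refine ⟨fun Y h hh => hh.2, fun x => ?_⟩
      obtain ⟨t, rfl⟩ := K609.Points.ofScheme_surjective T x
      obtain ⟨U', c, hc, hRc, u', rfl⟩ := h t
      refine ⟨(ofScheme S).obj U', (ofScheme S).map c, ⟨hRc, (isEtaleMor_yon_map_iff c).2 hc⟩,
        Points.ofScheme U' u', K609.Points.map_yon_map_ofScheme c u'⟩
    refine (spacesTop S IsEtaleMor).superset_covering ?_ (Precoverage.generate_mem_toGrothendieck hR')
    rw [Sieve.generate_le_iff]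
    exact fun Y h hh => hh.1

/-- Membership in `overEquiv` of a sieve, tested on a morphism of `Over X` with the given underlying morphism. -/
theorem mem_of_overEquiv {D : Type*} [Category D] {X : D} {A B : Over X} (R : Sieve A) (g : B ⟶ A)
    (h : Sieve.overEquiv A R g.left) : R g := by
  rw [Sieve.overEquiv_iff] at h
  have : g = (Over.homMk (𝟙 B.left) (by simp) : B ⟶ Over.mk (g.left ≫ A.hom)) ≫
      (Over.homMk g.left : Over.mk (g.left ≫ A.hom) ⟶ A) := by
    ext1; simp
  rw [this]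
  exact R.downward_closed h _

theorem overEquiv_of_mem {D : Type*} [Category D] {X : D} {A B : Over X} (R : Sieve A) (g : B ⟶ A)
    (h : R g) : Sieve.overEquiv A R g.left := by
  rw [Sieve.overEquiv_iff]
  have : (Over.homMk g.left : Over.mk (g.left ≫ A.hom) ⟶ A) =
      (Over.homMk (𝟙 B.left) (by simp) : Over.mk (g.left ≫ A.hom) ⟶ B) ≫ g := by
    ext1; simp
  rw [this]
  exact R.downward_closed h _

/-- Composing an object of the small etale site with an etale morphism of schemes. -/
noncomputable abbrev etMk {Y : Sp S} (E : EtOver Y) {T' : Over S} (c : T' ⟶ E.obj.left) (hc : Etale c.left) :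
    EtOver Y :=
  EtOver.mk ((yon S).map c ≫ E.obj.hom)
    ((repWith_isMultiplicative (S := S) @Etale).comp_mem _ _ ((repWith_yon_map_iff _ c).2 hc) E.property)

/-- The morphism from the composed object. -/
noncomputable abbrev etMkHom {Y : Sp S} (E : EtOver Y) {T' : Over S} (c : T' ⟶ E.obj.left) (hc : Etale c.left) :
    etMk E c hc ⟶ E := EtOver.homMk c rfl

theorem isCocontinuous_etOver {X Y : Space S} (f : Y ⟶ X) :
    (AlgSp.EtOver.toEtSpOver Y ⋙ ObjectProperty.ι (fun E : Over Y => AlgSp.IsEtaleMor E.hom.hom) ⋙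
        Over.map f).IsCocontinuous (AlgSp.etTop Y.obj) (AlgSp.spacesTopOver AlgSp.IsEtaleMor X) := by
  refine ⟨fun {E} R hR => ?_⟩
  rw [GrothendieckTopology.mem_over_iff] at hR
  rw [mem_etTop_iff]
  intro t
  obtain ⟨T', c, hc, hRc, ht⟩ := (mem_spacesTop_ofScheme_iff (T := E.obj.left) _).1 hR t
  refine ⟨_, etMkHom E c hc, ?_, ht⟩
  exact mem_of_overEquiv R ((AlgSp.EtOver.toEtSpOver Y ⋙
    ObjectProperty.ι (fun E : Over Y => AlgSp.IsEtaleMor E.hom.hom) ⋙ Over.map f).map (etMkHom E c hc)) hRc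

theorem coverPreserving_etOver {X Y : Space S} (f : Y ⟶ X) :
    CoverPreserving (AlgSp.etTop Y.obj) (AlgSp.spacesTopOver AlgSp.IsEtaleMor X)
      (AlgSp.EtOver.toEtSpOver Y ⋙ ObjectProperty.ι (fun E : Over Y => AlgSp.IsEtaleMor E.hom.hom) ⋙
        Over.map f) := by
  refine ⟨fun {E} R hR => ?_⟩
  rw [GrothendieckTopology.mem_over_iff]
  refine (mem_spacesTop_ofScheme_iff (T := E.obj.left) _).2 fun t => ?_
  obtain ⟨E', g, hRg, ht⟩ := (mem_etTop_iff R).1 hR t
  exact ⟨E'.obj.left, g.hom.left, EtOver.etale_left g, overEquiv_of_mem _ _ (Sieve.image_mem_functorPushforward _ _ hRg), ht⟩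

theorem compatiblePreserving_etOver {X Y : Space S} (f : Y ⟶ X) :
    CompatiblePreserving (AlgSp.spacesTopOver AlgSp.IsEtaleMor X)
      (AlgSp.EtOver.toEtSpOver Y ⋙ ObjectProperty.ι (fun E : Over Y => AlgSp.IsEtaleMor E.hom.hom) ⋙
        Over.map f) := by
  refine ⟨fun ℱ {E} R x hx {E₁ E₂ W} f₁ f₂ {g₁ g₂} hg₁ hg₂ w => ?_⟩
  have sq : IsPullback ((yon S).map (pullback.fst g₁.hom.left g₂.hom.left))
      ((yon S).map (pullback.snd g₁.hom.left g₂.hom.left)) ((yon S).map g₁.hom.left) ((yon S).map g₂.hom.left) :=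
    (IsPullback.of_hasPullback g₁.hom.left g₂.hom.left).map (yon S)
  have w' : f₁.left.hom ≫ (yon S).map g₁.hom.left = f₂.left.hom ≫ (yon S).map g₂.hom.left :=
    congrArg (fun k => k.left.hom) w
  let G := AlgSp.EtOver.toEtSpOver Y ⋙ ObjectProperty.ι (fun E : Over Y => AlgSp.IsEtaleMor E.hom.hom) ⋙
        Over.map f
  have hl : sq.lift _ _ w' ≫ ((yon S).map (pullback.fst g₁.hom.left g₂.hom.left) ≫ E₁.obj.hom) ≫ f.hom =
      W.hom.hom := by
    rw [Category.assoc, sq.lift_fst_assoc]
    exact congrArg (fun k => k.hom) (Over.w f₁)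
  let l : W ⟶ G.obj (EtOver.pullbackObj g₁ g₂) :=
    Over.homMk (ObjectProperty.homMk (sq.lift _ _ w')) (by ext1; exact hl)
  have h₁ : l ≫ G.map (EtOver.pullbackFst g₁ g₂) = f₁ := by
    apply Over.OverMorphism.ext
    ext1
    exact sq.lift_fst _ _ w'
  have h₂ : l ≫ G.map (EtOver.pullbackSnd g₁ g₂) = f₂ := by
    apply Over.OverMorphism.ext
    ext1
    exact sq.lift_snd _ _ w'
  have key := hx (EtOver.pullbackFst g₁ g₂) (EtOver.pullbackSnd g₁ g₂) hg₁ hg₂ (EtOver.pullback_condition g₁ g₂)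
  have key' : ℱ.obj.map (G.map (EtOver.pullbackFst g₁ g₂)).op (x g₁ hg₁) =
      ℱ.obj.map (G.map (EtOver.pullbackSnd g₁ g₂)).op (x g₂ hg₂) := key
  calc ℱ.obj.map f₁.op (x g₁ hg₁) = ℱ.obj.map l.op (ℱ.obj.map (G.map (EtOver.pullbackFst g₁ g₂)).op (x g₁ hg₁)) := by
        rw [← Functor.map_comp_apply, ← op_comp]
        exact congrArg (fun k => ℱ.obj.map k.op (x g₁ hg₁)) h₁.symm
    _ = ℱ.obj.map l.op (ℱ.obj.map (G.map (EtOver.pullbackSnd g₁ g₂)).op (x g₂ hg₂)) := by rw [key']
    _ = ℱ.obj.map f₂.op (x g₂ hg₂) := by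
        rw [← Functor.map_comp_apply, ← op_comp]
        exact congrArg (fun k => ℱ.obj.map k.op (x g₂ hg₂)) h₂

theorem isContinuous_etOver {X Y : Space S} (f : Y ⟶ X) :
    (AlgSp.EtOver.toEtSpOver Y ⋙ ObjectProperty.ι (fun E : Over Y => AlgSp.IsEtaleMor E.hom.hom) ⋙
        Over.map f).IsContinuous (AlgSp.etTop Y.obj) (AlgSp.spacesTopOver AlgSp.IsEtaleMor X) :=
  Functor.isContinuous_of_coverPreserving (compatiblePreserving_etOver f) (coverPreserving_etOver f)

end K627.SpTop
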