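import Groth.Agent.AlgSp.K627.PhProper
import Groth.Agent.AlgSp.K627.PhFppf
import Groth.Agent.AlgSp.K627.SpTop
import Mathlib.CategoryTheory.Sites.Canonical
import Mathlib.CategoryTheory.Limits.Constructions.Over.Connected

/-!
# Sheaves for the ph topology on algebraic spaces

* `spacesTop_le_phSpacesTop`: the etale topology is contained in the ph topology.
* `isSheaf_phSpacesTopOver_iff`: the ph sheaf condition is the etale sheaf condition plus the sheaf condition for
  proper surjective morphisms (under the weak form of Chow's lemma).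
-/

set_option autoImplicit false
set_option backward.isDefEq.respectTransparency false

universe u v w

open CategoryTheory CategoryTheory.Limits AlgebraicGeometry Opposite AlgSp

namespace K627.PhSheaf

open K627.PhSigma K627.SpTop K627.PhProper K627.PhFppf

variable {S : Scheme.{u}}

/-- `PhLifts` through members of a presieve. -/
theorem mem_phSpacesPre_of_phLifts {Y : Space S} (R : Presieve Y)
    (h1 : ∀ ⦃Y' : Space S⦄ (g : Y' ⟶ Y), R g → LocP @LocallyOfFiniteType g.hom)
    (h2 : ∀ (Z : Over S), IsAffine Z.left → ∀ (h : (yon S).obj Z ⟶ Y.obj),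
      ∃ (ι : Type u) (Yi : ι → Space S) (g : ∀ i, Yi i ⟶ Y), (∀ i, R (g i)) ∧
        PhLifts (fun i => (Yi i).obj) (fun i => (g i).hom) h) : R ∈ phSpacesPre S Y := by
  refine ⟨h1, fun Z hZ h => ?_⟩
  obtain ⟨ι, Yi, g, hg, F, hF, hj⟩ := h2 Z hZ h
  refine ⟨F, hF, fun j => ?_⟩
  obtain ⟨i, l, hl⟩ := hj j
  exact ⟨Yi i, g i, hg i, l, hl⟩

theorem spacesPre_le_phSpacesPre {Y : Space S} (R : Presieve Y) (hR : R ∈ spacesPre S IsEtaleMor Y) :
    R ∈ phSpacesPre S Y := by
  refine mem_phSpacesPre_of_phLifts R (fun Y' g hg => ?_) fun Z hZ h => ?_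
  · refine K597.locP_mono (fun _ _ f hf => ?_) (K597.locP_etale_of_isEtaleMor (hR.1 g hg))
    have : Etale f := hf
    exact inferInstanceAs (LocallyOfFiniteType f)
  · have hR' : Sieve.generate R ∈ spacesTop S IsEtaleMor Y := Precoverage.generate_mem_toGrothendieck hR
    have h3 := (mem_spacesTop_iff _).1 hR' Z (ObjectProperty.homMk h)
    choose T c hc hm ht using h3
    choose Y' l k hk hlk using hm
    refine ⟨Z.left, Y', k, hk, phLifts_of_fppf _ _ hZ h T c (fun z => (l z).hom) (fun z => ?_) (fun z => ?_)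
      (fun z => ⟨z, ht z⟩)⟩
    · exact congrArg (fun m => m.hom) (hlk z)
    · have := hc z
      exact ⟨inferInstanceAs (Flat (c z).left), inferInstanceAs (LocallyOfFinitePresentation (c z).left)⟩

theorem spacesTop_le_phSpacesTop : spacesTop S IsEtaleMor ≤ phSpacesTop S := by
  rw [spacesTop, Precoverage.toGrothendieck_le_iff_le_toPrecoverage]
  intro X R hR
  rw [GrothendieckTopology.mem_toPrecoverage_iff]
  exact Precoverage.generate_mem_toGrothendieck (spacesPre_le_phSpacesPre R hR)

theorem spacesTopOver_le_phSpacesTopOver (X : Space S) :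
    spacesTopOver IsEtaleMor X ≤ phSpacesTopOver X := by
  intro U R hR
  rw [GrothendieckTopology.mem_over_iff] at hR ⊢
  exact spacesTop_le_phSpacesTop _ hR

/-- Pullback squares in `Over X`, tested in sheaves. -/
theorem isPullback_over {X : Space S} {P A B C : Over X} {fst : P ⟶ A} {snd : P ⟶ B} {f : A ⟶ C} {g : B ⟶ C}
    (h : IsPullback fst.left.hom snd.left.hom f.left.hom g.left.hom) : IsPullback fst snd f g := by
  have h1 : IsPullback fst.left snd.left f.left g.left := by
    refine IsPullback.of_map (ObjectProperty.ι _) ?_ h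
    ext1
    exact h.w
  refine IsPullback.of_map (Over.forget X) ?_ h1
  ext1
  exact h1.w

theorem generate_singleton_pullback {C : Type*} [Category C] {P A B D : C} {fst : P ⟶ A} {snd : P ⟶ B}
    {f : A ⟶ D} {g : B ⟶ D} (h : IsPullback fst snd f g) :
    (Sieve.generate (Presieve.singleton f)).pullback g = Sieve.generate (Presieve.singleton snd) := by
  ext T k
  constructor
  · rintro ⟨_, l, _, ⟨⟩, hl⟩
    exact ⟨_, h.lift l k hl, _, ⟨⟩, h.lift_snd _ _ _⟩
  · rintro ⟨_, l, _, ⟨⟩, hl⟩
    refine ⟨_, l ≫ fst, _, ⟨⟩, ?_⟩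
    rw [Category.assoc, h.w, reassoc_of% hl]

/-- The condition on proper surjective morphisms. -/
def ProperCond {X : Space S} (F : (Over X)ᵒᵖ ⥤ Type w) : Prop :=
  ∀ ⦃U V W : Over X⦄ (f : V ⟶ U) (p q : W ⟶ V),
        AlgSp.IsProperMor f.left.hom → AlgSp.IsSurjectiveMor f.left.hom →
        IsPullback p.left.hom q.left.hom f.left.hom f.left.hom →
        ∀ t : F.obj (Opposite.op V), F.map p.op t = F.map q.op t →
          ∃! s : F.obj (Opposite.op U), F.map f.op s = t

/-- Fibre products in `Over X`. -/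
theorem exists_isPullback_over {X : Space S} {A B C : Over X} (f : A ⟶ C) (g : B ⟶ C) :
    ∃ (P : Over X) (fst : P ⟶ A) (snd : P ⟶ B), IsPullback fst.left.hom snd.left.hom f.left.hom g.left.hom := by
  have hP : IsAlgSpace (pullback f.left.hom g.left.hom) :=
    K613.Chart.isAlgSpace_pullback A.left.property B.left.property C.left.property f.left.hom g.left.hom
  let P' : Space S := ⟨pullback f.left.hom g.left.hom, hP⟩
  let b : P' ⟶ B.left := ObjectProperty.homMk (pullback.snd f.left.hom g.left.hom)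
  let a : P' ⟶ A.left := ObjectProperty.homMk (pullback.fst f.left.hom g.left.hom)
  refine ⟨Over.mk (b ≫ B.hom), Over.homMk a ?_, Over.homMk b rfl, IsPullback.of_hasPullback _ _⟩
  have h1 : a ≫ f.left = b ≫ g.left := by
    ext1
    exact pullback.condition
  change a ≫ A.hom = b ≫ B.hom
  rw [← Over.w f, ← Over.w g, reassoc_of% h1]

theorem isSheafFor_singleton_of_properCond {X : Space S} {F : (Over X)ᵒᵖ ⥤ Type w} (hF : ProperCond F)
    {U V : Over X} (f : V ⟶ U) (hf : IsProperMor f.left.hom) (hs : IsSurjectiveMor f.left.hom) :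
    Presieve.IsSheafFor F (Presieve.singleton f) := by
  rw [Presieve.isSheafFor_singleton]
  intro t ht
  obtain ⟨W, p, q, sq⟩ := exists_isPullback_over f f
  exact hF f p q hf hs sq t (ht p q (isPullback_over sq).w)

theorem generate_singleton_mem_of_properCond {X : Space S} {F : (Over X)ᵒᵖ ⥤ Type w} (hF : ProperCond F)
    {U V : Over X} (f : V ⟶ U) (hf : IsProperMor f.left.hom) (hs : IsSurjectiveMor f.left.hom) :
    Sieve.generate (Presieve.singleton f) ∈ Sheaf.finestTopologySingle F U := by
  intro U' h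
  obtain ⟨V', a, f', sq⟩ := exists_isPullback_over f h
  rw [generate_singleton_pullback (isPullback_over sq), ← Presieve.isSheafFor_iff_generate]
  exact isSheafFor_singleton_of_properCond hF f'
    (isProperMor_of_isPullback V.left.property U.left.property U'.left.property sq hf)
    (K596.Pts.surjective_of_isPullback sq hs)

/-- Members of a ph covering sieve cover a scheme, for the topologies which contain the etale coverings and the
proper surjective morphisms. -/
theorem mem_of_isStandardPh {X : Space S} (J : GrothendieckTopology (Over X))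
    (hJ1 : spacesTopOver IsEtaleMor X ≤ J)
    (hJ2 : ∀ ⦃U V : Over X⦄ (f : V ⟶ U), IsProperMor f.left.hom → IsSurjectiveMor f.left.hom →
      Sieve.generate (Presieve.singleton f) ∈ J U)
    {Z : Over S} (φ : (ofScheme S).obj Z ⟶ X) (R : Sieve (Over.mk φ)) (F : PreZeroHypercover.{v} Z.left)
    (hF : HTop.IsStandardPh F)
    (hR : ∀ j : F.I₀, Sieve.overEquiv _ R ((ofScheme S).map
      (Over.homMk (F.f j) rfl : Over.mk (F.f j ≫ Z.hom) ⟶ Z))) : R ∈ J (Over.mk φ) := by
  obtain ⟨P, f, ι, hf, hfs, hι, hιf, hcov⟩ := hF.exists_proper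
  let P' : Over S := Over.mk (f ≫ Z.hom)
  let f' : P' ⟶ Z := Over.homMk f rfl
  let m : Over.mk ((ofScheme S).map f' ≫ φ) ⟶ Over.mk φ := Over.homMk ((ofScheme S).map f') rfl
  have hm : Sieve.generate (Presieve.singleton m) ∈ J (Over.mk φ) := by
    refine hJ2 m ((K738.isProperMor_yon_iff f').2 hf) ?_
    intro z
    obtain ⟨z, rfl⟩ := (Points.schemeHomeo Z).surjective z
    obtain ⟨x, rfl⟩ := hfs.surj z
    exact ⟨Points.schemeHomeo P' x, Points.map_yon_map_apply f' x⟩
  refine J.transitive hm R ?_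
  rintro W k ⟨_, l, _, ⟨⟩, rfl⟩
  rw [Sieve.pullback_comp]
  refine J.pullback_stable _ (hJ1 _ ?_)
  rw [GrothendieckTopology.mem_over_iff]
  refine (mem_spacesTop_ofScheme_iff (T := P') _).2 fun t => ?_
  obtain ⟨j, x, rfl⟩ := hcov t
  have := hι j
  have het : Etale (ι j) := inferInstance
  let T' : Over S := Over.mk (F.f j ≫ Z.hom)
  let c : T' ⟶ P' := Over.homMk (ι j) (by
    change ι j ≫ f ≫ Z.hom = F.f j ≫ Z.hom
    rw [← hιf j, Category.assoc])
  refine ⟨T', c, het, ?_, x, rfl⟩
  rw [Sieve.overEquiv_pullback]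
  have e : (ofScheme S).map c ≫ (ofScheme S).map f' = (ofScheme S).map
      (Over.homMk (F.f j) rfl : Over.mk (F.f j ≫ Z.hom) ⟶ Z) := by
    rw [← Functor.map_comp]
    congr 1
    ext1
    exact hιf j
  change Sieve.overEquiv _ R ((ofScheme S).map c ≫ (ofScheme S).map f')
  rw [e]
  exact hR j

theorem phSpacesTopOver_le {X : Space S} (J : GrothendieckTopology (Over X))
    (hJ1 : spacesTopOver IsEtaleMor X ≤ J)
    (hJ2 : ∀ ⦃U V : Over X⦄ (f : V ⟶ U), IsProperMor f.left.hom → IsSurjectiveMor f.left.hom →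
      Sieve.generate (Presieve.singleton f) ∈ J U) : phSpacesTopOver X ≤ J := by
  have key : phSpacesTop S ≤ coTop (Over.forget X) J := by
    rw [phSpacesTop, Precoverage.toGrothendieck_le_iff_le_toPrecoverage]
    intro Y R hR
    rw [GrothendieckTopology.mem_toPrecoverage_iff, mem_coTop_iff]
    intro c g
    -- the sieve of maps factoring through affine schemes
    let E : Sieve c :=
      { arrows := fun c' h => ∃ (Z : Over S) (_ : IsAffine Z.left) (a : c'.left ⟶ (ofScheme S).obj Z)
          (b : (ofScheme S).obj Z ⟶ c.left), a ≫ b = h.left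
        downward_closed := by
          rintro c' c'' h ⟨Z, hZ, a, b, e⟩ k
          exact ⟨Z, hZ, k.left ≫ a, b, by rw [Category.assoc, e]; rfl⟩ }
    have hE : E ∈ J c := by
      refine hJ1 _ ?_
      rw [GrothendieckTopology.mem_over_iff, mem_spacesTop_iff]
      intro T h t
      obtain ⟨V, hV, hv, -⟩ := exists_isAffineOpen_mem_and_subset (x := t) (U := ⊤) (by trivial)
      have : IsAffine (V : Scheme.{u}) := hV
      have het : Etale V.ι := inferInstance
      refine ⟨Over.mk (V.ι ≫ T.hom), Over.homMk V.ι rfl, het, ?_, ⟨t, hv⟩, rfl⟩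
      refine (Sieve.overEquiv_iff _ _).2 ?_
      exact ⟨Over.mk (V.ι ≫ T.hom), hV, 𝟙 _, _, Category.id_comp _⟩
    refine J.transitive hE _ ?_
    rintro c' h ⟨Z, hZ, a, b, e⟩
    let d : Over.mk (b ≫ c.hom) ⟶ c := Over.homMk b rfl
    let l : c' ⟶ Over.mk (b ≫ c.hom) := Over.homMk a (by
      change a ≫ b ≫ c.hom = c'.hom
      rw [← Over.w h, ← e, Category.assoc])
    have hl : h = l ≫ d := by
      ext1
      exact e.symm
    rw [hl, Sieve.pullback_comp]
    refine J.pullback_stable _ ?_
    obtain ⟨F, hF, hj⟩ := hR.2 Z hZ (b ≫ g).hom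
    refine mem_of_isStandardPh J hJ1 hJ2 (b ≫ c.hom) _ F hF fun j => ?_
    obtain ⟨Y', k, hk, m, hm⟩ := hj j
    refine (Sieve.overEquiv_iff _ _).2 ?_
    refine ⟨Y', ObjectProperty.homMk m, k, hk, ?_⟩
    ext1
    refine hm.trans ?_
    change _ = ((ofScheme S).map (Over.homMk (F.f j) rfl : Over.mk (F.f j ≫ Z.hom) ⟶ Z) ≫ b).hom ≫ g.hom
    rfl
  intro U R hR
  rw [GrothendieckTopology.mem_over_iff] at hR
  have h1 : (Sieve.pullback (𝟙 U.left) (Sieve.overEquiv U R)).functorPullback (Over.forget X) ∈ J U :=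
    key _ hR U (𝟙 _)
  rw [Sieve.pullback_id] at h1
  refine J.superset_covering ?_ h1
  intro V k hk
  exact mem_of_overEquiv R k hk

theorem isSheaf_phSpacesTopOver_of {X : Space S} {F : (Over X)ᵒᵖ ⥤ Type w}
    (h : Presheaf.IsSheaf (spacesTopOver IsEtaleMor X) F) (hF : ProperCond F) :
    Presheaf.IsSheaf (phSpacesTopOver X) F := by
  rw [isSheaf_iff_isSheaf_of_type] at h ⊢
  have h1 : phSpacesTopOver X ≤ Sheaf.finestTopologySingle F := by
    refine phSpacesTopOver_le _ (fun U R hR U' f => ?_) fun U V f hf hs =>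
      generate_singleton_mem_of_properCond hF f hf hs
    exact h _ (GrothendieckTopology.pullback_stable _ _ hR)
  intro U R hR
  have h2 := h1 _ hR U (𝟙 _)
  rwa [Sieve.pullback_id] at h2

theorem properCond_of_isSheaf (hC : WeakChow S) {X : Space S} {F : (Over X)ᵒᵖ ⥤ Type w}
    (h : Presheaf.IsSheaf (phSpacesTopOver X) F) : ProperCond F := by
  rw [isSheaf_iff_isSheaf_of_type] at h
  intro U V W f p q hf hs sq t ht
  have hf' : Sieve.generate (Presieve.singleton f) ∈ phSpacesTopOver X U := by
    rw [GrothendieckTopology.mem_over_iff]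
    have h1 : Presieve.ofArrows (fun _ : PUnit.{u + 1} => V.left) (fun _ => f.left) ∈ phSpacesPre S U.left :=
      (ofArrows_mem_phSpacesPre_iff _ _).2
        (isPhCover_of_proper_surjective hC U.left.property V.left.property hf hs)
    refine (phSpacesTop S).superset_covering ?_ (Precoverage.generate_mem_toGrothendieck h1)
    rw [Sieve.generate_le_iff]
    rintro _ _ ⟨⟩
    exact overEquiv_of_mem _ f (Sieve.le_generate _ _ _ ⟨⟩)
  have h2 := h _ hf'
  rw [← Presieve.isSheafFor_iff_generate, Presieve.isSheafFor_singleton] at h2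
  refine h2 t fun p₁ p₂ hp => ?_
  have sq' := isPullback_over sq
  rw [← sq'.lift_fst p₁ p₂ hp, op_comp, F.map_comp_apply, ht, ← F.map_comp_apply, ← op_comp, sq'.lift_snd]

theorem isSheaf_phSpacesTopOver_iff (hC : WeakChow S) {X : Space S} (F : (Over X)ᵒᵖ ⥤ Type w) :
    Presheaf.IsSheaf (phSpacesTopOver X) F ↔
      Presheaf.IsSheaf (spacesTopOver IsEtaleMor X) F ∧ ProperCond F :=
  ⟨fun h => ⟨by
      rw [isSheaf_iff_isSheaf_of_type] at h ⊢
      exact Presieve.isSheaf_of_le _ (spacesTopOver_le_phSpacesTopOver X) h, properCond_of_isSheaf hC h⟩,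
    fun h => isSheaf_phSpacesTopOver_of h.1 h.2⟩

end K627.PhSheaf
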