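import Groth.Prelude.Def_W4stk3sptopologiesPh
import Groth.Agent.AlgSp.K597.EtLoc
import Groth.Agent.AlgSp.K597.LocP
import Groth.Agent.HTop.K345.PhStd

/-!
# ph coverings of algebraic spaces: composition
-/

set_option autoImplicit false

universe u v

open CategoryTheory CategoryTheory.Limits AlgebraicGeometry Opposite AlgSp

namespace K627.PhSigma

variable {S : Scheme.{u}}

/-- The lifting part of the definition of a ph covering of a sheaf, for one morphism `k : h_Z ⟶ X`. -/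
def PhLifts {X : Sp S} {ι : Type v} (Y : ι → Sp S) (g : ∀ i, Y i ⟶ X) {Z : Over S} (k : (yon S).obj Z ⟶ X) : Prop :=
  ∃ (F : PreZeroHypercover.{0} Z.left), HTop.IsStandardPh F ∧
    ∀ j : F.I₀, ∃ (i : ι) (l : (yon S).obj (Over.mk (F.f j ≫ Z.hom)) ⟶ Y i),
      l ≫ g i = (yon S).map (Over.homMk (F.f j) rfl : Over.mk (F.f j ≫ Z.hom) ⟶ Z) ≫ k

/-- Local character of `PhLifts`. -/
theorem PhLifts.trans {X : Sp S} {ι : Type v} {Y : ι → Sp S} {g : ∀ i, Y i ⟶ X} {Z : Over S}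
    {k : (yon S).obj Z ⟶ X} (F : PreZeroHypercover.{0} Z.left) (hF : HTop.IsStandardPh F)
    (h : ∀ j : F.I₀, PhLifts Y g ((yon S).map
      (Over.homMk (F.f j) rfl : Over.mk (F.f j ≫ Z.hom) ⟶ Z) ≫ k)) : PhLifts Y g k := by
  have := hF.isAffine
  choose G hG hlift using h
  obtain ⟨F', hF', ⟨φ⟩⟩ := K345.PhStd.exists_isStandardPh_refining_bind F hF G hG
  refine ⟨F', hF', fun j' => ?_⟩
  obtain ⟨i, l, hl⟩ := hlift (φ.s₀ j').1 (φ.s₀ j').2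
  have hw : φ.h₀ j' ≫ (G (φ.s₀ j').1).f (φ.s₀ j').2 ≫ F.f (φ.s₀ j').1 = F'.f j' := φ.w₀ j'
  let t : Over.mk (F'.f j' ≫ Z.hom) ⟶ Over.mk ((G (φ.s₀ j').1).f (φ.s₀ j').2 ≫
      (Over.mk (F.f (φ.s₀ j').1 ≫ Z.hom)).hom) := Over.homMk (φ.h₀ j') (by
    change φ.h₀ j' ≫ (G (φ.s₀ j').1).f (φ.s₀ j').2 ≫ F.f (φ.s₀ j').1 ≫ Z.hom = F'.f j' ≫ Z.hom
    rw [← hw]; simp only [Category.assoc])
  refine ⟨i, (yon S).map t ≫ l, ?_⟩
  rw [Category.assoc, hl, ← Category.assoc, ← Category.assoc, ← Functor.map_comp, ← Functor.map_comp]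
  congr 2
  ext1
  exact (Category.assoc _ _ _).trans hw

theorem PhLifts.mono {X X' : Sp S} {ι : Type v} {κ : Type v} {Y : ι → Sp S} {g : ∀ i, Y i ⟶ X}
    {Y' : κ → Sp S} {g' : ∀ i, Y' i ⟶ X'} (a : X ⟶ X') {Z : Over S} {k : (yon S).obj Z ⟶ X}
    (h : PhLifts Y g k) (hr : ∀ i, ∃ (j : κ) (m : Y i ⟶ Y' j), m ≫ g' j = g i ≫ a) : PhLifts Y' g' (k ≫ a) := by
  obtain ⟨F, hF, hj⟩ := h
  refine ⟨F, hF, fun j => ?_⟩
  obtain ⟨i, l, hl⟩ := hj j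
  obtain ⟨j', m, hm⟩ := hr i
  exact ⟨j', l ≫ m, by rw [Category.assoc, hm, ← Category.assoc, hl, Category.assoc]⟩

theorem isPhCover_sigma {X : Sp S} (hX : IsAlgSpace X) {ι : Type u} {Xi : ι → Sp S}
    (hXi : ∀ i, IsAlgSpace (Xi i)) {g : ∀ i, Xi i ⟶ X} {κ : ι → Type u} {Xij : ∀ i, κ i → Sp S}
    (hXij : ∀ i j, IsAlgSpace (Xij i j)) {gij : ∀ i j, Xij i j ⟶ Xi i}
    (h : IsPhCover Xi g) (hij : ∀ i, IsPhCover (Xij i) (gij i)) :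
    IsPhCover (fun r : Σ i, κ i => Xij r.1 r.2) (fun r => gij r.1 r.2 ≫ g r.1) := by
  refine ⟨fun r => K597.locP_comp K597.etLoc_lft (hXij r.1 r.2).hasAtlas (hXi r.1).hasAtlas hX.hasAtlas
    ((hij r.1).1 r.2) (h.1 r.1), fun Z hZ k => ?_⟩
  obtain ⟨F, hF, hj⟩ := h.2 Z hZ k
  refine PhLifts.trans F hF fun j => ?_
  obtain ⟨i, l, hl⟩ := hj j
  have := (hij i).2 (Over.mk (F.f j ≫ Z.hom)) (hF.isAffine_obj j) l
  rw [← hl]
  exact PhLifts.mono (g i) this fun m => ⟨⟨i, m⟩, 𝟙 _, Category.id_comp _⟩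

end K627.PhSigma
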